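import Cfsg.Agent.Lib.Recog.OrderSix.Defs
import Cfsg.Agent.Lib.Recog.NineSC.AltConj
import Cfsg.Agent.Lib.CompositeOrder.Reduce

/-!
# Element orders at most six: trivial solvable radical

Then the group is one of `A₅`, `A₆`, `S₅`, `S₆`: an outer automorphism of `A₆` moving the class of
three-cycles would give an element of order eight.
-/

set_option autoImplicit false
set_option linter.unusedSectionVars false
set_option linter.style.haveILetI false

namespace Cfsg.Lib.Recog.OrderSix

open Equiv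

universe u

/-- `A₅`, `A₆`, `S₅` or `S₆`. -/
def IsAlmostAlt (X : Type*) [Group X] : Prop :=
  Nonempty (X ≃* ↥(alternatingGroup (Fin 5))) ∨ Nonempty (X ≃* ↥(alternatingGroup (Fin 6))) ∨
    Nonempty (X ≃* Perm (Fin 5)) ∨ Nonempty (X ≃* Perm (Fin 6))

namespace Almost

def pr : Perm (Fin 6) := swap 0 1 * swap 1 2 * swap 2 3 * swap 4 5
def pu : Perm (Fin 6) := swap 0 2 * swap 4 5
def pa : Perm (Fin 6) := swap 0 1 * swap 1 2
def pz : Perm (Fin 6) := swap 0 2 * swap 1 3

theorem pr_mem : pr ∈ alternatingGroup (Fin 6) := by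
  rw [Perm.mem_alternatingGroup]; decide +kernel
theorem pu_mem : pu ∈ alternatingGroup (Fin 6) := by
  rw [Perm.mem_alternatingGroup]; decide +kernel
theorem pa_mem : pa ∈ alternatingGroup (Fin 6) := by
  rw [Perm.mem_alternatingGroup]; decide +kernel

def qr : ↥(alternatingGroup (Fin 6)) := ⟨pr, pr_mem⟩
def qu : ↥(alternatingGroup (Fin 6)) := ⟨pu, pu_mem⟩
def qa : ↥(alternatingGroup (Fin 6)) := ⟨pa, pa_mem⟩
def qz : ↥(alternatingGroup (Fin 6)) := qr * qr

theorem qz_eq : (qz : Perm (Fin 6)) = pz := by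
  show pr * pr = pz
  decide +kernel

theorem pr_sq : pr * pr = pz := by decide +kernel

theorem invol_conj : ∀ x : Perm (Fin 6), x * x = 1 →
    x = 1 ∨ Perm.sign x ≠ 1 ∨ ∃ n : Perm (Fin 6), n * x * n⁻¹ = pz ∧ Perm.sign n = 1 := by decide +kernel

theorem sqrt_pz : ∀ x : Perm (Fin 6), x * x = pz → x = pr ∨ x = pr⁻¹ ∨ Perm.sign x ≠ 1 := by decide +kernel

theorem invert_pr : ∀ x : Perm (Fin 6), x * pr * x⁻¹ = pr⁻¹ →
    x = pu ∨ x = pu * pr ∨ x = pu * pr ^ 2 ∨ x = pu * pr ^ 3 ∨ Perm.sign x ≠ 1 := by decide +kernel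

theorem no_sq_one : ∀ x : Perm (Fin 6), x * pr = pr * x → x * pu * x⁻¹ = pu * pr ^ 2 → x * x ≠ 1 := by
  decide +kernel

theorem four_norm : ∀ x : Perm (Fin 6), x * pz * x⁻¹ = pa * pz * pa⁻¹ →
    x * (pu * pr) * x⁻¹ = pa * (pu * pr) * pa⁻¹ → x ^ 3 = 1 → x = 1 ∨ x.support.card = 3 := by
  decide +kernel

theorem pa_three : pa.support.card = 3 := by decide +kernel
theorem pa_pz : pa * pz * pa⁻¹ = pu * pr ∨ pa * pz * pa⁻¹ = pz * (pu * pr) := by decide +kernel
theorem pa_pur : pa * (pu * pr) * pa⁻¹ = pz ∨ pa * (pu * pr) * pa⁻¹ = pz * (pu * pr) := by decide +kernel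
theorem pu_pr : pu * pr * pu⁻¹ = pr⁻¹ ∧ pu * pr⁻¹ * pu⁻¹ = pr ∧ pu * pz * pu⁻¹ = pz := by decide +kernel
theorem pr_pu : pr * pu * pr⁻¹ = pu * pr ^ 2 ∧ pr * (pu * pr ^ 2) * pr⁻¹ = pu := by decide +kernel
theorem moves : pu * pr ≠ pu ∧ pu * pr ^ 3 ≠ pu ∧ pu * pr ^ 2 ≠ pu ∧ pr ^ 4 = 1 := by decide +kernel

theorem coe_qr : (qr : Perm (Fin 6)) = pr := rfl
theorem coe_qu : (qu : Perm (Fin 6)) = pu := rfl
theorem coe_qa : (qa : Perm (Fin 6)) = pa := rfl

attribute [local irreducible] pr pu pa pz qr qu qa qz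

variable {X : Type u} [Group X] [Finite X] (φ : X →* MulAut ↥(alternatingGroup (Fin 6)))

/-- `g` maps three-cycles to three-cycles. -/
def Pres (g : X) : Prop :=
  ∀ y : ↥(alternatingGroup (Fin 6)), Perm.IsThreeCycle (y : Perm (Fin 6)) →
    Perm.IsThreeCycle (φ g y : Perm (Fin 6))

theorem pres_of_inner {g i : X} {n : ↥(alternatingGroup (Fin 6))} (hi : φ i = MulAut.conj n)
    (h : Pres φ (i * g)) : Pres φ g := fun y hy => by
  have := h y hy
  rw [map_mul, MulAut.mul_apply, hi, MulAut.conj_apply, Perm.IsThreeCycle, Subgroup.coe_mul, Subgroup.coe_mul,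
    Subgroup.coe_inv, Perm.cycleType_conj] at this
  exact this

theorem pres_of_fixed {g : X} (hr : φ g qr = qr) (hu : φ g qu = qu) : Pres φ g := by
  have hz : φ g qz = qz := by
    rw [show qz = qr * qr from Subtype.ext (by rw [qz_eq, Subgroup.coe_mul, coe_qr, pr_sq]), map_mul, hr]
  have hw : φ g (qu * qr) = qu * qr := by rw [map_mul, hu, hr]
  have h1 : φ g (qa * qz * qa⁻¹) = qa * qz * qa⁻¹ := by
    rcases pa_pz with h | h
    · rw [show qa * qz * qa⁻¹ = qu * qr from Subtype.ext (by simpa [qz_eq, coe_qr, coe_qu, coe_qa] using h), hw]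
    · rw [show qa * qz * qa⁻¹ = qz * (qu * qr) from Subtype.ext (by simpa [qz_eq, coe_qr, coe_qu, coe_qa] using h), map_mul, hz, hw]
  have h2 : φ g (qa * (qu * qr) * qa⁻¹) = qa * (qu * qr) * qa⁻¹ := by
    rcases pa_pur with h | h
    · rw [show qa * (qu * qr) * qa⁻¹ = qz from Subtype.ext (by simpa [qz_eq, coe_qr, coe_qu, coe_qa] using h), hz]
    · rw [show qa * (qu * qr) * qa⁻¹ = qz * (qu * qr) from
        Subtype.ext (by simpa [qz_eq, coe_qr, coe_qu, coe_qa] using h), map_mul, hz, hw]
  have hy3 : qa ^ 3 = 1 := Subtype.ext (by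
    rw [SubgroupClass.coe_pow, coe_qa, Subgroup.coe_one]
    rw [← (card_support_eq_three_iff.1 pa_three).orderOf, pow_orderOf_eq_one])
  have ha : Perm.IsThreeCycle (φ g qa : Perm (Fin 6)) := by
    refine card_support_eq_three_iff.1 ((four_norm _ ?_ ?_ ?_).resolve_left fun h => ?_)
    · have e : φ g qa * qz * (φ g qa)⁻¹ = qa * qz * qa⁻¹ := by
        conv_rhs => rw [← h1, map_mul, map_mul, map_inv, hz]
      have := congrArg Subtype.val e
      simp only [Subgroup.coe_mul, Subgroup.coe_inv, qz_eq, coe_qa] at this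
      exact this
    · have e : φ g qa * (qu * qr) * (φ g qa)⁻¹ = qa * (qu * qr) * qa⁻¹ := by
        conv_rhs => rw [← h2, map_mul, map_mul, map_inv, hw]
      have := congrArg Subtype.val e
      simp only [Subgroup.coe_mul, Subgroup.coe_inv, coe_qr, coe_qu, coe_qa] at this
      exact this
    · rw [← SubgroupClass.coe_pow, ← map_pow, hy3, map_one, Subgroup.coe_one]
    · have h' : φ g qa = 1 := Subtype.ext h
      rw [map_eq_one_iff _ (φ g).injective] at h'
      have h3 := pa_three
      rw [show pa = 1 by rw [← coe_qa, h', Subgroup.coe_one], Perm.support_one, Finset.card_empty] at h3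
      omega
  intro y hy
  obtain ⟨c, hc⟩ := isConj_iff.1 (alternatingGroup.isThreeCycle_isConj (σ := qa) (τ := y)
    (by rw [Nat.card_fin]; norm_num) (by rw [coe_qa]; exact card_support_eq_three_iff.1 pa_three) hy)
  rw [← hc, map_mul, map_mul, map_inv, Perm.IsThreeCycle, Subgroup.coe_mul, Subgroup.coe_mul,
    Subgroup.coe_inv, Perm.cycleType_conj]
  exact ha

/-- Every element maps three-cycles to three-cycles. -/
theorem pres (hord : OrdSix X) (hinj : Function.Injective φ)
    (hinner : ∀ n : ↥(alternatingGroup (Fin 6)), ∃ i : X, φ i = MulAut.conj n) (g : X) : Pres φ g := by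
  have heven : ∀ x : ↥(alternatingGroup (Fin 6)), Perm.sign (x : Perm (Fin 6)) = 1 := fun x =>
    Perm.mem_alternatingGroup.1 x.2
  have hz1 : qz ≠ 1 := fun h => by
    have h' := congrArg Subtype.val h
    rw [qz_eq] at h'
    exact absurd h' (by decide +kernel)
  have hz2 : qz * qz = 1 := Subtype.ext (by simp only [Subgroup.coe_mul, qz_eq]; decide +kernel)
  -- the case of a fixed element of order four
  have hfour : ∀ g : X, φ g qr = qr → Pres φ g := by
    intro g hr
    have hru : qu * qr * qu⁻¹ = qr⁻¹ := Subtype.ext (by simpa [coe_qr, coe_qu] using pu_pr.1)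
    have him : φ g qu * qr * (φ g qu)⁻¹ = qr⁻¹ := by
      have := congrArg (φ g) hru
      rwa [map_mul, map_mul, map_inv, map_inv, hr] at this
    have him' : (φ g qu : Perm (Fin 6)) * pr * (φ g qu : Perm (Fin 6))⁻¹ = pr⁻¹ := by
      simpa [coe_qr] using congrArg Subtype.val him
    have odd_case : ∀ k : ℕ, (k = 1 ∨ k = 3) → φ g qu = qu * qr ^ k → False := by
      intro k hk hku
      have hr4 : qr ^ 4 = 1 := Subtype.ext (by simpa [coe_qr] using moves.2.2.2)
      have hrk : ∀ (x : X), φ x qr = qr → φ x (qr ^ k) = qr ^ k := fun x hx => by rw [map_pow, hx]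
      have e1 : φ (g ^ 1) qu = qu * qr ^ k := by rw [pow_one]; exact hku
      have e2 : φ (g ^ 2) qu = qu * qr ^ 2 := by
        rw [pow_two, map_mul, MulAut.mul_apply, hku, map_mul, hku, hrk g hr, mul_assoc, ← pow_add]
        rcases hk with rfl | rfl
        · rfl
        · rw [show 3 + 3 = 4 + 2 from rfl, pow_add, hr4, one_mul]
      have hr2 : φ (g ^ 2) qr = qr := by rw [pow_two, map_mul, MulAut.mul_apply, hr, hr]
      have e3 : φ (g ^ 3) qu = qu * qr ^ (k + 2) := by
        rw [pow_succ g 2, map_mul, MulAut.mul_apply, hku, map_mul, e2, hrk _ hr2, mul_assoc, ← pow_add, add_comm]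
      have e4 : φ (g ^ 4) qu = qu := by
        rw [show 4 = 2 + 2 from rfl, pow_add, map_mul, MulAut.mul_apply, e2, map_mul, e2, map_pow, hr2,
          mul_assoc, ← pow_add, hr4, mul_one]
      have hne : ∀ n : ℕ, n ∣ 6 ∨ n = 5 → g ^ n ≠ 1 := by
        have h1 : φ (g ^ 1) qu ≠ qu := fun h => by
          rw [e1] at h
          rcases hk with rfl | rfl
          · exact moves.1 (by simpa [coe_qr, coe_qu] using congrArg Subtype.val h)
          · exact moves.2.1 (by simpa [coe_qr, coe_qu] using congrArg Subtype.val h)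
        have h2 : φ (g ^ 2) qu ≠ qu := fun h => by
          rw [e2] at h
          exact moves.2.2.1 (by simpa [coe_qr, coe_qu] using congrArg Subtype.val h)
        intro n hn he
        rcases hn with hn | rfl
        · have h6 : g ^ 6 = 1 := by
            obtain ⟨c, hc⟩ := hn
            rw [hc, pow_mul, he, one_pow]
          apply h2
          have : φ (g ^ (2 + 4)) qu = qu := by rw [show g ^ (2 + 4) = 1 from h6, map_one]; rfl
          rwa [pow_add, map_mul, MulAut.mul_apply, e4] at this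
        · apply h1
          have : φ (g ^ (1 + 4)) qu = qu := by rw [show g ^ (1 + 4) = 1 from he, map_one]; rfl
          rwa [pow_add, map_mul, MulAut.mul_apply, e4] at this
      have hg4 : g ^ 4 = 1 := by
        have h0 := orderOf_pos g
        have h6 := hord g
        have h1 := pow_orderOf_eq_one g
        generalize hn : orderOf g = n at h0 h6 h1
        interval_cases n
        all_goals first
          | exact h1
          | exact absurd h1 (hne _ (Or.inr rfl))
          | exact absurd h1 (hne _ (Or.inl (by norm_num)))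
      obtain ⟨i, hi⟩ := hinner qr
      have hp : Pres φ (g ^ 2) := pres_of_inner φ hi (pres_of_fixed φ
        (by rw [map_mul, MulAut.mul_apply, hr2, hi, MulAut.conj_apply, mul_inv_cancel_right])
        (by rw [map_mul, MulAut.mul_apply, e2, hi, MulAut.conj_apply]; exact Subtype.ext (by simpa [coe_qr, coe_qu] using pr_pu.2)))
      obtain ⟨σ, hσ⟩ := NineSC.exists_conj_of_preserves 6 (by norm_num) (φ (g ^ 2)) hp
      have hσσ : σ * σ = 1 := by
        refine Cfsg.Agent.S2119.eq_one_of_commute 6 (by norm_num) _ fun y hy => ?_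
        have h' : (MulAut.conjNormal (σ * σ) : MulAut ↥(alternatingGroup (Fin 6))) = 1 := by
          rw [map_mul, hσ, ← map_mul, ← pow_add, hg4, map_one]
        have := congrArg (fun f : MulAut ↥(alternatingGroup (Fin 6)) => ((f ⟨y, hy⟩ : ↥(alternatingGroup (Fin 6))) : Perm (Fin 6))) h'
        simpa [mul_assoc] using this
      have c1 : σ * pr * σ⁻¹ = pr := by
        have := congrArg Subtype.val (hσ ▸ hr2 : MulAut.conjNormal σ qr = qr)
        rwa [MulAut.conjNormal_apply, coe_qr] at this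
      have c2 : σ * pu * σ⁻¹ = pu * pr ^ 2 := by
        have := congrArg Subtype.val (hσ ▸ e2 : MulAut.conjNormal σ qu = qu * qr ^ 2)
        rwa [MulAut.conjNormal_apply, Subgroup.coe_mul, SubgroupClass.coe_pow, coe_qu, coe_qr] at this
      exact no_sq_one σ (mul_inv_eq_iff_eq_mul.1 c1) c2 hσσ
    rcases invert_pr _ him' with h | h | h | h | h
    · exact pres_of_fixed φ hr (Subtype.ext (by rw [h, coe_qu]))
    · exact (odd_case 1 (Or.inl rfl) (Subtype.ext (by simpa [coe_qr, coe_qu] using h))).elim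
    · obtain ⟨i, hi⟩ := hinner qr
      refine pres_of_inner φ hi (pres_of_fixed φ ?_ ?_)
      · rw [map_mul, MulAut.mul_apply, hr, hi, MulAut.conj_apply, mul_inv_cancel_right]
      · rw [map_mul, MulAut.mul_apply, hi, MulAut.conj_apply]
        refine Subtype.ext ?_
        simp only [Subgroup.coe_mul, Subgroup.coe_inv, coe_qr, coe_qu]
        rw [h]
        exact pr_pu.2
    · exact (odd_case 3 (Or.inr rfl) (Subtype.ext (by simpa [coe_qr, coe_qu] using h))).elim
    · exact absurd (heven _) h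
  -- move the image of `qz` back
  obtain h | h | ⟨n, hn, hns⟩ := invol_conj (φ g qz : Perm (Fin 6))
    (by rw [← Subgroup.coe_mul, ← map_mul, hz2, map_one, Subgroup.coe_one])
  · exact absurd (Subtype.ext h : φ g qz = 1) (fun h' => hz1 ((map_eq_one_iff _ (φ g).injective).1 h'))
  · exact absurd (heven _) h
  obtain ⟨i, hi⟩ := hinner ⟨n, Perm.mem_alternatingGroup.2 hns⟩
  refine pres_of_inner φ hi ?_
  have hgz : φ (i * g) qz = qz := by
    rw [map_mul, MulAut.mul_apply, hi, MulAut.conj_apply]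
    refine Subtype.ext ?_
    rw [qz_eq]
    exact hn
  have hsq : (φ (i * g) qr : Perm (Fin 6)) * (φ (i * g) qr : Perm (Fin 6)) = pz := by
    rw [← Subgroup.coe_mul, ← map_mul, show qr * qr = qz from Subtype.ext (by rw [qz_eq, Subgroup.coe_mul, coe_qr, pr_sq]), hgz, qz_eq]
  rcases sqrt_pz _ hsq with h | h | h
  · exact hfour _ (Subtype.ext (by rw [h, coe_qr]))
  · obtain ⟨j, hj⟩ := hinner qu
    refine pres_of_inner φ hj (hfour _ ?_)
    rw [map_mul φ j, MulAut.mul_apply, hj, MulAut.conj_apply, show φ (i * g) qr = qr⁻¹ from Subtype.ext (by rw [h, Subgroup.coe_inv, coe_qr])]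
    exact Subtype.ext (by simpa [coe_qr, coe_qu] using pu_pr.2.1)
  · exact absurd (heven _) h

end Almost

/-- A group between `Aₙ` and its automorphism group, all automorphisms being induced by permutations. -/
theorem almost_of_lift {X : Type u} [Group X] [Finite X] (n : ℕ) (hn : 4 ≤ n) (N : Subgroup X) [N.Normal]
    (e : N ≃* ↥(alternatingGroup (Fin n))) (φ : X →* MulAut ↥(alternatingGroup (Fin n)))
    (hinj : Function.Injective φ) (hσ : ∀ g, ∃ σ : Perm (Fin n), MulAut.conjNormal σ = φ g) :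
    Nonempty (X ≃* ↥(alternatingGroup (Fin n))) ∨ Nonempty (X ≃* Perm (Fin n)) := by
  classical
  choose σ hσ using hσ
  have huniq : ∀ s t : Perm (Fin n),
      (MulAut.conjNormal s : MulAut ↥(alternatingGroup (Fin n))) = MulAut.conjNormal t → s = t := by
    intro s t h
    refine (inv_mul_eq_one.1 ?_).symm
    refine Cfsg.Agent.S2119.eq_one_of_commute n hn (t⁻¹ * s) fun g hg => ?_
    have := congrArg (fun f : MulAut ↥(alternatingGroup (Fin n)) =>
      ((f ⟨g, hg⟩ : ↥(alternatingGroup (Fin n))) : Perm (Fin n))) h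
    simp only [MulAut.conjNormal_apply] at this
    calc t⁻¹ * s * g * (t⁻¹ * s)⁻¹ = t⁻¹ * (s * g * s⁻¹) * t := by group
      _ = t⁻¹ * (t * g * t⁻¹) * t := by rw [this]
      _ = g := by group
  let ψ : X →* Perm (Fin n) := MonoidHom.mk' σ fun g h => huniq _ _ (by rw [map_mul, hσ, hσ, hσ, map_mul])
  have hψ : Function.Injective ψ := fun g h hgh => hinj (by rw [← hσ g, ← hσ h, show σ g = σ h from hgh])
  haveI : Nontrivial (Fin n) := Fin.nontrivial_iff_two_le.2 (by omega)
  have hA : Nat.card ↥(alternatingGroup (Fin n)) * 2 = Nat.card (Perm (Fin n)) := by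
    rw [mul_comm]; exact two_mul_nat_card_alternatingGroup
  obtain ⟨k, hk⟩ : Nat.card N ∣ Nat.card X := Subgroup.card_subgroup_dvd_card N
  have hd : Nat.card X ∣ Nat.card (Perm (Fin n)) := Subgroup.card_dvd_of_injective ψ hψ
  rw [hk, Nat.card_congr e.toEquiv, ← hA, Nat.mul_dvd_mul_iff_left Nat.card_pos] at hd
  rcases (Nat.dvd_prime Nat.prime_two).1 hd with rfl | rfl
  · rw [mul_one] at hk
    have htop : N = ⊤ := Subgroup.eq_top_of_card_eq N hk.symm
    exact Or.inl ⟨((MulEquiv.subgroupCongr htop).trans Subgroup.topEquiv).symm.trans e⟩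
  · exact Or.inr ⟨MulEquiv.ofBijective ψ (hψ.bijective_of_nat_card_le
      (by rw [← hA, hk, Nat.card_congr e.toEquiv]))⟩

/-- Trivial solvable radical. -/
theorem almost_simple {X : Type u} [Group X] [Finite X] (h : OrdSix X) (hS : Small.{u} (Nat.card X + 1))
    (hns : ¬ Group.IsSolvable X) (hrad : ∀ N : Subgroup X, N.Normal → Group.IsSolvable N → N = ⊥) :
    IsAlmostAlt X := by
  classical
  obtain ⟨N, hN, hNs, hNna, hC⟩ :=
    CompOrd.exists_simple_normal hns hrad fun t ht => h.isSolvable_centralizer ht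
  haveI := hN
  haveI := hNs
  have hi := hS N (Nat.lt_succ_of_le (Nat.le_of_dvd Nat.card_pos (Subgroup.card_subgroup_dvd_card N))) hNna
    (h.subgroup N)
  have mk : ∀ {n : ℕ} (e : N ≃* ↥(alternatingGroup (Fin n))), ∃ φ : X →* MulAut ↥(alternatingGroup (Fin n)),
      Function.Injective φ ∧ ∀ m, ∃ i : X, φ i = MulAut.conj m := by
    intro n e
    let φ : X →* MulAut ↥(alternatingGroup (Fin n)) :=
      { toFun := fun g => (e.symm.trans (MulAut.conjNormal g)).trans e
        map_one' := by ext y; simp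
        map_mul' := fun a b => by ext y; simp [MulAut.mul_apply] }
    refine ⟨φ, (injective_iff_map_eq_one φ).2 fun g hg => ?_, fun m => ⟨(e.symm m : X), ?_⟩⟩
    · rw [← Subgroup.mem_bot, ← hC, Subgroup.mem_centralizer_iff]
      intro x hx
      have h2 := congrArg (fun f : MulAut ↥(alternatingGroup (Fin n)) => e.symm (f (e ⟨x, hx⟩))) hg
      change e.symm (e (MulAut.conjNormal g (e.symm (e ⟨x, hx⟩)))) = e.symm (e ⟨x, hx⟩) at h2
      rw [e.symm_apply_apply, e.symm_apply_apply] at h2
      have h3 := congrArg Subtype.val h2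
      rw [MulAut.conjNormal_apply] at h3
      exact (mul_inv_eq_iff_eq_mul.1 h3).symm
    · refine MulEquiv.ext fun y => ?_
      show e (MulAut.conjNormal (e.symm m : X) (e.symm y)) = _
      rw [MulAut.conjNormal_val, MulAut.conj_apply, map_mul, map_mul, map_inv, e.apply_symm_apply,
        e.apply_symm_apply, MulAut.conj_apply]
  rcases hi with ⟨⟨e⟩⟩ | ⟨⟨e⟩⟩
  · obtain ⟨φ, hinj, -⟩ := mk e
    rcases almost_of_lift 5 (by norm_num) N e φ hinj
      (fun g => (Cfsg.Agent.S2119.result 5 (by norm_num) (by norm_num)).2 (φ g)) with h5 | h5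
    · exact Or.inl h5
    · exact Or.inr (Or.inr (Or.inl h5))
  · obtain ⟨φ, hinj, hinner⟩ := mk e
    rcases almost_of_lift 6 (by norm_num) N e φ hinj (fun g =>
      NineSC.exists_conj_of_preserves 6 (by norm_num) (φ g) (Almost.pres φ h hinj hinner g)) with h6 | h6
    · exact Or.inr (Or.inl h6)
    · exact Or.inr (Or.inr (Or.inr h6))

end Cfsg.Lib.Recog.OrderSix
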