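import Cfsg.Agent.Lib.Recog.OrderSix.Defs
import Cfsg.Agent.Lib.StrongEmb.Reduce
import Cfsg.Agent.Lib.Coprime.PGroupAction
import Cfsg.Agent.Lib.Core.PSolvable

/-!
# Element orders at most six: balance

In a solvable group an odd subgroup of the centralizer of an involution normalised by it lies in the core.
-/

set_option autoImplicit false
set_option linter.unusedSectionVars false
set_option linter.style.haveILetI false

namespace Cfsg.Lib.Recog.OrderSix

open Subgroup
open Cfsg.Lib

universe u

/-- The core of a solvable group absorbs the odd subgroups normal in the centralizer of an involution. -/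
theorem le_core_of_centralizer {X : Type u} [Group X] [Finite X] [Group.IsSolvable X] {a : X}
    (ha : orderOf a = 2) {D : Subgroup X} (hDC : D ≤ centralizer ({a} : Set X)) (hD : Odd (Nat.card D))
    (hn : centralizer ({a} : Set X) ≤ normalizer (D : Set X)) : D ≤ Cfsg.pPrimeCore 2 X := by
  haveI : Fact (Nat.Prime 2) := ⟨Nat.prime_two⟩
  set O := Cfsg.pPrimeCore 2 X with hO
  have hO2 : ¬ 2 ∣ Nat.card O := Core.pPrimeCore_not_dvd 2 X
  set π := QuotientGroup.mk' O with hπ
  set Y := X ⧸ O
  set R := Cfsg.pCore 2 Y with hR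
  set Q := D.map π with hQ
  have hCR : centralizer (R : Set Y) ≤ R :=
    Core.centralizer_pCore_le_of_isPSolvable Core.isPSolvable_of_isSolvable Core.pPrimeCore_quotient_eq_bot
  have hQodd : Odd (Nat.card Q) := hD.of_dvd_nat (card_map_dvd D π)
  have hQR : Q ⊓ R = ⊥ := by
    refine inf_eq_bot_of_coprime ?_
    obtain ⟨k, hk⟩ := IsPGroup.iff_card.1 (Core.pCore_isPGroup 2 Y)
    rw [hk]
    exact Nat.Coprime.pow_right k (Nat.coprime_two_right.2 hQodd)
  have hQC : Q ≤ centralizer ({π a} : Set Y) := by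
    rintro _ ⟨d, hd, rfl⟩
    exact mem_centralizer_singleton_iff.2 (by
      rw [← map_mul, mem_centralizer_singleton_iff.1 (hDC hd), map_mul])
  have hnorm : centralizer ({π a} : Set Y) ≤ normalizer (Q : Set Y) := by
    intro r hr
    obtain ⟨r₀, rfl⟩ := QuotientGroup.mk'_surjective O r
    obtain ⟨c, hc, hcr⟩ := Cfsg.Lib.StrongEmb.Cover.exists_lift_commute hO2 ha
      (mem_centralizer_singleton_iff.1 hr)
    refine mem_normalizer_fintype ?_
    rintro _ ⟨d, hd, rfl⟩
    have hcn := hn (mem_centralizer_singleton_iff.2 hc.eq)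
    refine ⟨c * d * c⁻¹, (mem_normalizer_iff.1 hcn d).1 hd, ?_⟩
    rw [map_mul, map_mul, map_inv, show π c = π r₀ from hcr]
  have hzq : zpowers (π a) ⊔ Q ≤ normalizer (R : Set Y) := by
    rw [normalizer_eq_top_iff.2 (inferInstance : R.Normal)]; exact le_top
  have hfix : R ⊓ centralizer (zpowers (π a) : Set Y) ≤ centralizer (Q : Set Y) := by
    rintro r ⟨hrR, hrC⟩
    have hr' : r ∈ centralizer ({π a} : Set Y) :=
      mem_centralizer_singleton_iff.2 (mem_centralizer_iff.1 hrC _ (mem_zpowers _)).symm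
    refine mem_centralizer_iff.2 fun q hq => ?_
    have h1 : q * r * q⁻¹ * r⁻¹ ∈ Q ⊓ R := by
      refine mem_inf.2 ⟨?_, ?_⟩
      · rw [mul_assoc, mul_assoc]
        refine mul_mem hq ?_
        have := (mem_normalizer_iff.1 (hnorm hr') q⁻¹).1 (inv_mem hq)
        rwa [mul_assoc] at this
      · exact mul_mem ((inferInstance : R.Normal).conj_mem r hrR q) (inv_mem hrR)
    rw [hQR, mem_bot, mul_inv_eq_one, mul_inv_eq_iff_eq_mul] at h1
    exact h1
  have hbot : ⁅R, Q⁆ = ⊥ := by
    refine Coprime.commutator_eq_bot_of_AxB R (zpowers (π a)) Q (Core.pCore_isPGroup 2 Y) ?_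
      (Nat.coprime_two_right.2 hQodd) (le_sup_left.trans hzq) (le_sup_right.trans hzq) ?_ hfix
    · have h2 : orderOf (π a) ∣ 2 := (orderOf_map_dvd π a).trans ha.dvd
      obtain ⟨k, -, hk⟩ := (Nat.dvd_prime_pow Nat.prime_two).1 (by rw [pow_one]; exact h2 :
        orderOf (π a) ∣ 2 ^ 1)
      exact IsPGroup.of_card (n := k) (by rw [Nat.card_zpowers, hk])
    · intro q hq
      refine mem_centralizer_iff.2 ?_
      rintro _ ⟨j, rfl⟩
      exact ((show Commute q (π a) from mem_centralizer_singleton_iff.1 (hQC hq)).zpow_right j).eq.symm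
  have hQbot : Q = ⊥ := by
    rw [← hQR, eq_comm, inf_eq_left]
    exact ((le_centralizer_iff.1 (commutator_eq_bot_iff_le_centralizer.1 hbot))).trans hCR
  rw [hQ, Subgroup.map_eq_bot_iff, QuotientGroup.ker_mk'] at hQbot
  exact hQbot

/-- Balance for the cores of the centralizers of two commuting involutions. -/
theorem OrdSix.balance {G : Type u} [Group G] [Finite G] (h : OrdSix G) {a b c : G} (ha : orderOf a = 2)
    (hb : orderOf b = 2) (hab : Commute a b) (hc : c ∈ centralizerPPrimeCore 2 a) (hcb : Commute c b) :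
    c ∈ centralizerPPrimeCore 2 b := by
  haveI : Fact (Nat.Prime 2) := ⟨Nat.prime_two⟩
  set Ca := centralizer ({a} : Set G) with hCa
  set Cb := centralizer ({b} : Set G) with hCb
  haveI := h.isSolvable_centralizer hb
  have haC : a ∈ Cb := mem_centralizer_singleton_iff.2 hab.eq
  set T := centralizerPPrimeCore 2 a with hT
  have hTC : T ≤ Ca := map_subtype_le _
  have hTn : Ca ≤ normalizer (T : Set G) := by
    intro g hg
    refine mem_normalizer_fintype ?_
    rintro _ ⟨x, hx, rfl⟩
    exact ⟨_, (inferInstance : (Cfsg.pPrimeCore 2 ↥Ca).Normal).conj_mem x hx ⟨g, hg⟩, rfl⟩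
  have hTodd : Odd (Nat.card T) := by
    rw [hT, centralizerPPrimeCore, card_map_of_injective (centralizer ({a} : Set G)).subtype_injective,
      ← Nat.not_even_iff_odd, even_iff_two_dvd]
    exact Core.pPrimeCore_not_dvd 2 _
  refine ⟨⟨c, mem_centralizer_singleton_iff.2 hcb.eq⟩,
    le_core_of_centralizer (a := (⟨a, haC⟩ : Cb)) (by rw [Subgroup.orderOf_mk, ha])
      (D := T.subgroupOf Cb) ?_ ?_ ?_ (mem_subgroupOf.2 hc), rfl⟩
  · intro d hd
    exact mem_centralizer_singleton_iff.2 (Subtype.ext (mem_centralizer_singleton_iff.1 (hTC hd)))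
  · exact hTodd.of_dvd_nat (card_comap_dvd_of_injective _ _ Cb.subtype_injective)
  · intro g hg
    refine mem_normalizer_fintype fun d hd => ?_
    exact (mem_normalizer_iff.1 (hTn (mem_centralizer_singleton_iff.2
      (congrArg Subtype.val (mem_centralizer_singleton_iff.1 hg)))) d).1 hd

end Cfsg.Lib.Recog.OrderSix
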