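import Cfsg.Agent.Lib.Recog.OrderSix.Balance
import Cfsg.Agent.Lib.Recog.OrderSpecPSL.Main
import Cfsg.Agent.Lib.PGroup.Basic

/-!
# Element orders at most six: the 2-core of an involution centralizer in two-rank above two

It contains an elementary subgroup of order eight or a normal four group: otherwise it would be a
quaternion group of order eight, leaving room for two-rank two only.
-/

set_option autoImplicit false
set_option linter.unusedSectionVars false
set_option linter.style.haveILetI false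

namespace Cfsg.Lib.Recog.OrderSix

open Subgroup
open Cfsg.Lib
open Cfsg.Lib.StrongEmb.Cover (El)
open scoped commutatorElement

universe u

namespace BigTwo

variable {Y : Type u} [Group Y] [Finite Y]

theorem sq_one {h : OrdSix Y} {R : Subgroup Y} (hR : IsPGroup 2 R) {y : Y} (hy : orderOf y = 3) {r : Y}
    (hr : r ∈ R) (hc : Commute r y) : r * r = 1 := by
  obtain ⟨k, hk⟩ := IsPGroup.iff_orderOf.1 hR ⟨r, hr⟩
  rw [Subgroup.orderOf_mk] at hk
  have h4 := orderOf_dvd_of_pow_eq_one (h.two_pow_four hk)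
  rw [hk] at h4
  have hk2 : k ≤ 2 := (Nat.pow_dvd_pow_iff_le_right one_lt_two).1 (show 2 ^ k ∣ 2 ^ 2 from h4)
  rw [← pow_two, ← orderOf_dvd_iff_pow_eq_one, hk]
  rcases Nat.lt_or_ge k 2 with hk1 | hk1
  · exact (Nat.pow_dvd_pow 2 (show k ≤ 1 by omega)).trans (by norm_num)
  · exact absurd hc (h.not_commute_four (by rw [hk, show k = 2 by omega]; norm_num) hy)

/-- The hypotheses: no elementary subgroup of order eight and no normal four group. -/
structure Bare (R : Subgroup Y) (y z : Y) : Prop where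
  ord : OrdSix Y
  normal : R.Normal
  isPGroup : IsPGroup 2 R
  self : centralizer (R : Set Y) ≤ R
  z_ord : orderOf z = 2
  z_mem : z ∈ R
  z_comm : ∀ g : Y, g * z = z * g
  y_ord : orderOf y = 3
  no_eight : ∀ E : Subgroup Y, E ≤ R → El E → Nat.card E < 8
  no_four : ∀ F : Subgroup Y, F ≤ R → El F → F.Normal → Nat.card F ≠ 4

variable {R : Subgroup Y} {y z : Y} (H : Bare R y z)
include H

theorem el_z : El (zpowers z) := by
  rintro _ ⟨k, rfl⟩
  show z ^ k * z ^ k = 1
  rw [← (Commute.refl z).mul_zpow, Invol.inv_mul_self H.z_ord, one_zpow]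

theorem mem_z_iff {w : Y} : w ∈ zpowers z ↔ w = 1 ∨ w = z := by
  constructor
  · rintro ⟨k, rfl⟩
    have h2 : z * z = 1 := Invol.inv_mul_self H.z_ord
    rcases Int.even_or_odd' k with ⟨i, rfl | rfl⟩
    · left; show z ^ (2 * i) = 1; rw [zpow_mul, zpow_two, h2, one_zpow]
    · right; show z ^ (2 * i + 1) = z; rw [zpow_add, zpow_mul, zpow_two, h2, one_zpow, one_mul, zpow_one]
  · rintro (rfl | rfl)
    exacts [one_mem _, mem_zpowers _]

theorem normal_abelian_le {A : Subgroup Y} (hA : A.Normal) (hAR : A ≤ R)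
    (hc : ∀ a ∈ A, ∀ b ∈ A, a * b = b * a) : A ≤ zpowers z := by
  let Ω : Subgroup Y :=
    { carrier := {a | a ∈ A ∧ a * a = 1}
      one_mem' := ⟨one_mem A, one_mul 1⟩
      mul_mem' := fun {a b} ha hb => ⟨mul_mem ha.1 hb.1, by
        rw [show a * b * (a * b) = a * (b * a) * b by group, hc b hb.1 a ha.1,
          show a * (a * b) * b = a * a * (b * b) by group, ha.2, hb.2, one_mul]⟩
      inv_mem' := fun {a} ha => ⟨inv_mem ha.1, by rw [← mul_inv_rev, ha.2, inv_one]⟩ }
  have hΩz : ∀ a ∈ A, a * a = 1 → a ∈ zpowers z := by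
    intro a ha ha2
    have hΩR : Ω ≤ R := fun x hx => hAR hx.1
    have hΩn : Ω.Normal := ⟨fun x hx g => ⟨hA.conj_mem x hx.1 g, by
      rw [show g * x * g⁻¹ * (g * x * g⁻¹) = g * (x * x) * g⁻¹ by group, hx.2, mul_one, mul_inv_cancel]⟩⟩
    haveI := hΩn
    have hE : El (Ω ⊔ zpowers z) := StrongEmb.Cover.El.sup (fun x hx => hx.2) (el_z H) fun x _ b hb => by
      rcases (mem_z_iff H).1 hb with rfl | rfl
      · rw [mul_one, one_mul]
      · exact H.z_comm x
    haveI : (zpowers z).Normal := ⟨fun n hn g => by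
      rcases (mem_z_iff H).1 hn with rfl | rfl
      · simp
      · rw [H.z_comm g, mul_inv_cancel_right]; exact mem_zpowers _⟩
    have hle : Ω ⊔ zpowers z ≤ R := sup_le hΩR (zpowers_le.2 H.z_mem)
    have hlt := H.no_eight _ hle hE
    have hne4 := H.no_four _ hle hE inferInstance
    obtain ⟨k, hk⟩ := IsPGroup.iff_card.1 (H.isPGroup.to_le hle)
    have hk3 : k < 3 := by
      by_contra hk3
      have := Nat.pow_le_pow_right two_pos (show 3 ≤ k by omega)
      omega
    have hk2 : Nat.card ↥(Ω ⊔ zpowers z) ≤ 2 := by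
      interval_cases k <;> omega
    have he : zpowers z = Ω ⊔ zpowers z := eq_of_le_of_card_ge le_sup_right (by rw [Nat.card_zpowers, H.z_ord]; exact hk2)
    rw [he]
    exact le_sup_left (b := zpowers z) (show a ∈ Ω from ⟨ha, ha2⟩)
  intro a ha
  refine hΩz a ha ?_
  by_contra ha2
  obtain ⟨k, hk⟩ := IsPGroup.iff_orderOf.1 H.isPGroup ⟨a, hAR ha⟩
  rw [Subgroup.orderOf_mk] at hk
  have ha4 := H.ord.two_pow_four hk
  have haa : a * a = z := by
    rcases (mem_z_iff H).1 (hΩz (a * a) (mul_mem ha ha) (by rw [← ha4]; simp [pow_succ, mul_assoc])) with e | e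
    · exact absurd e ha2
    · exact e
  -- `y` centralizes a cyclic group of order four
  have hya : y * a * y⁻¹ ∈ A := hA.conj_mem a ha y
  have hw : a⁻¹ * (y * a * y⁻¹) ∈ zpowers z := by
    refine hΩz _ (mul_mem (inv_mem ha) hya) ?_
    have hc' : Commute a⁻¹ (y * a * y⁻¹) := hc _ (inv_mem ha) _ hya
    rw [hc'.symm.mul_mul_mul_comm, ← mul_inv_rev, haa, show y * a * y⁻¹ * (y * a * y⁻¹) = y * (a * a) * y⁻¹ by group,
      haa, H.z_comm y, mul_inv_cancel_right, inv_mul_cancel]
  have hcy : Commute a y := by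
    set c := a⁻¹ * (y * a * y⁻¹) with hcdef
    have hyc : y * c * y⁻¹ = c := by
      rcases (mem_z_iff H).1 hw with e | e
      · rw [e]; group
      · rw [e, H.z_comm y, mul_inv_cancel_right]
    have hcc : c * c = 1 := el_z H c hw
    have h1 : y * a * y⁻¹ = a * c := by rw [hcdef]; group
    have h2 : y * (y * a * y⁻¹) * y⁻¹ = a := by
      rw [h1, show y * (a * c) * y⁻¹ = (y * a * y⁻¹) * (y * c * y⁻¹) by group, h1, hyc, mul_assoc, hcc, mul_one]
    have h3 : y ^ 3 = 1 := H.y_ord ▸ pow_orderOf_eq_one y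
    have h4 : y * a * y⁻¹ = a := by
      calc y * a * y⁻¹ = y * (y * (y * a * y⁻¹) * y⁻¹) * y⁻¹ := by rw [h2]
        _ = y ^ 3 * a * (y ^ 3)⁻¹ := by simp [pow_succ, mul_assoc]
        _ = a := by rw [h3]; group
    exact (mul_inv_eq_iff_eq_mul.1 h4).symm
  exact ha2 (sq_one (h := H.ord) H.isPGroup H.y_ord (hAR ha) hcy)

/-- Elements of `R` with all commutators in `⟨z⟩`. -/
theorem comm_le : ∀ a ∈ R, ∀ b ∈ R, ⁅a, b⁆ = 1 ∨ ⁅a, b⁆ = z := by
  haveI := H.normal
  haveI hzn : (zpowers z).Normal := ⟨fun n hn g => by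
    rcases (mem_z_iff H).1 hn with rfl | rfl
    · simp
    · rw [H.z_comm g, mul_inv_cancel_right]; exact mem_zpowers _⟩
  set π := QuotientGroup.mk' (zpowers z) with hπ
  let Z2 : Subgroup Y := R ⊓ (centralizer ((R.map π : Subgroup _) : Set _)).comap π
  haveI hn1 : (R.map π).Normal := Subgroup.Normal.map H.normal π (QuotientGroup.mk'_surjective _)
  haveI : Z2.Normal := inferInstance
  haveI : (⁅R, R⁆ : Subgroup Y).Normal := inferInstance
  have hz2 : ⁅Z2, R⁆ ≤ zpowers z := commutator_le.2 fun x hx r hr => by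
    refine (QuotientGroup.eq_one_iff _).1 ?_
    show π ⁅x, r⁆ = 1
    rw [map_commutatorElement, commutatorElement_eq_one_iff_mul_comm]
    exact (mem_centralizer_iff.1 hx.2 (π r) (mem_map_of_mem π hr)).symm
  have hrot : ⁅⁅R, R⁆, Z2⁆ = ⊥ := by
    have h1 : ⁅⁅R, Z2⁆, R⁆ = ⊥ := by
      rw [eq_bot_iff, commutator_comm R Z2]
      refine (commutator_mono hz2 le_rfl).trans (commutator_le.2 fun c hc r _ => ?_)
      rw [mem_bot, commutatorElement_eq_one_iff_mul_comm]
      rcases (mem_z_iff H).1 hc with rfl | rfl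
      · rw [mul_one, one_mul]
      · exact (H.z_comm r).symm
    exact commutator_commutator_eq_bot_of_rotate h1 (by rw [commutator_comm Z2 R]; exact h1)
  have hA : ⁅R, R⁆ ⊓ Z2 ≤ zpowers z := by
    refine normal_abelian_le H inferInstance (inf_le_left.trans (commutator_le_right R R)) fun a ha b hb => ?_
    have h1 : ⁅a, b⁆ ∈ ⁅⁅R, R⁆, Z2⁆ := commutator_mem_commutator ha.1 hb.2
    rw [hrot, mem_bot, commutatorElement_eq_one_iff_mul_comm] at h1
    exact h1
  have key : ∀ N : Subgroup Y, N.Normal → N ≤ ⁅R, R⁆ → N ≤ zpowers z := by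
    intro N
    induction N using WellFoundedLT.induction with
    | ind N ih =>
      intro hN hNR
      by_cases hne : N = ⊥
      · rw [hne]; exact bot_le
      haveI := hN
      have hNR' : N ≤ R := hNR.trans (commutator_le_right R R)
      haveI : Fact (Nat.Prime 2) := ⟨Nat.prime_two⟩
      have hlt := PGroup.commutator_lt_of_isPGroup (H.isPGroup.to_le hNR') H.isPGroup
        (by rw [normalizer_eq_top_iff.2 hN]; exact le_top) hne
      have h1 := ih _ hlt inferInstance (hlt.le.trans hNR)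
      refine le_trans (le_inf hNR (le_inf hNR' fun x hx => mem_comap.2 (mem_centralizer_iff.2 ?_))) hA
      rintro _ ⟨r, hr, rfl⟩
      rw [eq_comm, ← commutatorElement_eq_one_iff_mul_comm, ← map_commutatorElement]
      exact (QuotientGroup.eq_one_iff _).2 (h1 (commutator_mem_commutator hx hr))
  exact fun a ha b hb => (mem_z_iff H).1 (key _ inferInstance le_rfl (commutator_mem_commutator ha hb))

theorem center_le {a : Y} (ha : a ∈ R) (hc : ∀ r ∈ R, a * r = r * a) : a ∈ zpowers z := by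
  haveI := H.normal
  exact normal_abelian_le H (A := R ⊓ centralizer (R : Set Y)) inferInstance inf_le_left
    (fun u hu v hv => (mem_centralizer_iff.1 hv.2 u hu.1)) ⟨ha, mem_centralizer_iff.2 fun r hr => (hc r hr).symm⟩

theorem sq_mem {a : Y} (ha : a ∈ R) : a * a ∈ zpowers z := by
  refine center_le H (mul_mem ha ha) fun r hr => ?_
  have h1 : a * r = ⁅a, r⁆ * (r * a) := by simp [commutatorElement_def, mul_assoc]
  have hc : a * ⁅a, r⁆ = ⁅a, r⁆ * a := by
    rcases comm_le H a ha r hr with e | e <;> rw [e]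
    · simp
    · exact H.z_comm a
  have h2 : ⁅a, r⁆ * ⁅a, r⁆ = 1 := el_z H _ ((mem_z_iff H).2 (comm_le H a ha r hr))
  calc a * a * r = a * (⁅a, r⁆ * (r * a)) := by rw [mul_assoc, h1]
    _ = ⁅a, r⁆ * (a * r) * a := by rw [← mul_assoc, hc]; group
    _ = ⁅a, r⁆ * ⁅a, r⁆ * (r * (a * a)) := by rw [h1]; group
    _ = r * (a * a) := by rw [h2, one_mul]

/-- An element of `R` centralized by `y` is central. -/
theorem fixed_mem {d : Y} (hd : d ∈ R) (hdy : Commute d y) : d ∈ zpowers z := by
  haveI := H.normal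
  refine center_le H hd fun r hr => ?_
  have hyn : zpowers y ≤ normalizer (R : Set Y) := by rw [normalizer_eq_top_iff.2 H.normal]; exact le_top
  have hcop : (Nat.card (zpowers y)).Coprime (Nat.card R) := by
    obtain ⟨k, hk⟩ := IsPGroup.iff_card.1 H.isPGroup
    rw [Nat.card_zpowers, H.y_ord, hk]
    exact Nat.Coprime.pow_right k (by decide)
  haveI : Fact (Nat.Prime 2) := ⟨Nat.prime_two⟩
  haveI := H.isPGroup.isNilpotent
  have hgen := Coprime.commutator_sup_centralizer_eq (G := R) (A := zpowers y) hyn hcop (Or.inr inferInstance)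
  have hzc : ∀ c ∈ zpowers z, ∀ g : Y, g * c = c * g := fun c hc g => by
    rcases (mem_z_iff H).1 hc with rfl | rfl
    · simp
    · exact H.z_comm g
  have hgle : ⁅R, zpowers y⁆ ⊔ (R ⊓ centralizer (zpowers y : Set Y)) ≤ centralizer ({d} : Set Y) := by
    refine sup_le (commutator_le.2 fun s hs w hw => mem_centralizer_singleton_iff.2 ?_) fun s hs => ?_
    · have hdw : Commute d w := by obtain ⟨k, rfl⟩ := hw; exact hdy.zpow_right k
      have hs' : w * s⁻¹ * w⁻¹ ∈ R := H.normal.conj_mem _ (inv_mem hs) w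
      obtain ⟨c, hc, hce⟩ : ∃ c, c ∈ zpowers z ∧ d * s * d⁻¹ = c * s :=
        ⟨⁅d, s⁆, (mem_z_iff H).2 (comm_le H d hd s hs), by simp [commutatorElement_def]⟩
      have key : d * ⁅s, w⁆ * d⁻¹ = ⁅s, w⁆ := by
        have e : d * ⁅s, w⁆ * d⁻¹ = (d * s * d⁻¹) * (d * w * d⁻¹) * (d * s * d⁻¹)⁻¹ * (d * w * d⁻¹)⁻¹ := by
          simp only [commutatorElement_def]; group
        have hcw : c * (s * w * s⁻¹) = (s * w * s⁻¹) * c := (hzc c hc _).symm
        rw [e, hce, hdw.eq, mul_inv_cancel_right, commutatorElement_def]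
        calc c * s * w * (c * s)⁻¹ * w⁻¹ = (c * (s * w * s⁻¹)) * c⁻¹ * w⁻¹ := by group
          _ = s * w * s⁻¹ * w⁻¹ := by rw [hcw]; group
      exact (mul_inv_eq_iff_eq_mul.1 key).symm
    · obtain ⟨hsR, hsc⟩ := mem_inf.1 hs
      have hsy : Commute s y := (mem_centralizer_iff.1 hsc y (mem_zpowers y)).symm
      have h1 := sq_one (h := H.ord) H.isPGroup H.y_ord hsR hsy
      have h2 := sq_one (h := H.ord) H.isPGroup H.y_ord hd hdy
      have h3 := sq_one (h := H.ord) H.isPGroup H.y_ord (mul_mem hsR hd) (hsy.mul_left hdy)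
      refine mem_centralizer_singleton_iff.2 ?_
      calc s * d = s * (s * d * (s * d)) * d := by rw [h3, mul_one]
        _ = (s * s) * (d * s) * (d * d) := by group
        _ = d * s := by rw [h1, h2, one_mul, mul_one]
  exact (mem_centralizer_singleton_iff.1 (hgle (hgen.ge hr))).symm

/-- `z` is the only involution of `R`. -/
theorem invol_mem {v : Y} (hv : v ∈ R) (hv2 : v * v = 1) : v ∈ zpowers z := by
  haveI := H.normal
  by_contra hvz
  set w := y * v * y⁻¹ with hw
  set u := y * w * y⁻¹ with hu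
  have hwR : w ∈ R := H.normal.conj_mem v hv y
  have huR : u ∈ R := H.normal.conj_mem w hwR y
  have h3 : y ^ 3 = 1 := H.y_ord ▸ pow_orderOf_eq_one y
  have huv : y * u * y⁻¹ = v := by
    calc y * u * y⁻¹ = y ^ 3 * v * (y ^ 3)⁻¹ := by simp [hu, hw, pow_succ, mul_assoc]
      _ = v := by rw [h3]; group
  have hzc : ∀ c ∈ zpowers z, ∀ g : Y, g * c = c * g := fun c hc g => by
    rcases (mem_z_iff H).1 hc with rfl | rfl
    · simp
    · exact H.z_comm g
  -- the product of the orbit is fixed by `y` modulo `⟨z⟩`, hence central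
  set p := v * w * u with hp
  have hpR : p ∈ R := mul_mem (mul_mem hv hwR) huR
  obtain ⟨c, hc, hce⟩ : ∃ c, c ∈ zpowers z ∧ y * p * y⁻¹ = c * p :=
    ⟨⁅v⁻¹, p⁆, (mem_z_iff H).2 (comm_le H _ (inv_mem hv) _ hpR), by
      have e : y * p * y⁻¹ = w * u * v := by
        rw [hp, show y * (v * w * u) * y⁻¹ = (y * v * y⁻¹) * (y * w * y⁻¹) * (y * u * y⁻¹) by group,
          ← hw, ← hu, huv]
      rw [e, hp, commutatorElement_def]; group⟩
  have hcc := el_z H c hc
  have hpy : Commute p y := by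
    have hyc : ∀ g, y * (c * g) * y⁻¹ = c * (y * g * y⁻¹) := fun g => by
      calc y * (c * g) * y⁻¹ = (y * c) * g * y⁻¹ := by group
        _ = c * (y * g * y⁻¹) := by rw [hzc c hc y]; group
    have h4 : y * (y * p * y⁻¹) * y⁻¹ = p := by
      rw [hce, hyc, hce, ← mul_assoc, hcc, one_mul]
    have h5 : y * p * y⁻¹ = p := by
      calc y * p * y⁻¹ = y * (y * (y * p * y⁻¹) * y⁻¹) * y⁻¹ := by rw [h4]
        _ = y ^ 3 * p * (y ^ 3)⁻¹ := by simp [pow_succ, mul_assoc]
        _ = p := by rw [h3]; group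
    exact (mul_inv_eq_iff_eq_mul.1 h5).symm
  have hpz := fixed_mem H hpR hpy
  have hu2 : u * u = 1 := by
    have : u = y * y * v * (y * y)⁻¹ := by rw [hu, hw]; group
    rw [this, show y * y * v * (y * y)⁻¹ * (y * y * v * (y * y)⁻¹) = y * y * (v * v) * (y * y)⁻¹ by group, hv2]
    group
  have hw2 : w * w = 1 := by
    rw [hw, show y * v * y⁻¹ * (y * v * y⁻¹) = y * (v * v) * y⁻¹ by group, hv2]; group
  have hvw2 : v * w * (v * w) = 1 := by
    have e : v * w = p * u := by rw [hp, mul_assoc (v * w), hu2, mul_one]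
    rw [e, show p * u * (p * u) = p * (u * p) * u by group, hzc p hpz u,
      show p * (p * u) * u = p * p * (u * u) by group, el_z H p hpz, hu2, one_mul]
  have hvw : v * w = w * v := by
    calc v * w = v * (v * w * (v * w)) * w := by rw [hvw2, mul_one]
      _ = (v * v) * (w * v) * (w * w) := by group
      _ = w * v := by rw [hv2, hw2, one_mul, mul_one]
  obtain ⟨hEv, -, hcardv⟩ := StrongEmb.Cover.El.card_le_mul (el_z H) hv2 fun a ha => (hzc a ha v).symm
  obtain ⟨hE, -, hcard⟩ := StrongEmb.Cover.El.card_le_mul hEv hw2 fun a ha => by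
    have : zpowers z ⊔ zpowers v ≤ centralizer ({w} : Set Y) := sup_le
      (fun x hx => mem_centralizer_singleton_iff.2 (hzc x hx w).symm)
      (zpowers_le.2 (mem_centralizer_singleton_iff.2 hvw))
    exact mem_centralizer_singleton_iff.1 (this ha)
  have hwn : w ∉ zpowers z ⊔ zpowers v := by
    intro hmem
    haveI : (zpowers z).Normal := ⟨fun n hn g => by rw [hzc n hn g, mul_inv_cancel_right]; exact hn⟩
    obtain ⟨c', hc', x, ⟨k, rfl⟩, hwe⟩ := mem_sup_of_normal_left.1 hmem
    simp only at hwe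
    have hyc' : y * c' * y⁻¹ = c' := by rw [hzc c' hc' y, mul_inv_cancel_right]
    rcases Int.even_or_odd' k with ⟨i, rfl | rfl⟩
    · rw [zpow_mul, zpow_two, hv2, one_zpow, mul_one] at hwe
      refine hvz ?_
      have : v = y⁻¹ * w * y := by rw [hw]; group
      rw [this, ← hwe, show y⁻¹ * c' * y = y⁻¹ * (c' * y) by group, ← hzc c' hc' y, inv_mul_cancel_left]
      exact hc'
    · rw [zpow_add, zpow_mul, zpow_two, hv2, one_zpow, one_mul, zpow_one] at hwe
      refine hvz (fixed_mem H hv ?_)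
      have huu : u = v := by
        rw [hu, ← hwe, show y * (c' * v) * y⁻¹ = (y * c' * y⁻¹) * (y * v * y⁻¹) by group, hyc', ← hw, ← hwe,
          ← mul_assoc, el_z H c' hc', one_mul]
      exact (mul_inv_eq_iff_eq_mul.1 (show y * v * y⁻¹ = v by have := huv; rwa [huu] at this)).symm
  have hle : (zpowers z ⊔ zpowers v) ⊔ zpowers w ≤ R :=
    sup_le (sup_le (zpowers_le.2 H.z_mem) (zpowers_le.2 hv)) (zpowers_le.2 hwR)
  have h8 := H.no_eight _ hle hE
  have h1 := hcardv hvz
  have h2 := hcard hwn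
  rw [Nat.card_zpowers, H.z_ord] at h1
  omega

theorem comm_rule {a b : Y} (ha : a ∈ R) (hb : b ∈ R) (hne : a * b ≠ b * a) : a * b = z * (b * a) := by
  rcases comm_le H a ha b hb with e | e
  · exact absurd (commutatorElement_eq_one_iff_mul_comm.1 e) hne
  · rw [← e, commutatorElement_def]; group

theorem no_eight_elementary {E : Subgroup Y} (hE : El E) (h8 : 8 ≤ Nat.card E) : False := by
  haveI := H.normal
  have hzc : ∀ g : Y, g * z = z * g := H.z_comm
  have hz2 : z * z = 1 := Invol.inv_mul_self H.z_ord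
  -- a non-central pair of generators
  obtain ⟨x, hxR, hxz⟩ : ∃ x ∈ R, x ∉ zpowers z := by
    by_contra hall
    push Not at hall
    have hy : y ∈ R := H.self (mem_centralizer_iff.2 fun r hr => by
      rcases (mem_z_iff H).1 (hall r hr) with rfl | rfl
      · rw [mul_one, one_mul]
      · exact (hzc y).symm)
    obtain ⟨k, hk⟩ := IsPGroup.iff_orderOf.1 H.isPGroup ⟨y, hy⟩
    rw [Subgroup.orderOf_mk, H.y_ord] at hk
    rcases k with _ | k
    · simp at hk
    · rw [pow_succ] at hk; omega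
  obtain ⟨s, hsR, hxs⟩ : ∃ s ∈ R, x * s ≠ s * x := by
    by_contra hall
    push Not at hall
    exact hxz (center_le H hxR hall)
  have hxs' := comm_rule H hxR hsR hxs
  have hgen : ∀ r ∈ R, ∃ m : Y, (m = 1 ∨ m = x ∨ m = s ∨ m = x * s) ∧ r * m ∈ zpowers z := by
    intro r hr
    have hkill : ∀ {a : Y}, a ∈ R → x * a = a * x → a ∈ zpowers z ∨ a * x ∈ zpowers z := by
      intro a ha hc
      rcases (mem_z_iff H).1 (sq_mem H ha) with e | e
      · exact Or.inl (invol_mem H ha e)
      rcases (mem_z_iff H).1 (sq_mem H hxR) with e' | e'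
      · exact absurd (invol_mem H hxR e') hxz
      refine Or.inr (invol_mem H (mul_mem ha hxR) ?_)
      rw [show a * x * (a * x) = a * (x * a) * x by group, hc, show a * (a * x) * x = a * a * (x * x) by group,
        e, e', hz2]
    by_cases hc : x * r = r * x
    · rcases hkill hr hc with e | e
      · exact ⟨1, Or.inl rfl, by rwa [mul_one]⟩
      · exact ⟨x, Or.inr (Or.inl rfl), e⟩
    · have h1 := comm_rule H hxR hr hc
      have hcs : x * (r * s) = r * s * x := by
        calc x * (r * s) = (x * r) * s := by group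
          _ = z * r * (x * s) := by rw [h1]; group
          _ = z * (r * z) * (s * x) := by rw [hxs']; group
          _ = r * s * x := by rw [hzc r, ← mul_assoc z z r, hz2, one_mul, mul_assoc]
      rcases hkill (mul_mem hr hsR) hcs with e | e
      · exact ⟨s, Or.inr (Or.inr (Or.inl rfl)), e⟩
      · refine ⟨x * s, Or.inr (Or.inr (Or.inr rfl)), ?_⟩
        have : r * (x * s) = z * (r * s * x) := by
          rw [hxs', show r * (z * (s * x)) = (r * z) * (s * x) by group, hzc r]; group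
        exact this ▸ mul_mem (mem_zpowers z) e
  -- the action on the quotient by the centre
  haveI hzn : ((zpowers z).subgroupOf R).Normal := ⟨fun n hn g => by
    rw [mem_subgroupOf] at hn ⊢
    show (g : Y) * n * (g : Y)⁻¹ ∈ zpowers z
    rcases (mem_z_iff H).1 hn with e | e <;> rw [e]
    · simp
    · rw [hzc (g : Y), mul_inv_cancel_right]; exact mem_zpowers z⟩
  set K := (zpowers z).subgroupOf R with hK
  have hKz : ∀ g : Y, ∀ a : R, a ∈ K → MulAut.conjNormal g a ∈ K := by
    intro g a ha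
    rw [hK, mem_subgroupOf] at ha ⊢
    rw [MulAut.conjNormal_apply]
    rcases (mem_z_iff H).1 ha with e | e <;> rw [e]
    · simp
    · rw [hzc g, mul_inv_cancel_right]; exact mem_zpowers z
  let act : Y → ↥R ⧸ K →* ↥R ⧸ K := fun g =>
    QuotientGroup.map K K (MulAut.conjNormal g : MulAut ↥R).toMonoidHom fun a ha => mem_comap.2 (hKz g a ha)
  have hact : ∀ g h q, act g (act h q) = act (g * h) q := by
    intro g h q
    obtain ⟨a, rfl⟩ := QuotientGroup.mk'_surjective K q
    show QuotientGroup.mk' K (MulAut.conjNormal g (MulAut.conjNormal h a)) = QuotientGroup.mk' K (MulAut.conjNormal (g * h) a)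
    rw [map_mul, MulAut.mul_apply]
  have hone : ∀ q, act 1 q = q := by
    intro q
    obtain ⟨a, rfl⟩ := QuotientGroup.mk'_surjective K q
    show QuotientGroup.mk' K (MulAut.conjNormal (1 : Y) a) = _
    rw [map_one, MulAut.one_apply]
  let ρ : Y →* MulAut (↥R ⧸ K) := MonoidHom.mk'
    (fun g => MonoidHom.toMulEquiv (act g) (act g⁻¹)
      (MonoidHom.ext fun q => by show act g⁻¹ (act g q) = q; rw [hact, inv_mul_cancel, hone])
      (MonoidHom.ext fun q => by show act g (act g⁻¹ q) = q; rw [hact, mul_inv_cancel, hone]))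
    fun g h => MulEquiv.ext fun q => (hact g h q).symm
  have hρ : ∀ (g : Y) (a : R), ρ g (QuotientGroup.mk' K a) = QuotientGroup.mk' K (MulAut.conjNormal g a) :=
    fun g a => rfl
  have hcard4 : Nat.card (↥R ⧸ K) = 4 := by
    have hmem : ∀ q : ↥R ⧸ K, q = QuotientGroup.mk' K 1 ∨ q = QuotientGroup.mk' K ⟨x, hxR⟩ ∨
        q = QuotientGroup.mk' K ⟨s, hsR⟩ ∨ q = QuotientGroup.mk' K ⟨x * s, mul_mem hxR hsR⟩ := by
      intro q
      obtain ⟨r, rfl⟩ := QuotientGroup.mk'_surjective K q
      obtain ⟨m, hm, hmz⟩ := hgen r r.2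
      have key : ∀ (mm : Y) (hmm : mm ∈ R), (r : Y) * mm ∈ zpowers z →
          QuotientGroup.mk' K r = QuotientGroup.mk' K ⟨mm, hmm⟩ := by
        intro mm hmm hz
        refine QuotientGroup.eq.2 ?_
        rw [hK, mem_subgroupOf]
        show (r : Y)⁻¹ * mm ∈ zpowers z
        have h1 := sq_mem H r.2
        have : (r : Y)⁻¹ * mm = ((r : Y) * r)⁻¹ * ((r : Y) * mm) := by group
        exact this ▸ mul_mem (inv_mem h1) hz
      rcases hm with rfl | rfl | rfl | rfl
      exacts [Or.inl (key 1 (one_mem R) hmz), Or.inr (Or.inl (key _ hxR hmz)),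
        Or.inr (Or.inr (Or.inl (key _ hsR hmz))), Or.inr (Or.inr (Or.inr (key _ _ hmz)))]
    have hsne : s ∉ zpowers z := fun e => hxs (by
      rcases (mem_z_iff H).1 e with rfl | rfl
      · simp
      · exact hzc x)
    have hne : ∀ (a b : Y) (ha : a ∈ R) (hb : b ∈ R), a⁻¹ * b ∉ zpowers z →
        QuotientGroup.mk' K ⟨a, ha⟩ ≠ QuotientGroup.mk' K ⟨b, hb⟩ := fun a b ha hb h e => h (by
      have := QuotientGroup.eq.1 e
      rwa [hK, mem_subgroupOf] at this)
    classical
    letI := Fintype.ofFinite (↥R ⧸ K)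
    rw [Nat.card_eq_fintype_card, ← Finset.card_univ,
      show (Finset.univ : Finset (↥R ⧸ K)) = {QuotientGroup.mk' K ⟨1, one_mem R⟩, QuotientGroup.mk' K ⟨x, hxR⟩,
        QuotientGroup.mk' K ⟨s, hsR⟩, QuotientGroup.mk' K ⟨x * s, mul_mem hxR hsR⟩} from
      (Finset.eq_univ_iff_forall.2 fun q => by
        simp only [Finset.mem_insert, Finset.mem_singleton]; exact hmem q).symm]
    rw [Finset.card_insert_of_notMem, Finset.card_insert_of_notMem, Finset.card_pair]
    · exact hne _ _ _ _ fun e => hxs (by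
        rcases (mem_z_iff H).1 e with e1 | e1
        · have : x * s = s := (inv_mul_eq_one.1 e1).symm
          rw [mul_eq_right] at this
          exact absurd (this ▸ one_mem _) hxz
        · have hxe : x = s * z * s⁻¹ := by
            rw [← e1]; group
          rw [hzc s, mul_inv_cancel_right] at hxe
          exact absurd (hxe ▸ mem_zpowers z) hxz)
    · simp only [Finset.mem_insert, Finset.mem_singleton, not_or]
      refine ⟨hne _ _ _ _ fun e => hxs ?_, hne _ _ _ _ fun e => ?_⟩
      · rcases (mem_z_iff H).1 e with e1 | e1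
        · rw [inv_mul_eq_one.1 e1]
        · rw [inv_mul_eq_iff_eq_mul.1 e1, mul_assoc, ← hzc x]
      · rw [inv_mul_cancel_left] at e
        exact hsne e
    · simp only [Finset.mem_insert, Finset.mem_singleton, not_or]
      refine ⟨hne _ _ _ _ ?_, hne _ _ _ _ ?_, hne _ _ _ _ ?_⟩ <;> simp only [inv_one, one_mul]
      · exact hxz
      · exact hsne
      · intro e
        apply hxs
        rcases (mem_z_iff H).1 e with e1 | e1
        · rw [eq_inv_of_mul_eq_one_right e1, mul_inv_cancel, inv_mul_cancel]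
        · rw [show s = x⁻¹ * z by rw [← e1]; group]
          rw [mul_inv_cancel_left, mul_assoc, ← hzc x, inv_mul_cancel_left]
  haveI : Finite (MulAut (↥R ⧸ K)) :=
    Finite.of_injective (fun φ : MulAut (↥R ⧸ K) => (φ : ↥R ⧸ K → ↥R ⧸ K)) DFunLike.coe_injective
  have h6 := Cfsg.Lib.Recog.OrderSpecPSL.card_mulAut_dvd_six hcard4
  set φ := ρ.comp E.subtype
  obtain ⟨k, hk⟩ := IsPGroup.iff_card.1 (show IsPGroup 2 E from fun a => ⟨1, Subtype.ext (by
    rw [pow_one, Subgroup.coe_pow, pow_two]; exact hE _ a.2)⟩)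
  have hker : 4 ≤ Nat.card φ.ker := by
    have h1 := φ.ker.card_mul_index
    rw [index_ker] at h1
    obtain ⟨j, -, hj⟩ := (Nat.dvd_prime_pow Nat.prime_two).1
      (hk ▸ ⟨Nat.card φ.ker, by rw [← h1, mul_comm]⟩ : Nat.card φ.range ∣ 2 ^ k)
    have hj6 : 2 ^ j ∣ 6 := hj ▸ (card_subgroup_dvd_card φ.range).trans h6
    have hj1 : j ≤ 1 := by
      by_contra hj1
      have h4 : 4 ∣ 6 := (pow_dvd_pow 2 (show 2 ≤ j by omega)).trans hj6
      omega
    have : Nat.card φ.range ≤ 2 := hj ▸ (Nat.pow_le_pow_right two_pos hj1).trans (by norm_num)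
    have := Nat.mul_le_mul_left (Nat.card φ.ker) this
    omega
  obtain ⟨e, he, hez⟩ : ∃ e : E, e ∈ φ.ker ∧ (e : Y) ∉ zpowers z := by
    by_contra hall
    push Not at hall
    have : Nat.card φ.ker ≤ Nat.card (zpowers z) :=
      Nat.card_le_card_of_injective (fun a => (⟨((a : E) : Y), hall a a.2⟩ : zpowers z))
        fun a b hab => Subtype.ext (Subtype.ext (congrArg Subtype.val hab :))
    rw [Nat.card_zpowers, H.z_ord] at this
    omega
  -- `e` acts on `R` as an inner automorphism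
  have hmod : ∀ r ∈ R, (e : Y) * r * (e : Y)⁻¹ = r ∨ (e : Y) * r * (e : Y)⁻¹ = z * r := by
    intro r hr
    have h1 : ρ e (QuotientGroup.mk' K ⟨r, hr⟩) = QuotientGroup.mk' K ⟨r, hr⟩ := by
      rw [show ρ (e : Y) = 1 from he, MulAut.one_apply]
    rw [hρ] at h1
    have h2 := QuotientGroup.eq.1 h1.symm
    rw [hK, mem_subgroupOf] at h2
    rcases (mem_z_iff H).1 h2 with e1 | e1
    · left
      exact ((inv_mul_eq_one (a := r)).1 e1).symm
    · right
      rw [← hzc r]
      exact inv_mul_eq_iff_eq_mul.1 e1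
  obtain ⟨r, hrR, hr1, hr2⟩ : ∃ r ∈ R, r * x * r⁻¹ = (e : Y) * x * (e : Y)⁻¹ ∧
      r * s * r⁻¹ = (e : Y) * s * (e : Y)⁻¹ := by
    have hx' : s * x * s⁻¹ = z * x := by
      have : s * x = z * (x * s) := by rw [hxs', ← mul_assoc, hz2, one_mul]
      rw [this]; group
    have hs' : x * s * x⁻¹ = z * s := by rw [hxs']; group
    rcases hmod x hxR with h1 | h1 <;> rcases hmod s hsR with h2 | h2 <;> rw [h1, h2]
    · exact ⟨1, one_mem R, by group, by group⟩
    · exact ⟨x, hxR, by group, hs'⟩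
    · exact ⟨s, hsR, hx', by group⟩
    · refine ⟨x * s, mul_mem hxR hsR, ?_, ?_⟩
      · calc x * s * x * (x * s)⁻¹ = x * (s * x * s⁻¹) * x⁻¹ := by group
          _ = z * x := by rw [hx', ← mul_assoc, hzc x]; group
      · calc x * s * s * (x * s)⁻¹ = x * s * x⁻¹ := by group
          _ = z * s := hs'
  have hcx : Commute (r⁻¹ * (e : Y)) x := by
    show r⁻¹ * (e : Y) * x = x * (r⁻¹ * (e : Y))
    calc r⁻¹ * (e : Y) * x = r⁻¹ * ((e : Y) * x * (e : Y)⁻¹) * e := by group
      _ = r⁻¹ * (r * x * r⁻¹) * e := by rw [hr1]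
      _ = x * (r⁻¹ * (e : Y)) := by group
  have hcs : Commute (r⁻¹ * (e : Y)) s := by
    show r⁻¹ * (e : Y) * s = s * (r⁻¹ * (e : Y))
    calc r⁻¹ * (e : Y) * s = r⁻¹ * ((e : Y) * s * (e : Y)⁻¹) * e := by group
      _ = r⁻¹ * (r * s * r⁻¹) * e := by rw [hr2]
      _ = s * (r⁻¹ * (e : Y)) := by group
  have hin : r⁻¹ * (e : Y) ∈ R := H.self (mem_centralizer_iff.2 fun q hq => by
    obtain ⟨m, hm, hqm⟩ := hgen q hq
    have hcm : Commute (r⁻¹ * (e : Y)) m := by
      rcases hm with rfl | rfl | rfl | rfl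
      exacts [Commute.one_right _, hcx, hcs, hcx.mul_right hcs]
    have hcq : Commute (r⁻¹ * (e : Y)) (q * m) := by
      rcases (mem_z_iff H).1 hqm with e1 | e1 <;> rw [e1]
      exacts [Commute.one_right _, hzc _]
    have := hcq.mul_right hcm.inv_right
    rwa [mul_inv_cancel_right, Commute, SemiconjBy, eq_comm] at this)
  exact hez (invol_mem H (by simpa using mul_mem hrR hin) (hE _ e.2))

end BigTwo

/-- The 2-core of a solvable group with a central involution in two-rank above two. -/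
theorem OrdSix.exists_big_two {Y : Type u} [Group Y] [Finite Y] (h : OrdSix Y) [Group.IsSolvable Y]
    (hO : Cfsg.pPrimeCore 2 Y = ⊥) {z : Y} (hz : orderOf z = 2) (hzc : ∀ g : Y, g * z = z * g)
    {E : Subgroup Y} (hE : El E) (h8 : 8 ≤ Nat.card E) :
    (∃ A : Subgroup Y, A ≤ Cfsg.pCore 2 Y ∧ El A ∧ 8 ≤ Nat.card A) ∨
      ∃ F : Subgroup Y, F ≤ Cfsg.pCore 2 Y ∧ El F ∧ F.Normal ∧ Nat.card F = 4 := by
  haveI : Fact (Nat.Prime 2) := ⟨Nat.prime_two⟩
  by_cases h3 : 3 ∣ Nat.card Y
  · by_contra hne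
    push Not at hne
    haveI : Fact (Nat.Prime 3) := ⟨Nat.prime_three⟩
    obtain ⟨y, hy⟩ := exists_prime_orderOf_dvd_card' 3 h3
    have hzR : z ∈ Cfsg.pCore 2 Y := by
      haveI : (zpowers z).Normal := ⟨fun n hn g => by
        obtain ⟨k, rfl⟩ := hn
        refine ⟨k, ?_⟩
        show z ^ k = g * z ^ k * g⁻¹
        rw [((show Commute g z from hzc g).zpow_right k).eq, mul_inv_cancel_right]⟩
      exact Core.le_pCore (IsPGroup.of_card (p := 2) (n := 1) (by rw [Nat.card_zpowers, hz, pow_one]))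
        (mem_zpowers z)
    exact BigTwo.no_eight_elementary (R := Cfsg.pCore 2 Y) (y := y) (z := z)
      ⟨h, inferInstance, Core.pCore_isPGroup 2 Y,
        Core.centralizer_pCore_le_of_isPSolvable Core.isPSolvable_of_isSolvable hO, hz, hzR, hzc, hy,
        fun A h1 h2 => hne.1 A h1 h2, fun F h1 h2 h3' => hne.2 F h1 h2 h3'⟩ hE h8
  · have h5 : ¬ 5 ∣ Nat.card Y := fun hd => by
      haveI : Fact (Nat.Prime 5) := ⟨by norm_num⟩
      obtain ⟨f, hf⟩ := exists_prime_orderOf_dvd_card' 5 hd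
      have := h.not_commute_five hf (fun e => by rw [e, orderOf_one] at hz; omega) (hzc f)
      omega
    have hp : IsPGroup 2 Y := by
      have hcard : Nat.card Y = 2 ^ (Nat.card Y).primeFactorsList.length :=
        Nat.eq_prime_pow_of_unique_prime_dvd Nat.card_pos.ne' fun {d} hd hdY => by
          rcases h.prime_cases hd hdY with rfl | rfl | rfl
          exacts [rfl, absurd hdY h3, absurd hdY h5]
      exact IsPGroup.of_card hcard
    exact Or.inl ⟨E, by rw [Core.pCore_eq_top hp]; exact le_top, hE, h8⟩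

end Cfsg.Lib.Recog.OrderSix
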