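import Cfsg.Agent.Lib.Recog.OrderSix.Modules
import Cfsg.Agent.Lib.Recog.OrderSix.AlmostSimple
import Cfsg.Agent.Lib.Core.PSolvable
import Cfsg.Agent.Lib.Kazarin.Radical
import Cfsg.Agent.Lib.Group.MinimalNormalFactor

/-!
# Element orders at most six: non-solvable groups have no normal subgroup of odd order

A minimal one is an elementary `p`-group, self-centralizing by induction. With a radical of even order an
element of order five on a 2-subgroup makes this centralize it, and otherwise a four group of a section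
`A₄` lifts and centralizes it.
-/

set_option autoImplicit false
set_option linter.unusedSectionVars false
set_option linter.style.haveILetI false

namespace Cfsg.Lib.Recog.OrderSix

open Subgroup Cfsg.Lib

universe u

variable {X : Type u} [Group X] [Finite X]

/-- The norm of an element of order `p` on a `p`-group vanishes. -/
theorem OrdSix.nm_eq_one_self (h : OrdSix X) {V : Subgroup X} {f v : X} {p : ℕ} (hp : p.Prime)
    (hp6 : 6 < p * p) (hV : ∀ u ∈ V, u ^ p = 1) (hf : f ∈ normalizer (V : Set X)) (hv : v ∈ V)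
    (hfo : orderOf f = p) : nm f v p = 1 := by
  have hfn : f ^ p = 1 := hfo ▸ pow_orderOf_eq_one f
  have e : (v * f) ^ p = nm f v p := by rw [mul_pow_nm, hfn, mul_one]
  rw [← e, ← orderOf_dvd_iff_pow_eq_one]
  obtain ⟨k, hk, hk'⟩ := (Nat.dvd_prime_pow hp).1 (show orderOf (v * f) ∣ p ^ 2 from
    orderOf_dvd_of_pow_eq_one (by rw [pow_two, pow_mul, e, hV _ (nm_mem hf hv p)]))
  rcases Nat.lt_or_ge k 2 with hk2 | hk2
  · exact hk' ▸ (Nat.pow_dvd_pow p (show k ≤ 1 by omega)).trans (dvd_of_eq (pow_one p))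
  · exfalso
    have h6 := h (v * f)
    rw [hk', show k = 2 by omega, pow_two] at h6
    omega

/-- A four group with an element of order three permuting its involutions. -/
def HasFourThree (Y : Type*) [Group Y] : Prop :=
  ∃ k₁ k₂ a : Y, k₁ * k₁ = 1 ∧ k₂ * k₂ = 1 ∧ k₁ * k₂ = k₂ * k₁ ∧ k₁ ≠ 1 ∧ k₂ ≠ 1 ∧ k₁ ≠ k₂ ∧ a ^ 3 = 1 ∧
    a * k₁ * a⁻¹ = k₂ ∧ a * k₂ * a⁻¹ = k₁ * k₂

theorem HasFourThree.of_injective {Y Z : Type*} [Group Y] [Group Z] (f : Y →* Z) (hf : Function.Injective f)
    (h : HasFourThree Y) : HasFourThree Z := by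
  obtain ⟨k, l, a, h1, h2, h3, h4, h5, h6, h7, h8, h9⟩ := h
  exact ⟨f k, f l, f a, by rw [← map_mul, h1, map_one], by rw [← map_mul, h2, map_one],
    by rw [← map_mul, h3, map_mul], fun e => h4 (hf (e.trans (map_one f).symm)),
    fun e => h5 (hf (e.trans (map_one f).symm)), fun e => h6 (hf e), by rw [← map_pow, h7, map_one],
    by rw [← map_inv, ← map_mul, ← map_mul, h8], by rw [← map_inv, ← map_mul, ← map_mul, h9, map_mul]⟩

theorem hasFourThree_alt_five : HasFourThree ↥(alternatingGroup (Fin 5)) := by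
  refine ⟨⟨Equiv.swap 0 1 * Equiv.swap 2 3, ?_⟩, ⟨Equiv.swap 0 3 * Equiv.swap 1 2, ?_⟩,
    ⟨Equiv.swap 0 1 * Equiv.swap 1 2, ?_⟩, ?_⟩
  iterate 3 (rw [Equiv.Perm.mem_alternatingGroup]; decide +kernel)
  decide +kernel

theorem hasFourThree_alt_six : HasFourThree ↥(alternatingGroup (Fin 6)) := by
  refine ⟨⟨Equiv.swap 0 1 * Equiv.swap 2 3, ?_⟩, ⟨Equiv.swap 0 3 * Equiv.swap 1 2, ?_⟩,
    ⟨Equiv.swap 0 1 * Equiv.swap 1 2, ?_⟩, ?_⟩
  iterate 3 (rw [Equiv.Perm.mem_alternatingGroup]; decide +kernel)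
  decide +kernel

theorem IsAlmostAlt.hasFourThree {Y : Type*} [Group Y] (h : IsAlmostAlt Y) : HasFourThree Y := by
  rcases h with ⟨⟨e⟩⟩ | ⟨⟨e⟩⟩ | ⟨⟨e⟩⟩ | ⟨⟨e⟩⟩
  · exact hasFourThree_alt_five.of_injective e.symm.toMonoidHom e.symm.injective
  · exact hasFourThree_alt_six.of_injective e.symm.toMonoidHom e.symm.injective
  · exact hasFourThree_alt_five.of_injective (e.symm.toMonoidHom.comp (alternatingGroup (Fin 5)).subtype)
      (e.symm.injective.comp (alternatingGroup (Fin 5)).subtype_injective)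
  · exact hasFourThree_alt_six.of_injective (e.symm.toMonoidHom.comp (alternatingGroup (Fin 6)).subtype)
      (e.symm.injective.comp (alternatingGroup (Fin 6)).subtype_injective)

theorem isSolvable_of_le {H K : Subgroup X} (hle : H ≤ K) (hK : Group.IsSolvable K) : Group.IsSolvable H :=
  haveI := hK
  Group.isSolvable_of_isSolvable_injective (inclusion_injective hle)

theorem not_solvable_quotient (hns : ¬ Group.IsSolvable X) (N : Subgroup X) [N.Normal]
    (hN : Group.IsSolvable N) : ¬ Group.IsSolvable (X ⧸ N) := fun hq =>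
  haveI := hN
  haveI := hq
  hns (Group.isSolvable_of_ker_le_range N.subtype (QuotientGroup.mk' N)
    (by rw [QuotientGroup.ker_mk', range_subtype]))

/-- The quotient by the radical has trivial radical. -/
theorem quotient_radical {R : Subgroup X} [R.Normal] (hRs : Group.IsSolvable R)
    (hR : ∀ N : Subgroup X, N.Normal → Group.IsSolvable N → N ≤ R) :
    ∀ N : Subgroup (X ⧸ R), N.Normal → Group.IsSolvable N → N = ⊥ := by
  intro N hN hNs
  set Y := N.comap (QuotientGroup.mk' R)
  let g : Y →* N :=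
    { toFun := fun y => ⟨QuotientGroup.mk' R y, y.2⟩
      map_one' := Subtype.ext (map_one _)
      map_mul' := fun a b => Subtype.ext (map_mul _ _ _) }
  haveI := hRs
  haveI := hNs
  have hRY : R ≤ Y := fun r hr => by
    show QuotientGroup.mk' R r ∈ N
    rw [show QuotientGroup.mk' R r = 1 from (QuotientGroup.eq_one_iff r).2 hr]
    exact one_mem N
  have hYs : Group.IsSolvable Y := Group.isSolvable_of_ker_le_range (inclusion hRY) g fun y hy =>
    ⟨⟨y, (QuotientGroup.eq_one_iff _).1 (congrArg Subtype.val hy)⟩, rfl⟩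
  have hle := hR Y inferInstance hYs
  rw [eq_bot_iff]
  intro x hx
  obtain ⟨x, rfl⟩ := QuotientGroup.mk'_surjective R x
  exact Subgroup.mem_bot.2 ((QuotientGroup.eq_one_iff x).2 (hle hx))

theorem eq_one_of_odd {V : Subgroup X} (hV : Odd (Nat.card V)) {x : X} (hx : x ∈ V) {n : ℕ}
    (hn : x ^ (2 ^ n) = 1) : x = 1 := by
  obtain ⟨k, -, hk⟩ := (Nat.dvd_prime_pow Nat.prime_two).1 (orderOf_dvd_of_pow_eq_one hn)
  have hodd : Odd (orderOf x) := hV.of_dvd_nat (V.orderOf_dvd_natCard hx)
  rcases k with _ | k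
  · exact orderOf_eq_one_iff.1 (hk.trans (pow_zero 2))
  · rw [hk, pow_succ] at hodd
    exact absurd hodd (Nat.not_odd_iff_even.2 (even_two.mul_left _))

/-- A radical of even order: its central involutions centralize `V`. -/
theorem exists_two_centralizing (h : OrdSix X) {V : Subgroup X} [V.Normal] {p : ℕ} (hp : p = 3 ∨ p = 5)
    (hVc : ∀ u ∈ V, ∀ v ∈ V, u * v = v * u) (hVp : ∀ u ∈ V, u ^ p = 1) (hVodd : Odd (Nat.card V))
    {R : Subgroup X} [R.Normal] (h5 : 5 ∣ Nat.card (X ⧸ R)) (h2 : 2 ∣ Nat.card R) :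
    ∃ b ∈ centralizer (V : Set X), orderOf b = 2 := by
  classical
  haveI : Fact (Nat.Prime 2) := ⟨Nat.prime_two⟩
  haveI : Fact (Nat.Prime 5) := ⟨by norm_num⟩
  have hnmV : ∀ g : X, g ∈ normalizer (V : Set X) := fun g => by rw [normalizer_eq_top]; exact mem_top g
  obtain ⟨P⟩ : Nonempty (Sylow 2 R) := inferInstance
  set T := (P : Subgroup R).map R.subtype
  -- an element of order five normalizing `T`
  obtain ⟨x, hx⟩ := exists_prime_orderOf_dvd_card' 5 h5
  obtain ⟨x, rfl⟩ := QuotientGroup.mk'_surjective R x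
  obtain ⟨f, hf, r, hr, hfr⟩ := (mem_sup_of_normal_right (s := normalizer (T : Set X)) (t := R)).1
    ((Sylow.normalizer_sup_eq_top P).symm ▸ mem_top x)
  have hfx : orderOf (QuotientGroup.mk' R f) = 5 := by
    rw [← hx, ← hfr, map_mul, show QuotientGroup.mk' R r = 1 from (QuotientGroup.eq_one_iff r).2 hr, mul_one]
  have hf5 : orderOf f = 5 := by
    obtain ⟨k, hk⟩ := hfx ▸ orderOf_map_dvd (QuotientGroup.mk' R) f
    have := h f
    have := orderOf_pos f
    omega
  -- the central elements of exponent two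
  let B : Subgroup X :=
    { carrier := {b | b ∈ T ∧ b * b = 1 ∧ ∀ t ∈ T, b * t = t * b}
      one_mem' := ⟨one_mem T, one_mul 1, fun t _ => by rw [one_mul, mul_one]⟩
      mul_mem' := fun {a b} ha hb => ⟨mul_mem ha.1 hb.1, by
        calc a * b * (a * b) = a * (b * a) * b := by group
          _ = a * (a * b) * b := by rw [hb.2.2 a ha.1]
          _ = a * a * (b * b) := by group
          _ = 1 := by rw [ha.2.1, hb.2.1, one_mul],
        fun t ht => ((show Commute a t from ha.2.2 t ht).mul_left (show Commute b t from hb.2.2 t ht)).eq⟩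
      inv_mem' := fun {a} ha => by rw [inv_eq_of_mul_eq_one_left ha.2.1]; exact ha }
  have hTp : IsPGroup 2 T := P.2.map R.subtype
  haveI : Nontrivial T := by
    rw [nontrivial_iff_ne_bot]
    intro hb
    have := (map_eq_bot_iff_of_injective _ R.subtype_injective).1 hb
    exact P.ne_bot_of_dvd_card h2 this
  haveI := hTp.center_nontrivial
  obtain ⟨z, hz⟩ : ∃ z : center T, orderOf z = 2 := by
    refine exists_prime_orderOf_dvd_card' 2 ?_
    obtain ⟨k, hk⟩ := (hTp.to_subgroup (center T)).exists_card_eq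
    rcases k with _ | k
    · rw [pow_zero] at hk
      exact absurd hk Finite.one_lt_card.ne'
    · exact hk ▸ Dvd.intro_left _ (pow_succ 2 k).symm
  have hz2 : orderOf ((z : T) : X) = 2 := by rw [Subgroup.orderOf_coe, Subgroup.orderOf_coe, hz]
  have hzB : ((z : T) : X) ∈ B :=
    ⟨(z : T).2, by rw [← pow_two, ← hz2, pow_orderOf_eq_one],
      fun t ht => (congrArg Subtype.val (mem_center_iff.1 z.2 ⟨t, ht⟩)).symm⟩
  have hfB : f ∈ normalizer (B : Set X) := by
    have key : ∀ g : X, g ∈ normalizer (T : Set X) → ∀ b ∈ B, g * b * g⁻¹ ∈ B := fun g hg b hb =>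
      ⟨(mem_normalizer_iff.1 hg b).1 hb.1,
        by rw [show g * b * g⁻¹ * (g * b * g⁻¹) = g * (b * b) * g⁻¹ by group, hb.2.1]; group,
        fun t ht => by
          have ht' : g⁻¹ * t * g ∈ T := by
            have := (mem_normalizer_iff.1 (inv_mem hg) t).1 ht
            rwa [inv_inv] at this
          calc g * b * g⁻¹ * t = g * (b * (g⁻¹ * t * g)) * g⁻¹ := by group
            _ = g * ((g⁻¹ * t * g) * b) * g⁻¹ := by rw [hb.2.2 _ ht']
            _ = t * (g * b * g⁻¹) := by group⟩
    refine mem_normalizer_iff.2 fun b => ⟨key f hf b, fun hb => ?_⟩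
    have := key f⁻¹ (inv_mem hf) _ hb
    rwa [show f⁻¹ * (f * b * f⁻¹) * f⁻¹⁻¹ = b by group] at this
  refine ⟨_, ?_, hz2⟩
  have hco : (Nat.card B).Coprime (Nat.card V) := by
    have hBp : IsPGroup 2 B := hTp.to_le fun b hb => hb.1
    obtain ⟨k, hk⟩ := hBp.exists_card_eq
    rw [hk]
    exact Nat.Coprime.pow_left _ (Nat.coprime_two_left.2 hVodd)
  have hA : Acts V B := ⟨hVc, fun a ha b hb => ha.2.2 b hb.1, fun b _ => hnmV b, hco⟩
  have hle := hA.le_centralizer_of_prime (q := 2) (r := 5) Nat.prime_two (by norm_num)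
    (fun b hb => by rw [pow_two]; exact hb.2.1) (by norm_num) (f := f) (hf5 ▸ pow_orderOf_eq_one f) (hnmV f) hfB
    (fun b hb hfix => by
      by_contra hb1
      have h5b := h.not_commute_five hf5 hb1 (mul_inv_eq_iff_eq_mul.1 hfix)
      have h2b : orderOf b ∣ 2 := orderOf_dvd_of_pow_eq_one (by rw [pow_two]; exact hb.2.1)
      have := Nat.le_of_dvd two_pos (h5b.trans h2b)
      omega)
    (fun v hv => by
      rcases hp with rfl | rfl
      · exact h.nm_eq_one Nat.prime_three hVp (hnmV f) hv hf5 (Or.inl ⟨by norm_num, by norm_num, by norm_num⟩)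
      · exact h.nm_eq_one_self (by norm_num) (by norm_num) hVp (hnmV f) hv hf5)
  exact (le_centralizer_iff.1 hle) hzB

/-- A radical of odd order: a four group of a section `A₄` lifts and centralizes `V`. -/
theorem exists_four_centralizing (h : OrdSix X) {V : Subgroup X} [V.Normal] {p : ℕ} (hp : p = 3 ∨ p = 5)
    (hVc : ∀ u ∈ V, ∀ v ∈ V, u * v = v * u) (hVp : ∀ u ∈ V, u ^ p = 1) (hVodd : Odd (Nat.card V))
    {R : Subgroup X} [R.Normal] (hQ : HasFourThree (X ⧸ R)) (h2 : ¬ 2 ∣ Nat.card R) :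
    ∃ b ∈ centralizer (V : Set X), orderOf b = 2 := by
  classical
  haveI : Fact (Nat.Prime 2) := ⟨Nat.prime_two⟩
  have hnmV : ∀ g : X, g ∈ normalizer (V : Set X) := fun g => by rw [normalizer_eq_top]; exact mem_top g
  obtain ⟨k, l, c, hkk, hll, hkl, hk1, hl1, hne, hc3, hck, hcl⟩ := hQ
  set π := QuotientGroup.mk' R with hπ
  -- the four group of the quotient
  let K : Subgroup (X ⧸ R) :=
    { carrier := {x | x = 1 ∨ x = k ∨ x = l ∨ x = k * l}
      one_mem' := Or.inl rfl
      mul_mem' := by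
        have e1 : k * (k * l) = l := by rw [← mul_assoc, hkk, one_mul]
        have e2 : l * (k * l) = k := by rw [hkl, ← mul_assoc, hll, one_mul]
        have e3 : (k * l) * k = l := by rw [hkl, mul_assoc, hkk, mul_one]
        have e4 : (k * l) * l = k := by rw [mul_assoc, hll, mul_one]
        have e5 : (k * l) * (k * l) = 1 := by rw [mul_assoc, e2, hkk]
        intro a b ha hb
        rcases ha with rfl | rfl | rfl | rfl <;> rcases hb with rfl | rfl | rfl | rfl <;>
          simp [hkk, hll, e1, e2, e3, e4, e5, hkl.symm, Set.mem_setOf_eq]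
      inv_mem' := by
        have ik : k⁻¹ = k := inv_eq_of_mul_eq_one_left hkk
        have il : l⁻¹ = l := inv_eq_of_mul_eq_one_left hll
        intro a ha
        rcases ha with rfl | rfl | rfl | rfl <;> simp [ik, il, hkl.symm, Set.mem_setOf_eq, mul_inv_rev] }
  have hkl1 : k * l ≠ 1 := fun e => hne ((eq_inv_of_mul_eq_one_left e).trans (inv_eq_of_mul_eq_one_left hll))
  have hKcard : Nat.card K = 4 := by
    show Nat.card ({x | x = 1 ∨ x = k ∨ x = l ∨ x = k * l} : Set (X ⧸ R)) = 4
    rw [Nat.card_coe_set_eq, show ({x | x = 1 ∨ x = k ∨ x = l ∨ x = k * l} : Set (X ⧸ R)) =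
      (({1, k, l, k * l} : Finset (X ⧸ R)) : Set (X ⧸ R)) by ext; simp, Set.ncard_coe_finset,
      Finset.card_insert_of_notMem, Finset.card_insert_of_notMem, Finset.card_insert_of_notMem,
      Finset.card_singleton]
    · simp [hk1]
    · simp [hne, hl1]
    · simp [Ne.symm hk1, Ne.symm hl1, Ne.symm hkl1]
  have hKcomm : ∀ a ∈ K, ∀ b ∈ K, a * b = b * a := by
    have ck : Commute k l := hkl
    intro a ha b hb
    rcases ha with ha | ha | ha | ha <;> rcases hb with hb | hb | hb | hb <;> rw [ha, hb]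
    all_goals first
      | exact (Commute.one_left _).eq
      | exact (Commute.one_right _).eq
      | exact (Commute.refl _).eq
      | exact ck.eq
      | exact ck.symm.eq
      | exact ((Commute.refl k).mul_right ck).eq
      | exact (ck.symm.mul_right (Commute.refl l)).eq
      | exact ((Commute.refl k).mul_right ck).symm.eq
      | exact (ck.symm.mul_right (Commute.refl l)).symm.eq
  -- conjugation by `c` has no fixed point on `K` and has order three
  have hcfix : ∀ b ∈ K, c * b * c⁻¹ = b → b = 1 := by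
    rintro b (rfl | rfl | rfl | rfl) hb
    · rfl
    · exact absurd (hck.symm.trans hb) (Ne.symm hne)
    · exact absurd (mul_eq_right.1 (hcl.symm.trans hb)) hk1
    · rw [show c * (k * l) * c⁻¹ = (c * k * c⁻¹) * (c * l * c⁻¹) by group, hck, hcl, hkl, ← mul_assoc, hll,
        one_mul, right_eq_mul] at hb
      exact absurd hb hl1
  -- a Sylow 2-subgroup of the preimage
  set Y := K.comap π with hY
  have hYcard : Nat.card Y = 4 * Nat.card R := by
    have h1 := Y.card_mul_index
    have h2' := K.card_mul_index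
    rw [hY, index_comap_of_surjective K (QuotientGroup.mk'_surjective R)] at h1
    rw [hKcard] at h2'
    have h3 := Subgroup.card_eq_card_quotient_mul_card_subgroup R
    refine Nat.eq_of_mul_eq_mul_right (Nat.pos_of_ne_zero (K.index_ne_zero_of_finite)) ?_
    rw [h1, h3, ← h2']
    ring
  have hfac : (Nat.card Y).factorization 2 = 2 := by
    rw [hYcard, Nat.factorization_mul (by norm_num) Nat.card_pos.ne', Finsupp.add_apply,
      Nat.factorization_eq_zero_of_not_dvd h2, show (4 : ℕ) = 2 ^ 2 from rfl, Nat.Prime.factorization_pow Nat.prime_two,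
      Finsupp.single_eq_same, add_zero]
  obtain ⟨P⟩ : Nonempty (Sylow 2 Y) := inferInstance
  have hPcard : Nat.card (P : Subgroup Y) = 4 := by rw [P.card_eq_multiplicity, hfac]; norm_num
  set T := (P : Subgroup Y).map Y.subtype with hT
  have hTcard : Nat.card T = 4 := by rw [hT, card_map_of_injective Y.subtype_injective, hPcard]
  have hTK : ∀ t ∈ T, π t ∈ K := by
    rintro _ ⟨t, -, rfl⟩
    exact t.2
  have hTR : ∀ t ∈ T, π t = 1 → t = 1 := by
    intro t ht he
    refine eq_one_of_odd (n := 2) (Nat.odd_iff.2 (Nat.two_dvd_ne_zero.1 h2)) ((QuotientGroup.eq_one_iff t).1 he) ?_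
    have := T.orderOf_dvd_natCard ht
    rw [hTcard] at this
    exact orderOf_dvd_iff_pow_eq_one.1 (by norm_num; exact this)
  have hTinj : ∀ s ∈ T, ∀ t ∈ T, π s = π t → s = t := fun s hs t ht he =>
    inv_mul_eq_one.1 (hTR _ (mul_mem (inv_mem hs) ht) (by rw [map_mul, map_inv, he, inv_mul_cancel]))
  -- an element inducing `c`, normalizing `T`
  obtain ⟨x, hx⟩ := QuotientGroup.mk'_surjective R c
  have hcK : ∀ b ∈ K, c * b * c⁻¹ ∈ K := by
    rintro b (rfl | rfl | rfl | rfl)
    · exact Or.inl (by group)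
    · exact Or.inr (Or.inr (Or.inl hck))
    · exact Or.inr (Or.inr (Or.inr hcl))
    · refine Or.inr (Or.inl ?_)
      rw [show c * (k * l) * c⁻¹ = (c * k * c⁻¹) * (c * l * c⁻¹) by group, hck, hcl, hkl, ← mul_assoc, hll, one_mul]
  have hxY : ∀ y ∈ Y, x * y * x⁻¹ ∈ Y := fun y hy => by
    show π (x * y * x⁻¹) ∈ K
    rw [map_mul, map_mul, map_inv, hx]
    exact hcK _ hy
  let σ : Y →* Y :=
    { toFun := fun y => ⟨x * y * x⁻¹, hxY y y.2⟩
      map_one' := Subtype.ext (by simp)
      map_mul' := fun a b => Subtype.ext (by show x * (a * b : X) * x⁻¹ = x * a * x⁻¹ * (x * b * x⁻¹); group) }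
  have hσ : Function.Injective σ := fun a b hab => Subtype.ext (by
    have := congrArg Subtype.val hab
    exact mul_left_cancel (mul_right_cancel this))
  let P' : Sylow 2 Y := Sylow.ofCard ((P : Subgroup Y).map σ)
    (by rw [card_map_of_injective hσ, hPcard, hfac]; norm_num)
  obtain ⟨y, hy⟩ := MulAction.exists_smul_eq Y P P'
  set n := (y : X)⁻¹ * x with hn
  have hnT : ∀ t ∈ T, n * t * n⁻¹ ∈ T := by
    rintro _ ⟨t, ht, rfl⟩
    have h1 : σ t ∈ ((y • P : Sylow 2 Y) : Subgroup Y) := by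
      rw [hy]
      exact ⟨t, ht, rfl⟩
    rw [Sylow.coe_subgroup_smul, Subgroup.mem_pointwise_smul_iff_inv_smul_mem, ← map_inv, MulAut.smul_def,
      MulAut.conj_apply, inv_inv] at h1
    refine ⟨y⁻¹ * σ t * y, h1, ?_⟩
    show (y : X)⁻¹ * (x * t * x⁻¹) * y = n * t * n⁻¹
    rw [hn]; group
  have hact : ∀ b ∈ K, π n * b * (π n)⁻¹ = c * b * c⁻¹ := by
    intro b hb
    rw [hn, map_mul, map_inv, hx]
    have hcomm := hKcomm _ (inv_mem (show π y ∈ K from y.2)) _ (hcK b hb)
    calc (π y)⁻¹ * c * b * ((π y)⁻¹ * c)⁻¹ = (π y)⁻¹ * (c * b * c⁻¹) * π y := by group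
      _ = c * b * c⁻¹ := by rw [hcomm, inv_mul_cancel_right]
  have hpow : ∀ j : ℕ, ∀ b ∈ K, (π n) ^ j * b * ((π n) ^ j)⁻¹ = c ^ j * b * (c ^ j)⁻¹ ∧
      c ^ j * b * (c ^ j)⁻¹ ∈ K := by
    intro j
    induction j with
    | zero => exact fun b hb => ⟨by simp, by simpa using hb⟩
    | succ j ih =>
      intro b hb
      obtain ⟨e1, e2⟩ := ih b hb
      have e3 : c ^ (j + 1) * b * (c ^ (j + 1))⁻¹ = c * (c ^ j * b * (c ^ j)⁻¹) * c⁻¹ := by
        rw [pow_succ']; group
      refine ⟨?_, e3 ▸ hcK _ e2⟩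
      rw [e3, ← hact _ e2, ← e1, pow_succ']; group
  have h3n : 3 ∣ orderOf n := by
    have h1 : (π n) ^ orderOf n = 1 := by rw [← map_pow, pow_orderOf_eq_one, map_one]
    have h2' := (hpow (orderOf n) k (Or.inr (Or.inl rfl))).1
    rw [h1, one_mul, inv_one, mul_one] at h2'
    rw [Nat.dvd_iff_mod_eq_zero]
    rw [pow_eq_pow_mod _ hc3] at h2'
    have hlt := Nat.mod_lt (orderOf n) (show 3 > 0 by norm_num)
    interval_cases hm : orderOf n % 3
    · rfl
    · rw [pow_one, hck] at h2'
      exact absurd h2' hne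
    · rw [pow_two, show c * c * k * (c * c)⁻¹ = c * (c * k * c⁻¹) * c⁻¹ by group, hck, hcl, left_eq_mul] at h2'
      exact absurd h2' hl1
  have hn12 : (n ^ 4) ^ 3 = 1 := by
    rw [← pow_mul, ← orderOf_dvd_iff_pow_eq_one]
    have := h n
    have := orderOf_pos n
    obtain ⟨j, hj⟩ := h3n
    have : j = 1 ∨ j = 2 := by omega
    rcases this with rfl | rfl <;> rw [hj] <;> norm_num
  set a := n ^ 4 with ha
  have haT : a ∈ normalizer (T : Set X) := by
    refine pow_mem (mem_normalizer_iff.2 fun t => ⟨hnT t, fun ht => ?_⟩) 4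
    obtain ⟨s, hs⟩ := (Finite.injective_iff_surjective (f := fun s : T => (⟨n * s * n⁻¹, hnT s s.2⟩ : T))).1
      (fun a b hab => Subtype.ext (mul_left_cancel (mul_right_cancel (congrArg Subtype.val hab)))) ⟨_, ht⟩
    have := mul_left_cancel (mul_right_cancel (congrArg Subtype.val hs))
    exact this ▸ s.2
  have haπ : ∀ b ∈ K, π a * b * (π a)⁻¹ = c * b * c⁻¹ := by
    intro b hb
    rw [ha, map_pow, (hpow 4 b hb).1, show (4 : ℕ) = 3 + 1 from rfl, pow_add, hc3, one_mul, pow_one]
  have hfix : ∀ t ∈ T, a * t * a⁻¹ = t → t = 1 := by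
    intro t ht he
    refine hTR t ht (hcfix _ (hTK t ht) ?_)
    rw [← haπ _ (hTK t ht), ← map_inv, ← map_mul, ← map_mul, he]
  have hao : orderOf a = 3 := by
    haveI : Fact (Nat.Prime 3) := ⟨Nat.prime_three⟩
    refine orderOf_eq_prime hn12 fun e => ?_
    have := haπ k (Or.inr (Or.inl rfl))
    rw [e, map_one, one_mul, inv_one, mul_one, hck] at this
    exact hne this
  have hTcomm : ∀ s ∈ T, ∀ t ∈ T, s * t = t * s := fun s hs t ht =>
    hTinj _ (mul_mem hs ht) _ (mul_mem ht hs) (by rw [map_mul, map_mul]; exact hKcomm _ (hTK s hs) _ (hTK t ht))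
  have hTsq : ∀ t ∈ T, t ^ 2 = 1 := fun t ht => hTR _ (pow_mem ht 2) (by
    rw [map_pow, pow_two]
    rcases hTK t ht with e | e | e | e <;> rw [e]
    · rw [one_mul]
    · exact hkk
    · exact hll
    · rw [mul_assoc, ← mul_assoc l, ← hkl, mul_assoc, hll, mul_one, hkk])
  have hA : Acts V T := ⟨hVc, hTcomm, fun t _ => hnmV t, by
    rw [hTcard, show (4 : ℕ) = 2 ^ 2 from rfl]
    exact Nat.Coprime.pow_left _ (Nat.coprime_two_left.2 hVodd)⟩
  have hle := hA.le_centralizer_of_prime (q := 2) (r := 3) Nat.prime_two Nat.prime_three hTsq (by norm_num)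
    (f := a) hn12 (hnmV a) haT hfix
    (fun v hv => by
      rcases hp with rfl | rfl
      · exact h.nm_eq_one_self Nat.prime_three (by norm_num) hVp (hnmV a) hv hao
      · exact h.nm_eq_one (by norm_num) hVp (hnmV a) hv hao (Or.inl ⟨Nat.prime_three, by norm_num, by norm_num⟩))
  obtain ⟨b, hb⟩ := exists_prime_orderOf_dvd_card' (G := T) 2 (by rw [hTcard]; norm_num)
  exact ⟨b, (le_centralizer_iff.1 hle) b.2, by rw [Subgroup.orderOf_coe, hb]⟩

theorem odd_normal_eq_bot_aux : ∀ n : ℕ, ∀ (X : Type u) [Group X] [Finite X], Nat.card X = n → OrdSix X →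
    Small.{u} (n + 1) → ¬ Group.IsSolvable X → ∀ N : Subgroup X, N.Normal → Odd (Nat.card N) → N = ⊥ := by
  intro n
  induction n using Nat.strong_induction_on with
  | _ n ih =>
  intro X _ _ hX h hS hns N hN hNodd
  classical
  by_contra hNne
  haveI : Fact (Nat.Prime 2) := ⟨Nat.prime_two⟩
  obtain ⟨V, hVn, hVN, hVne, hVmin⟩ := Cfsg.Lib.Group.MinFactor.exists_minimal_normal hN hNne
  haveI := hVn
  have hVodd : Odd (Nat.card V) := hNodd.of_dvd_nat (card_dvd_of_le hVN)
  have hVs : Group.IsSolvable V := Cfsg.Agent.S0205.result hVodd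
  have hV : Core.IsMinNormal V := ⟨hVn, hVne, fun K hK hKV => by
    by_cases hb : K = ⊥
    exacts [Or.inl hb, Or.inr (hVmin K hK hKV hb)]⟩
  obtain ⟨hVc, p, hpp, hVp, -⟩ := Core.minimal_solvable_elementary hV hVs
  have hVc' : ∀ u ∈ V, ∀ v ∈ V, u * v = v * u := fun u hu v hv =>
    congrArg Subtype.val (hVc.is_comm.comm ⟨u, hu⟩ ⟨v, hv⟩)
  obtain ⟨w, hw, hw1⟩ : ∃ w ∈ V, w ≠ 1 := by
    obtain ⟨⟨w, hw⟩, h1⟩ := Subgroup.ne_bot_iff_exists_ne_one.1 hVne
    exact ⟨w, hw, fun e => h1 (Subtype.ext e)⟩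
  haveI := Fact.mk hpp
  have hwp : orderOf w = p := orderOf_eq_prime (hVp w hw) hw1
  have hp : p = 3 ∨ p = 5 := by
    rcases h.prime_cases hpp (hwp ▸ orderOf_dvd_natCard w) with rfl | h35
    · exact absurd (hwp ▸ V.orderOf_dvd_natCard hw) hVodd.not_two_dvd_nat
    · exact h35
  -- no nontrivial normal 2-subgroup
  have hlt : ∀ (M : Subgroup X) [M.Normal], M ≠ ⊥ → Nat.card (X ⧸ M) < n := fun M _ hM => by
    rw [← hX, Subgroup.card_eq_card_quotient_mul_card_subgroup M]
    exact lt_mul_of_one_lt_right Nat.card_pos ((Subgroup.one_lt_card_iff_ne_bot M).2 hM)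
  have hIH : ∀ (M : Subgroup X) [M.Normal], M ≠ ⊥ → Group.IsSolvable M →
      ∀ L : Subgroup (X ⧸ M), L.Normal → Odd (Nat.card L) → L = ⊥ := fun M _ hM hMs =>
    ih _ (hlt M hM) (X ⧸ M) rfl (h.quotient M) (hS.mono (Nat.succ_le_succ (hlt M hM).le))
      (not_solvable_quotient hns M hMs)
  have hno2 : ∀ D : Subgroup X, D.Normal → IsPGroup 2 D → D = ⊥ := by
    intro D hD hD2
    by_contra hDne
    haveI := hD
    haveI := hD2.isNilpotent
    have := hIH D hDne inferInstance (V.map (QuotientGroup.mk' D)) (hVn.map _ (QuotientGroup.mk'_surjective D))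
      (hVodd.of_dvd_nat (Subgroup.card_map_dvd V _))
    rw [Subgroup.map_eq_bot_iff, QuotientGroup.ker_mk'] at this
    obtain ⟨k, hk⟩ := IsPGroup.iff_orderOf.1 hD2 ⟨w, this hw⟩
    rw [Subgroup.orderOf_mk] at hk
    exact hw1 (eq_one_of_odd hVodd hw (n := k) (hk ▸ pow_orderOf_eq_one w))
  -- the centralizer is solvable
  set C := centralizer (V : Set X)
  have hCs : Group.IsSolvable C := by
    by_contra hC
    have hCo := h.subgroup C
    haveI : Fact (Nat.Prime 5) := ⟨by norm_num⟩
    obtain ⟨⟨f, hf⟩, hf5⟩ := exists_prime_orderOf_dvd_card' 5 (hCo.five_dvd hC)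
    obtain ⟨⟨t, ht⟩, ht2⟩ := CompOrd.exists_involution hC
    rw [Subgroup.orderOf_mk] at hf5 ht2
    have hfw : Commute f w := (mem_centralizer_iff.1 hf w hw).symm
    have htw : Commute t w := (mem_centralizer_iff.1 ht w hw).symm
    rcases hp with rfl | rfl
    · have := h.coprime_commute hfw (by rw [hf5, hwp]; norm_num)
      rw [hf5, hwp] at this
      omega
    · have := h.coprime_commute htw (by rw [ht2, hwp]; norm_num)
      rw [ht2, hwp] at this
      omega
  -- the centralizer has odd order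
  have hC2 : ∀ b ∈ C, orderOf b ≠ 2 := by
    intro b hb hb2
    set π := QuotientGroup.mk' V with hπ
    have hbV : π b ≠ 1 := fun e => by
      have h1 := eq_one_of_odd hVodd ((QuotientGroup.eq_one_iff b).1 e) (n := 1)
        (by rw [pow_one, ← hb2, pow_orderOf_eq_one])
      rw [h1, orderOf_one] at hb2
      omega
    have hCn : (C.map π).Normal := (inferInstance : C.Normal).map _ (QuotientGroup.mk'_surjective V)
    have hCne : C.map π ≠ ⊥ := fun e => hbV (Subgroup.mem_bot.1 (e ▸ mem_map_of_mem π hb))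
    obtain ⟨D, hDn, hDC, hDne, hDmin⟩ := Cfsg.Lib.Group.MinFactor.exists_minimal_normal hCn hCne
    haveI := hCs
    have hDs : Group.IsSolvable D :=
      isSolvable_of_le hDC (Group.isSolvable_of_surjective (π.subgroupMap_surjective C))
    obtain ⟨hDc, q, hqp, hDq, hDpg⟩ := Core.minimal_solvable_elementary (M := D) ⟨hDn, hDne, fun K hK hKD => by
      by_cases hb : K = ⊥
      exacts [Or.inl hb, Or.inr (hDmin K hK hKD hb)]⟩ hDs
    haveI := Fact.mk hqp
    have hq2 : q = 2 := by
      by_contra hq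
      refine hDne (hIH V hVne hVs D hDn ?_)
      obtain ⟨j, hj⟩ := hDpg.exists_card_eq
      rw [hj]
      exact (hqp.odd_of_ne_two hq).pow
    subst hq2
    set E := D.comap π
    have hEC : E ≤ C := fun x hx => by
      obtain ⟨y, hy, hxy⟩ := hDC (show π x ∈ D from hx)
      have hm : y⁻¹ * x ∈ V := (QuotientGroup.eq_one_iff (N := V) _).1 (by
        show π (y⁻¹ * x) = 1
        rw [map_mul, map_inv, hxy, inv_mul_cancel])
      have := mul_mem hy ((show V ≤ C from fun v hv => mem_centralizer_iff.2 fun u hu => hVc' u hu v hv) hm)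
      rwa [mul_inv_cancel_left] at this
    have hsqV : ∀ x ∈ E, x * x ∈ V := fun x hx => (QuotientGroup.eq_one_iff (N := V) _).1 (by
      show π (x * x) = 1
      rw [map_mul, ← pow_two]; exact hDq _ hx)
    let D' : Subgroup X :=
      { carrier := {x | x ∈ E ∧ x * x = 1}
        one_mem' := ⟨one_mem E, one_mul 1⟩
        mul_mem' := fun {x y} hx hy => ⟨mul_mem hx.1 hy.1, by
          set v := x * y * (x * y) with hv
          have hvV : v ∈ V := hsqV _ (mul_mem hx.1 hy.1)
          have hxv : v * x = x * v := mem_centralizer_iff.1 (hEC hx.1) v hvV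
          have hxi : x⁻¹ = x := inv_eq_of_mul_eq_one_left hx.2
          have hyi : y⁻¹ = y := inv_eq_of_mul_eq_one_left hy.2
          have h1 : v⁻¹ = v := by
            calc v⁻¹ = y⁻¹ * x⁻¹ * (y⁻¹ * x⁻¹) := by rw [hv]; group
              _ = x * x * (y * x * (y * x)) := by rw [hxi, hyi, hx.2, one_mul]
              _ = x * v * x := by rw [hv]; group
              _ = v * x * x := by rw [hxv]
              _ = v := by rw [mul_assoc, hx.2, mul_one]
          refine eq_one_of_odd hVodd hvV (n := 1) ?_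
          rw [pow_one, pow_two]
          nth_rewrite 1 [← h1]
          exact inv_mul_cancel v⟩
        inv_mem' := fun {x} hx => ⟨inv_mem hx.1, by rw [← mul_inv_rev, hx.2, inv_one]⟩ }
    have hD'n : D'.Normal := ⟨fun x hx g => ⟨(inferInstance : E.Normal).conj_mem x hx.1 g, by
      rw [show g * x * g⁻¹ * (g * x * g⁻¹) = g * (x * x) * g⁻¹ by group, hx.2]; group⟩⟩
    have hD'2 : IsPGroup 2 D' := fun x => ⟨1, Subtype.ext (by
      show (x : X) ^ (2 ^ 1) = 1
      rw [pow_one, pow_two]; exact x.2.2)⟩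
    have hbot := hno2 D' hD'n hD'2
    obtain ⟨⟨d, hd⟩, hd1⟩ := Subgroup.ne_bot_iff_exists_ne_one.1 hDne
    obtain ⟨x, rfl⟩ := QuotientGroup.mk'_surjective V d
    have hxE : x ∈ E := hd
    have hxp : x ^ p ∈ D' := ⟨pow_mem hxE p, by
      rw [← (Commute.refl x).mul_pow]; exact hVp _ (hsqV x hxE)⟩
    rw [hbot, Subgroup.mem_bot] at hxp
    refine hd1 (Subtype.ext ((QuotientGroup.eq_one_iff x).2 ?_))
    obtain ⟨j, hj⟩ : Odd p := hpp.odd_of_ne_two (by omega)
    have : x = (x * x) ^ (j + 1) := by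
      rw [← pow_two, ← pow_mul, show 2 * (j + 1) = p + 1 by omega, pow_succ, hxp, one_mul]
    rw [this]
    exact pow_mem (hsqV x hxE) _
  -- a centralizing involution
  obtain ⟨R, hRn, hRs, hR⟩ := Kazarin.exists_radical X
  haveI := hRn
  have hQns := not_solvable_quotient hns R hRs
  have hcard : Nat.card (X ⧸ R) ≤ n := hX ▸ Nat.card_le_card_of_surjective _ (QuotientGroup.mk'_surjective R)
  have hQ := almost_simple (h.quotient R) (hS.mono (Nat.succ_le_succ hcard)) hQns (quotient_radical hRs hR)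
  obtain ⟨b, hb, hb2⟩ : ∃ b ∈ centralizer (V : Set X), orderOf b = 2 := by
    by_cases h2 : 2 ∣ Nat.card R
    · exact exists_two_centralizing h hp hVc' hVp hVodd ((h.quotient R).five_dvd hQns) h2
    · exact exists_four_centralizing h hp hVc' hVp hVodd hQ.hasFourThree h2
  exact hC2 b hb hb2

/-- Non-solvable groups with element orders at most six have no normal subgroup of odd order. -/
theorem OrdSix.odd_normal_eq_bot (h : OrdSix X) (hS : Small.{u} (Nat.card X + 1)) (hns : ¬ Group.IsSolvable X)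
    {N : Subgroup X} (hN : N.Normal) (hodd : Odd (Nat.card N)) : N = ⊥ :=
  odd_normal_eq_bot_aux _ X rfl h hS hns N hN hodd

end Cfsg.Lib.Recog.OrderSix
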