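import Cfsg.Agent.Lib.Recog.OrderSix.Modules
import Cfsg.Agent.Lib.Recog.OrderSix.OddCore
import Cfsg.Agent.Lib.CIT.Consumers.EppoList
import Cfsg.Agent.Lib.Coprime.Action
import Cfsg.Agent.Lib.PGroup.Basic
import Cfsg.Agent.Lib.StrongEmb.Cover

/-!
# Element orders at most six: no solvable group is transitive on the involutions of a large normal subgroup

The number `2^k - 1` of these involutions would make 15 a divisor of the order, and the second step of the
upper 2-series is then impossible.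
-/

set_option autoImplicit false
set_option linter.unusedSectionVars false
set_option linter.style.haveILetI false

namespace Cfsg.Lib.Recog.OrderSix

open Subgroup Cfsg.Lib
open Cfsg.Lib.StrongEmb.Cover (El)
open scoped commutatorElement

universe u

theorem not_twentyfive_dvd {k : ℕ} (h : 25 ∣ 2 ^ k - 1) : 31 ∣ 2 ^ k - 1 := by
  have h1 : 2 ^ k % 25 = 1 := by
    have := Nat.one_le_two_pow (n := k)
    omega
  have hk : k % 20 = 0 := by
    rw [← Nat.div_add_mod k 20, pow_add, pow_mul, Nat.mul_mod, Nat.pow_mod,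
      show 2 ^ 20 % 25 = 1 by norm_num, one_pow, Nat.one_mod, one_mul, Nat.mod_mod] at h1
    have := Nat.mod_lt k (show 20 > 0 by norm_num)
    interval_cases hj : k % 20 <;> simp_all
  obtain ⟨j, rfl⟩ := Nat.dvd_of_mod_eq_zero hk
  have := Nat.sub_dvd_pow_sub_pow (2 ^ 20) 1 j
  rw [one_pow, ← pow_mul] at this
  exact (show 31 ∣ 2 ^ 20 - 1 by norm_num).trans this

theorem five_dvd_imp {k : ℕ} (h : 5 ∣ 2 ^ k - 1) : 3 ∣ 2 ^ k - 1 := by
  have h1 : 2 ^ k % 5 = 1 := by
    have := Nat.one_le_two_pow (n := k)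
    omega
  have hk : k % 4 = 0 := by
    rw [← Nat.div_add_mod k 4, pow_add, pow_mul, Nat.mul_mod, Nat.pow_mod,
      show 2 ^ 4 % 5 = 1 by norm_num, one_pow, Nat.one_mod, one_mul, Nat.mod_mod] at h1
    have := Nat.mod_lt k (show 4 > 0 by norm_num)
    interval_cases hj : k % 4 <;> simp_all
  obtain ⟨j, rfl⟩ := Nat.dvd_of_mod_eq_zero hk
  have := Nat.sub_dvd_pow_sub_pow (2 ^ 4) 1 j
  rw [one_pow, ← pow_mul] at this
  exact (show 3 ∣ 2 ^ 4 - 1 by norm_num).trans this

variable {Q : Type u} [Group Q] [Finite Q]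

/-- The 2-core is everything of a 2-group image. -/
theorem eq_bot_of_two_group {R : Subgroup Q} [R.Normal] (hRp : IsPGroup 2 R)
    (hR : ∀ K : Subgroup Q, K.Normal → IsPGroup 2 K → K ≤ R) {N : Subgroup (Q ⧸ R)} (hN : N.Normal)
    (hN2 : IsPGroup 2 N) : N = ⊥ := by
  have hle := hR (N.comap (QuotientGroup.mk' R)) (hN.comap _)
    (hN2.comap_of_ker_isPGroup _ ((QuotientGroup.ker_mk' R).symm ▸ hRp))
  rw [eq_bot_iff]
  intro x hx
  obtain ⟨x, rfl⟩ := QuotientGroup.mk'_surjective R x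
  exact Subgroup.mem_bot.2 ((QuotientGroup.eq_one_iff x).2 (hle hx))

/-- A 3-section below the top of the upper 2-series excludes elements of order five. -/
theorem no_three_section (h : OrdSix Q) [Group.IsSolvable Q] (hO : Cfsg.pPrimeCore 2 Q = ⊥) (h5 : 5 ∣ Nat.card Q)
    {N : Subgroup (Q ⧸ Cfsg.pCore 2 Q)} (hN : N.Normal) (hNne : N ≠ ⊥) (hNc : IsMulCommutative N)
    (hN3 : ∀ x ∈ N, x ^ 3 = 1) : False := by
  classical
  haveI : Fact (Nat.Prime 2) := ⟨Nat.prime_two⟩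
  haveI : Fact (Nat.Prime 3) := ⟨Nat.prime_three⟩
  haveI : Fact (Nat.Prime 5) := ⟨by norm_num⟩
  set R := Cfsg.pCore 2 Q with hRdef
  have hRp : IsPGroup 2 R := Core.pCore_isPGroup 2 Q
  haveI := hN
  set π := QuotientGroup.mk' R with hπ
  set Y := N.comap π with hY
  haveI : Y.Normal := hN.comap π
  obtain ⟨P⟩ : Nonempty (Sylow 3 Y) := inferInstance
  set T := (P : Subgroup Y).map Y.subtype with hT
  have hTp : IsPGroup 3 T := P.2.map Y.subtype
  have hTN : ∀ t ∈ T, π t ∈ N := by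
    rintro _ ⟨t, -, rfl⟩
    exact t.2
  have hTR : ∀ t ∈ T, π t = 1 → t = 1 := by
    intro t ht he
    obtain ⟨i, hi⟩ := IsPGroup.iff_orderOf.1 hTp ⟨t, ht⟩
    obtain ⟨j, hj⟩ := IsPGroup.iff_orderOf.1 hRp ⟨t, (QuotientGroup.eq_one_iff t).1 he⟩
    rw [Subgroup.orderOf_mk] at hi hj
    rcases i with _ | i
    · exact orderOf_eq_one_iff.1 (hi.trans (pow_zero 3))
    · have h3 : 3 ∣ 2 ^ j := by rw [← hj, hi]; exact dvd_pow_self 3 (Nat.succ_ne_zero i)
      exact absurd (Nat.le_of_dvd two_pos (Nat.prime_three.dvd_of_dvd_pow h3)) (by norm_num)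
  have hT3 : ∀ t ∈ T, t ^ 3 = 1 := fun t ht => hTR _ (pow_mem ht 3) (by rw [map_pow]; exact hN3 _ (hTN t ht))
  have hTc : ∀ s ∈ T, ∀ t ∈ T, s * t = t * s := fun s hs t ht => by
    refine (inv_mul_eq_one.1 (hTR _ (mul_mem (inv_mem (mul_mem hs ht)) (mul_mem ht hs)) ?_))
    rw [map_mul, map_inv, map_mul, map_mul,
      congrArg Subtype.val (hNc.is_comm.comm ⟨π s, hTN s hs⟩ ⟨π t, hTN t ht⟩ :
        (⟨π s, hTN s hs⟩ : N) * ⟨π t, hTN t ht⟩ = ⟨π t, hTN t ht⟩ * ⟨π s, hTN s hs⟩) |> fun e =>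
        (show π s * π t = π t * π s from e), inv_mul_cancel]
  -- an element of order five normalizing `T`
  obtain ⟨x, hx⟩ := exists_prime_orderOf_dvd_card' 5 h5
  obtain ⟨f, hf, r, hr, hfr⟩ := (mem_sup_of_normal_right (s := normalizer (T : Set Q)) (t := Y)).1
    ((Sylow.normalizer_sup_eq_top P).symm ▸ mem_top x)
  have hne : ∀ t ∈ T, t ≠ 1 → orderOf t = 3 := fun t ht h1 => orderOf_eq_prime (hT3 t ht) h1
  have hY5 : ∀ y ∈ Y, ∀ k, k ∣ orderOf y → k ≠ 5 := by
    intro y hy k hk h5'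
    subst h5'
    have h1 : π (y ^ 3) = 1 := by rw [map_pow]; exact hN3 _ hy
    obtain ⟨j, hj⟩ := IsPGroup.iff_orderOf.1 hRp ⟨_, (QuotientGroup.eq_one_iff _).1 h1⟩
    rw [Subgroup.orderOf_mk] at hj
    have h2 : orderOf y ∣ 3 * 2 ^ j := orderOf_dvd_of_pow_eq_one (by
      rw [pow_mul, ← hj, pow_orderOf_eq_one])
    rcases (Nat.Prime.dvd_mul (by norm_num)).1 (hk.trans h2) with h | h
    · norm_num at h
    · exact absurd (Nat.le_of_dvd two_pos ((by norm_num : Nat.Prime 5).dvd_of_dvd_pow h)) (by norm_num)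
  have hf5 : orderOf f = 5 := by
    have h5f : 5 ∣ orderOf f := by
      by_contra hnd
      have hpow : x ^ orderOf f ∈ Y := by
        rw [← QuotientGroup.eq_one_iff, QuotientGroup.mk_pow, ← hfr, QuotientGroup.mk_mul,
          (QuotientGroup.eq_one_iff r).2 hr, mul_one, ← QuotientGroup.mk_pow, pow_orderOf_eq_one]
        rfl
      refine hY5 _ hpow 5 ?_ rfl
      have hco : (orderOf x).Coprime (orderOf f) := by
        rw [hx]; exact (Nat.Prime.coprime_iff_not_dvd (by norm_num)).2 hnd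
      rw [hco.orderOf_pow, hx]
    obtain ⟨k, hk⟩ := h5f
    have := h f
    have := orderOf_pos f
    omega
  -- the Frattini quotient of the 2-core
  set Φ := (frattini R).map R.subtype with hΦ
  haveI : Φ.Normal := inferInstance
  set ρ := QuotientGroup.mk' Φ with hρ
  have hΦR : Φ ≤ R := map_subtype_le _
  have hρne : ∀ g : Q, Odd (orderOf g) → ρ g = 1 → g = 1 := by
    intro g hg he
    obtain ⟨j, hj⟩ := IsPGroup.iff_orderOf.1 hRp ⟨g, hΦR ((QuotientGroup.eq_one_iff g).1 he)⟩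
    rw [Subgroup.orderOf_mk] at hj
    rcases j with _ | j
    · exact orderOf_eq_one_iff.1 (hj.trans (pow_zero 2))
    · rw [hj, pow_succ] at hg
      exact absurd hg (Nat.not_odd_iff_even.2 (even_two.mul_left _))
  have hel := PGroup.isElementaryAbelian_quotient_frattini hRp
  have hsqΦ : ∀ a ∈ R, a * a ∈ Φ := fun a ha => by
    have := (hel.2 (QuotientGroup.mk' (frattini R) ⟨a, ha⟩) (mem_top _))
    rw [← map_pow] at this
    exact ⟨_, (QuotientGroup.eq_one_iff _).1 this, by simp [pow_two]⟩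
  have hcommΦ : ∀ a ∈ R, ∀ b ∈ R, ρ a * ρ b = ρ b * ρ a := by
    intro a ha b hb
    rw [← map_mul, ← map_mul]
    refine (QuotientGroup.eq (s := Φ)).2 ?_
    refine ⟨(⟨a, ha⟩ * ⟨b, hb⟩)⁻¹ * (⟨b, hb⟩ * ⟨a, ha⟩ : R), ?_, rfl⟩
    refine QuotientGroup.eq.1 ?_
    exact congrArg Subtype.val (hel.1.is_comm.comm ⟨QuotientGroup.mk (⟨a, ha⟩ : R), mem_top _⟩
      ⟨QuotientGroup.mk (⟨b, hb⟩ : R), mem_top _⟩)
  set V := R.map ρ with hV
  set B := T.map ρ with hB
  have hQ := h.quotient Φ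
  haveI : V.Normal := (inferInstance : R.Normal).map ρ (QuotientGroup.mk'_surjective Φ)
  have hnmV : ∀ g : Q ⧸ Φ, g ∈ normalizer (V : Set (Q ⧸ Φ)) := fun g => by
    rw [normalizer_eq_top]; exact mem_top g
  have hA : Acts V B := by
    refine ⟨?_, ?_, fun b _ => hnmV b, ?_⟩
    · rintro _ ⟨a, ha, rfl⟩ _ ⟨b, hb, rfl⟩
      exact hcommΦ a ha b hb
    · rintro _ ⟨a, ha, rfl⟩ _ ⟨b, hb, rfl⟩
      rw [← map_mul, ← map_mul, hTc a ha b hb]
    · obtain ⟨i, hi⟩ := (hTp.map ρ).exists_card_eq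
      obtain ⟨j, hj⟩ := (hRp.map ρ).exists_card_eq
      rw [hB, hV, hi, hj]
      exact Nat.Coprime.pow _ _ (by norm_num)
  have hfρ : orderOf (ρ f) = 5 := by
    refine orderOf_eq_prime (by rw [← map_pow, ← hf5, pow_orderOf_eq_one, map_one]) fun e => ?_
    have := hρne f (by rw [hf5]; decide) e
    rw [this, orderOf_one] at hf5
    omega
  have hfB : ρ f ∈ normalizer (B : Set (Q ⧸ Φ)) := (le_normalizer_map (H := T) ρ) (mem_map_of_mem ρ hf)
  have hle := hA.le_centralizer_of_prime (q := 3) (r := 5) Nat.prime_three (by norm_num)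
    (by rintro _ ⟨t, ht, rfl⟩; rw [← map_pow, hT3 t ht, map_one]) (by norm_num) (f := ρ f)
    (hfρ ▸ pow_orderOf_eq_one (ρ f)) (hnmV _) hfB
    (by
      rintro _ ⟨t, ht, rfl⟩ hfix
      by_contra h1
      have h5b := hQ.not_commute_five hfρ h1 (mul_inv_eq_iff_eq_mul.1 hfix)
      have h3b : orderOf (ρ t) ∣ 3 := orderOf_dvd_of_pow_eq_one (by rw [← map_pow, hT3 t ht, map_one])
      have := Nat.le_of_dvd (by norm_num) (h5b.trans h3b)
      omega)
    (fun v hv => hQ.nm_eq_one Nat.prime_two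
      (by rintro _ ⟨a, ha, rfl⟩; rw [← map_pow, pow_two]; exact (QuotientGroup.eq_one_iff _).2 (hsqΦ a ha))
      (hnmV _) hv hfρ (Or.inl ⟨by norm_num, by norm_num, by norm_num⟩))
  have hTcent : T ≤ centralizer (R : Set Q) := by
    refine Coprime.le_centralizer_of_commutator_le_frattini (fun t _ => ?_) ?_
      (Or.inr (haveI := hRp.isNilpotent; inferInstance)) (commutator_le.2 fun a ha t ht => ?_)
    · rw [normalizer_eq_top]; exact mem_top t
    · obtain ⟨i, hi⟩ := hTp.exists_card_eq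
      obtain ⟨j, hj⟩ := hRp.exists_card_eq
      rw [hi, hj]
      exact Nat.Coprime.pow _ _ (by norm_num)
    · refine (QuotientGroup.eq_one_iff (N := Φ) _).1 ?_
      show ρ ⁅a, t⁆ = 1
      rw [map_commutatorElement, commutatorElement_eq_one_iff_mul_comm]
      exact ((mem_centralizer_iff.1 (hle (mem_map_of_mem ρ ha))) (ρ t) (mem_map_of_mem ρ ht)).symm
  have hTle := hTcent.trans (Core.centralizer_pCore_le_of_isPSolvable Core.isPSolvable_of_isSolvable hO)
  obtain ⟨⟨n, hn⟩, hn1⟩ := Subgroup.ne_bot_iff_exists_ne_one.1 hNne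
  obtain ⟨y, rfl⟩ := QuotientGroup.mk'_surjective R n
  -- the Sylow subgroup covers `N`
  have h3 : 3 ∣ Nat.card Y := by
    have hy1 : π y ≠ 1 := fun e => hn1 (Subtype.ext e)
    have hd : 3 ∣ orderOf y := orderOf_eq_prime (hN3 _ hn) hy1 ▸ orderOf_map_dvd π y
    exact hd.trans (Y.orderOf_dvd_natCard hn)
  refine P.ne_bot_of_dvd_card h3 ((map_eq_bot_iff_of_injective _ Y.subtype_injective).1 ?_)
  rw [eq_bot_iff]
  exact fun t ht => Subgroup.mem_bot.2 (hTR t ht ((QuotientGroup.eq_one_iff t).2 (hTle ht)))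

/-- No solvable group is transitive on at least seven central involutions of its 2-core. -/
theorem no_transitive (h : OrdSix Q) [Group.IsSolvable Q] (hO : Cfsg.pPrimeCore 2 Q = ⊥) {Z : Subgroup Q}
    [Z.Normal] (hZ : El Z) (h8 : 8 ≤ Nat.card Z)
    (htrans : ∀ a ∈ Z, ∀ b ∈ Z, a ≠ 1 → b ≠ 1 → IsConj a b) : False := by
  classical
  haveI : Fact (Nat.Prime 2) := ⟨Nat.prime_two⟩
  haveI : Fact (Nat.Prime 3) := ⟨Nat.prime_three⟩
  haveI : Fact (Nat.Prime 5) := ⟨by norm_num⟩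
  have hZp : IsPGroup 2 Z := fun x => ⟨1, Subtype.ext (by
    show (x : Q) ^ (2 ^ 1) = 1
    rw [pow_one, pow_two]; exact hZ _ x.2)⟩
  obtain ⟨k, hk⟩ := hZp.exists_card_eq
  obtain ⟨z, hz, hz1⟩ : ∃ z ∈ Z, z ≠ 1 := by
    obtain ⟨⟨z, hz⟩, h1⟩ := Subgroup.ne_bot_iff_exists_ne_one.1 (fun e : Z = ⊥ => by
      rw [e, Subgroup.card_bot] at h8; omega)
    exact ⟨z, hz, fun e => h1 (Subtype.ext e)⟩
  have horb : MulAction.orbit (ConjAct Q) z = (Z : Set Q) \ {1} := by
    ext x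
    rw [ConjAct.mem_orbit_conjAct]
    constructor
    · intro hc
      obtain ⟨n, hn⟩ := isConj_iff.1 hc.symm
      rw [← hn]
      exact ⟨(inferInstance : Z.Normal).conj_mem z hz n, fun e => hz1 (conj_eq_one_iff.1 e)⟩
    · rintro ⟨hx, hx1⟩
      exact (htrans z hz x hx hz1 hx1).symm
  have hidx := MulAction.index_stabilizer (ConjAct Q) z
  rw [horb, Set.ncard_sdiff_singleton_of_mem (one_mem Z), ← Nat.card_coe_set_eq,
    show Nat.card (Z : Set Q) = 2 ^ k from hk] at hidx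
  set S := MulAction.stabilizer (ConjAct Q) z with hSdef
  haveI : Finite (ConjAct Q) := Finite.of_equiv Q ConjAct.toConjAct.toEquiv
  have hQc : Nat.card (ConjAct Q) = Nat.card Q := Nat.card_congr ConjAct.ofConjAct.toEquiv
  have hd : 2 ^ k - 1 ∣ Nat.card Q := hQc ▸ hidx ▸ Dvd.intro_left _ S.card_mul_index
  have hk3 : 3 ≤ k := by
    by_contra hk3
    have := Nat.pow_le_pow_right two_pos (show k ≤ 2 by omega)
    omega
  have h5S : ¬ 5 ∣ Nat.card S := fun hd5 => by
    obtain ⟨⟨f, hf⟩, hf5⟩ := exists_prime_orderOf_dvd_card' 5 hd5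
    rw [Subgroup.orderOf_mk] at hf5
    have hc : ConjAct.ofConjAct f * z * (ConjAct.ofConjAct f)⁻¹ = z := hf
    have hf5' : orderOf (ConjAct.ofConjAct f) = 5 := by rw [← hf5]; exact MulEquiv.orderOf_eq ConjAct.ofConjAct f
    have h5z := h.not_commute_five hf5' hz1 (mul_inv_eq_iff_eq_mul.1 hc)
    have h2z : orderOf z ∣ 2 := orderOf_dvd_of_pow_eq_one (by rw [pow_two]; exact hZ z hz)
    have := Nat.le_of_dvd two_pos (h5z.trans h2z)
    omega
  have h5 : 5 ∣ 2 ^ k - 1 := by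
    by_contra hn5
    have hm0 : 2 ^ k - 1 ≠ 0 := by omega
    have heq : 2 ^ k - 1 = 3 ^ (2 ^ k - 1).primeFactorsList.length :=
      Nat.eq_prime_pow_of_unique_prime_dvd hm0 fun {d} hd' hdm => by
        rcases h.prime_cases hd' (hdm.trans hd) with rfl | rfl | rfl
        · obtain ⟨i, rfl⟩ : ∃ i, k = i + 1 := ⟨k - 1, by omega⟩
          rw [pow_succ] at hdm hm0
          omega
        · rfl
        · exact absurd hdm hn5
    have := CIT.two_pow_sub_one_eq (n := k) (a := (2 ^ k - 1).primeFactorsList.length) (by omega)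
    omega
  have h3 : 3 ∣ Nat.card Q := (five_dvd_imp h5).trans hd
  have h25 : ¬ 25 ∣ Nat.card Q := fun h25 => by
    rw [← hQc, ← S.card_mul_index, hidx] at h25
    have h31 := not_twentyfive_dvd ((Nat.Coprime.dvd_mul_left (by
      rw [show 25 = 5 ^ 2 from rfl]
      exact Nat.Coprime.pow_left _ ((Nat.Prime.coprime_iff_not_dvd (by norm_num)).2 h5S))).1 h25)
    have := h.prime_cases (p := 31) (by norm_num) (h31.trans hd)
    omega
  set R := Cfsg.pCore 2 Q
  have hRp : IsPGroup 2 R := Core.pCore_isPGroup 2 Q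
  have hnt : Nontrivial (Q ⧸ R) := by
    rw [← not_subsingleton_iff_nontrivial]
    intro hs
    have htop : R = ⊤ := QuotientGroup.subgroup_eq_top_of_subsingleton R hs
    obtain ⟨x, hx⟩ := exists_prime_orderOf_dvd_card' 5 (h5.trans hd)
    obtain ⟨j, hj⟩ := IsPGroup.iff_orderOf.1 hRp ⟨x, htop ▸ mem_top x⟩
    rw [Subgroup.orderOf_mk, hx] at hj
    have h52 : (5 : ℕ) ∣ 2 := (by norm_num : Nat.Prime 5).dvd_of_dvd_pow (dvd_of_eq hj)
    norm_num at h52
  obtain ⟨N, hN⟩ := Core.exists_isMinNormal_univ (G := Q ⧸ R)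
  haveI := hN.1
  obtain ⟨hNc, q, hqp, hNq, hNpg⟩ := Core.minimal_solvable_elementary hN inferInstance
  haveI := Fact.mk hqp
  obtain ⟨⟨x, hx⟩, hx1⟩ := Subgroup.ne_bot_iff_exists_ne_one.1 hN.2.1
  have hxq : orderOf x = q := orderOf_eq_prime (hNq x hx) fun e => hx1 (Subtype.ext e)
  rcases (h.quotient R).prime_cases hqp (hxq ▸ orderOf_dvd_natCard x) with rfl | rfl | rfl
  · exact hN.2.1 (eq_bot_of_two_group hRp (fun K hK hK2 => haveI := hK; Core.le_pCore hK2) hN.1 hNpg)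
  · exact no_three_section h hO (h5.trans hd) hN.1 hN.2.1 hNc hNq
  · obtain ⟨j, hj⟩ := hNpg.exists_card_eq
    have hjd : 5 ^ j ∣ Nat.card Q := hj ▸ (Subgroup.card_subgroup_dvd_card N).trans (Subgroup.card_quotient_dvd_card R)
    have hj1 : j = 1 := by
      rcases j with _ | _ | j
      · exact absurd (Subgroup.card_eq_one.1 (hj.trans (pow_zero 5))) hN.2.1
      · rfl
      · exact absurd ((Nat.pow_dvd_pow 5 (show 2 ≤ j + 2 by omega)).trans hjd) h25
    obtain ⟨y, hy⟩ := exists_prime_orderOf_dvd_card' 3 h3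
    set w := QuotientGroup.mk' R y
    have hw : orderOf w = 3 := by
      refine orderOf_eq_prime (by rw [← map_pow, ← hy, pow_orderOf_eq_one, map_one]) fun e => ?_
      obtain ⟨i, hi⟩ := IsPGroup.iff_orderOf.1 hRp ⟨y, (QuotientGroup.eq_one_iff y).1 e⟩
      rw [Subgroup.orderOf_mk, hy] at hi
      have h32 : (3 : ℕ) ∣ 2 := Nat.prime_three.dvd_of_dvd_pow (dvd_of_eq hi)
      norm_num at h32
    have hNz : N = zpowers x :=
      (eq_of_le_of_card_ge (zpowers_le.2 hx) (by rw [Nat.card_zpowers, hxq, hj, hj1, pow_one])).symm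
    obtain ⟨i, hi⟩ : ∃ i : ℕ, x ^ i = w * x * w⁻¹ := by
      have := hN.1.conj_mem x hx w
      rw [hNz, ← mem_powers_iff_mem_zpowers] at this
      exact this
    have hiter : ∀ m : ℕ, w ^ m * x * (w ^ m)⁻¹ = x ^ (i ^ m) := by
      intro m
      induction m with
      | zero => simp
      | succ m ih =>
        calc w ^ (m + 1) * x * (w ^ (m + 1))⁻¹ = w * (w ^ m * x * (w ^ m)⁻¹) * w⁻¹ := by rw [pow_succ']; group
          _ = x ^ i ^ (m + 1) := by rw [ih, ← conj_pow, ← hi, ← pow_mul, pow_succ']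
    have h3i := hiter 3
    rw [← hw, pow_orderOf_eq_one, one_mul, inv_one, mul_one] at h3i
    nth_rewrite 1 [← pow_one x] at h3i
    rw [pow_eq_pow_iff_modEq, hxq, hw] at h3i
    have hi5 : i % 5 = 1 := by
      have h1 : i ^ 3 % 5 = 1 := h3i.symm.trans rfl
      rw [Nat.pow_mod] at h1
      have := Nat.mod_lt i (show 5 > 0 by norm_num)
      interval_cases hm : i % 5 <;> simp_all
    have hwx : Commute w x := by
      show w * x = x * w
      have : w * x * w⁻¹ = x := by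
        rw [← hi]
        nth_rewrite 2 [← pow_one x]
        rw [pow_eq_pow_iff_modEq, hxq]
        exact hi5
      exact mul_inv_eq_iff_eq_mul.1 this
    have := (h.quotient R).coprime_commute hwx (by rw [hw, hxq]; norm_num)
    rw [hw, hxq] at this
    omega

end Cfsg.Lib.Recog.OrderSix
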