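import Cfsg.Agent.Lib.Recog.OrderSix.Lifting
import Cfsg.Agent.Lib.Recog.OrderSix.SolvTransitive

/-!
# Element orders at most six: a solvable group with elements of orders three, four and five

It has a nontrivial normal 5-subgroup.
-/

set_option autoImplicit false
set_option linter.unusedSectionVars false
set_option linter.style.haveILetI false

namespace Cfsg.Lib.Recog.OrderSix

open Subgroup Cfsg.Lib

universe u

variable {X : Type u} [Group X] [Finite X]

theorem conj_iterate {g x : X} {m : ℕ} (hg : g * x * g⁻¹ = x ^ m) :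
    ∀ j : ℕ, g ^ j * x * (g ^ j)⁻¹ = x ^ (m ^ j) := by
  intro j
  induction j with
  | zero => simp
  | succ j ih =>
    calc g ^ (j + 1) * x * (g ^ (j + 1))⁻¹ = g * (g ^ j * x * (g ^ j)⁻¹) * g⁻¹ := by rw [pow_succ']; group
      _ = x ^ m ^ (j + 1) := by rw [ih, ← conj_pow, hg, ← pow_mul, pow_succ']

theorem exists_conj_exponent {W : Subgroup X} {x g : X} (hW : W = zpowers x) (hx : orderOf x = 5)
    (hg : g * x * g⁻¹ ∈ W) : ∃ m : ℕ, m < 5 ∧ g * x * g⁻¹ = x ^ m := by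
  rw [hW, ← mem_powers_iff_mem_zpowers] at hg
  obtain ⟨i, hi⟩ := hg
  exact ⟨i % 5, Nat.mod_lt _ (by norm_num), by rw [← hi]; exact (hx ▸ pow_mod_orderOf x i).symm⟩

theorem modEq_of_pow_eq {x : X} (hx : orderOf x = 5) {a b : ℕ} (h : x ^ a = x ^ b) : a % 5 = b % 5 := by
  rw [pow_eq_pow_iff_modEq, hx] at h
  exact h

/-- A lift of an element of order five modulo a section has order five. -/
theorem OrdSix.orderOf_lift_five (h : OrdSix X) {R : Subgroup X} [R.Normal] {K : Subgroup (X ⧸ R)} [K.Normal]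
    {x n : X} (hx : orderOf x = 5) (hK : QuotientGroup.mk' R x ∉ K) {k : X ⧸ R} (hk : k ∈ K)
    (hn : QuotientGroup.mk' R n = k * QuotientGroup.mk' R x) : orderOf n = 5 := by
  have h5 : 5 ∣ orderOf n := by
    by_contra hd
    set ρ := QuotientGroup.mk' K
    set a := ρ (QuotientGroup.mk' R x)
    have ha5 : a ^ 5 = 1 := by rw [← map_pow, ← map_pow, ← hx, pow_orderOf_eq_one, map_one, map_one]
    have han : a ^ orderOf n = 1 := by
      have h1 : ρ (QuotientGroup.mk' R n) = a := by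
        rw [hn, map_mul, show ρ k = 1 from (QuotientGroup.eq_one_iff k).2 hk, one_mul]
      rw [← h1, ← map_pow, ← map_pow, pow_orderOf_eq_one, map_one, map_one]
    have h1 := pow_gcd_eq_one.2 ⟨ha5, han⟩
    rw [(Nat.Prime.coprime_iff_not_dvd (by norm_num)).2 hd, pow_one] at h1
    exact hK ((QuotientGroup.eq_one_iff _).1 h1)
  obtain ⟨c, hc⟩ := h5
  have := h n
  have := orderOf_pos n
  omega

theorem commute_of_normal_of_disjoint {A B : Subgroup X} [A.Normal] [B.Normal]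
    (hd : ∀ x, x ∈ A → x ∈ B → x = 1) {a b : X} (ha : a ∈ A) (hb : b ∈ B) : a * b = b * a := by
  have h1 : a * b * a⁻¹ * b⁻¹ = 1 := by
    refine hd _ ?_ (mul_mem ((inferInstance : B.Normal).conj_mem b hb a) (inv_mem hb))
    rw [show a * b * a⁻¹ * b⁻¹ = a * (b * a⁻¹ * b⁻¹) by group]
    exact mul_mem ha ((inferInstance : A.Normal).conj_mem _ (inv_mem ha) b)
  exact mul_inv_eq_iff_eq_mul.1 (mul_inv_eq_one.1 h1)

theorem exists_orderOf_of_ne_bot {M : Subgroup X} {p : ℕ} [hp : Fact p.Prime] (hM : IsPGroup p M) (hne : M ≠ ⊥) :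
    ∃ m ∈ M, orderOf m = p := by
  obtain ⟨⟨m, hm⟩, hm1⟩ := Subgroup.ne_bot_iff_exists_ne_one.1 (omegaCenter_ne_bot hM hne)
  exact ⟨m, omegaCenter_le hm, orderOf_eq_prime hm.2.1 fun e => hm1 (Subtype.ext e)⟩

theorem pPrimeCore_eq_bot [Group.IsSolvable X] (h : OrdSix X) {p : ℕ} [Fact p.Prime]
    (hno : ∀ q, q.Prime → q ≠ p → q = 2 ∨ q = 3 ∨ q = 5 →
      ∀ D : Subgroup X, D.Normal → IsPGroup q D → D = ⊥) : Cfsg.pPrimeCore p X = ⊥ := by
  by_contra hne
  obtain ⟨D, hDn, hDle, hDne, hDmin⟩ :=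
    Cfsg.Lib.Group.MinFactor.exists_minimal_normal (inferInstance : (Cfsg.pPrimeCore p X).Normal) hne
  obtain ⟨-, q, hqp, hDq, hDpg⟩ := Core.minimal_solvable_elementary (M := D) ⟨hDn, hDne, fun K hK hKD => by
    by_cases hb : K = ⊥
    exacts [Or.inl hb, Or.inr (hDmin K hK hKD hb)]⟩ inferInstance
  haveI := Fact.mk hqp
  obtain ⟨d, hd, hdq⟩ := exists_orderOf_of_ne_bot hDpg hDne
  refine hDne (hno q hqp (fun e => ?_) (h.prime_cases hqp (hdq ▸ orderOf_dvd_natCard d)) D hDn hDpg)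
  have hdd := (Cfsg.pPrimeCore p X).orderOf_dvd_natCard (hDle hd)
  rw [hdq, e] at hdd
  exact Core.pPrimeCore_not_dvd p X hdd

/-- Above the 2- or 3-core there is a normal subgroup of order five. -/
theorem exists_five_section (h : OrdSix X) [Group.IsSolvable X] {r q : ℕ} (hrq : r = 2 ∧ q = 3 ∨ r = 3 ∧ q = 2)
    [Fact r.Prime] (hcore : Cfsg.pPrimeCore r X = ⊥) {f : X} (hf : orderOf f = 5) :
    ∃ x ∈ (⊤ : Subgroup (X ⧸ Cfsg.pCore r X)), orderOf x = 5 ∧ (zpowers x).Normal := by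
  classical
  have hrp : r.Prime := Fact.out
  have hqp : q.Prime := by rcases hrq with ⟨rfl, rfl⟩ | ⟨rfl, rfl⟩ <;> norm_num
  have hq5 : q ≠ 5 := by rcases hrq with ⟨rfl, rfl⟩ | ⟨rfl, rfl⟩ <;> norm_num
  haveI : Fact (Nat.Prime 5) := ⟨by norm_num⟩
  haveI := Fact.mk hqp
  set R := Cfsg.pCore r X with hRdef
  have hRp : IsPGroup r R := Core.pCore_isPGroup r X
  have hself := Core.centralizer_pCore_le_of_isPSolvable (p := r) Core.isPSolvable_of_isSolvable hcore
  have hfR : ∀ g : X, orderOf g = 5 → g ∉ R := fun g hg hgR => by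
    obtain ⟨j, hj⟩ := IsPGroup.iff_orderOf.1 hRp ⟨g, hgR⟩
    rw [Subgroup.orderOf_mk, hg] at hj
    have := (Nat.prime_dvd_prime_iff_eq (by norm_num : Nat.Prime 5) hrp).1
      ((by norm_num : Nat.Prime 5).dvd_of_dvd_pow (dvd_of_eq hj))
    rcases hrq with ⟨rfl, -⟩ | ⟨rfl, -⟩ <;> omega
  haveI : Nontrivial (X ⧸ R) := by
    rw [← not_subsingleton_iff_nontrivial]
    intro hs
    exact hfR f hf ((QuotientGroup.subgroup_eq_top_of_subsingleton R hs) ▸ mem_top f)
  have hRne : R ≠ ⊥ := fun hb => hfR f hf (hself (mem_centralizer_iff.2 fun r' hr' => by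
    rw [hRdef.symm, hb, SetLike.mem_coe, Subgroup.mem_bot] at hr'
    rw [hr', one_mul, mul_one]))
  obtain ⟨W, hW⟩ := Core.exists_isMinNormal_univ (G := X ⧸ R)
  haveI := hW.1
  obtain ⟨hWc, s, hsp, hWs, hWpg⟩ := Core.minimal_solvable_elementary hW inferInstance
  haveI := Fact.mk hsp
  obtain ⟨x, hx, hxs⟩ := exists_orderOf_of_ne_bot hWpg hW.2.1
  have hWc' : ∀ a ∈ W, ∀ b ∈ W, a * b = b * a := fun a ha b hb =>
    congrArg Subtype.val (hWc.is_comm.comm ⟨a, ha⟩ ⟨b, hb⟩)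
  have hsr : s ≠ r := fun e => by
    subst e
    refine hW.2.1 ?_
    have hle : W.comap (QuotientGroup.mk' R) ≤ R := by
      haveI : (W.comap (QuotientGroup.mk' R)).Normal := hW.1.comap _
      exact Core.le_pCore (hWpg.comap_of_ker_isPGroup _ ((QuotientGroup.ker_mk' R).symm ▸ hRp))
    rw [eq_bot_iff]
    intro y hy
    obtain ⟨y, rfl⟩ := QuotientGroup.mk'_surjective R y
    exact Subgroup.mem_bot.2 ((QuotientGroup.eq_one_iff y).2 (hle hy))
  have hsR : ¬ s ∣ Nat.card R := fun hd => by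
    obtain ⟨j, hj⟩ := hRp.exists_card_eq
    exact hsr ((Nat.prime_dvd_prime_iff_eq hsp hrp).1 (hsp.dvd_of_dvd_pow (hj ▸ hd)))
  obtain ⟨T, hTp, hTW, hTR, hTsurj, hTn⟩ := exists_section_lift hsR hWpg
  have hTc : ∀ a ∈ T, ∀ b ∈ T, a * b = b * a := fun a ha b hb => by
    refine inv_mul_eq_one.1 (hTR _ (mul_mem (inv_mem (mul_mem ha hb)) (mul_mem hb ha)) ?_)
    rw [map_mul, map_inv, map_mul, map_mul, hWc' _ (hTW a ha) _ (hTW b hb), inv_mul_cancel]
  have hTs : ∀ t ∈ T, t ^ s = 1 := fun t ht => hTR _ (pow_mem ht s) (by rw [map_pow]; exact hWs _ (hTW t ht))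
  by_cases hs5 : s = 5
  · subst hs5
    refine ⟨x, mem_top x, hxs, ?_⟩
    obtain ⟨j, hj⟩ := hTp.exists_card_eq
    have hj2 : j < 2 := by
      by_contra hj2
      obtain ⟨B, hB⟩ := Sylow.exists_subgroup_card_pow_prime (G := T) 5 (n := 2) (hj ▸ Nat.pow_dvd_pow 5 (by omega))
      exact h.five_rank (r := r) (hrq.imp And.left And.left) hRp hRne (B := B.map T.subtype)
        (by rw [card_map_of_injective T.subtype_injective, hB]; norm_num)
        (by rintro _ ⟨a, -, rfl⟩ _ ⟨b, -, rfl⟩; exact hTc _ a.2 _ b.2)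
        (by rintro _ ⟨a, -, rfl⟩; exact hTs _ a.2)
    have hle : Nat.card W ≤ Nat.card T := by
      refine Nat.card_le_card_of_surjective (fun t : T => (⟨_, hTW t t.2⟩ : W)) fun w => ?_
      obtain ⟨t, ht, htw⟩ := hTsurj w w.2
      exact ⟨⟨t, ht⟩, Subtype.ext htw⟩
    have hWeq : zpowers x = W := by
      refine eq_of_le_of_card_ge (zpowers_le.2 hx) ?_
      rw [Nat.card_zpowers, hxs]
      refine hle.trans ?_
      rw [hj]
      exact le_of_le_of_eq (Nat.pow_le_pow_right (by norm_num) (show j ≤ 1 by omega)) (pow_one 5)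
    rw [hWeq]
    infer_instance
  · exfalso
    have hsq : s = q := by
      rcases (h.quotient R).prime_cases hsp (hxs ▸ orderOf_dvd_natCard x) with rfl | rfl | rfl <;>
        rcases hrq with ⟨rfl, rfl⟩ | ⟨rfl, rfl⟩ <;> first | rfl | exact absurd rfl hsr | exact absurd rfl hs5
    subst hsq
    obtain ⟨n, hn, k, hk, hnk⟩ := hTn f (normal_normalizes W _)
    have hfW : QuotientGroup.mk' R f ∉ W := fun hfW => by
      obtain ⟨i, hi⟩ := IsPGroup.iff_orderOf.1 hWpg ⟨_, hfW⟩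
      rw [Subgroup.orderOf_mk] at hi
      have h5 : orderOf (QuotientGroup.mk' R f) ∣ 5 := hf ▸ orderOf_map_dvd _ f
      rcases i with _ | i
      · exact hfR f hf ((QuotientGroup.eq_one_iff f).1 (orderOf_eq_one_iff.1 (hi.trans (pow_zero s))))
      · rw [hi] at h5
        exact hs5 ((Nat.prime_dvd_prime_iff_eq hsp (by norm_num)).1 ((dvd_pow_self s (Nat.succ_ne_zero i)).trans h5))
    have hn5 := h.orderOf_lift_five hf hfW hk hnk
    have hle := (h.centralizes_of_five hrq hRp hTc hTs hn5 hn).trans hself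
    obtain ⟨t, ht, htx⟩ := hTsurj x hx
    have h1 : x = 1 := by rw [← htx]; exact (QuotientGroup.eq_one_iff t).2 (hle ht)
    rw [h1, orderOf_one] at hxs
    exact hsp.ne_one hxs.symm

theorem no_three_core_aux : ∀ n : ℕ, ∀ (X : Type u) [Group X] [Finite X], Nat.card X = n → OrdSix X →
    Group.IsSolvable X → (∃ f : X, orderOf f = 5) → (∃ s : X, orderOf s = 4) →
    ∀ U : Subgroup X, U.Normal → IsPGroup 3 U → U ≠ ⊥ → False := by
  intro n
  induction n using Nat.strong_induction_on with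
  | _ n ih =>
  intro X _ _ hX h hsol ⟨f, hf⟩ ⟨s, hs⟩ U hU hU3 hUne
  classical
  haveI := hsol
  haveI := hU
  haveI : Fact (Nat.Prime 2) := ⟨Nat.prime_two⟩
  haveI : Fact (Nat.Prime 3) := ⟨Nat.prime_three⟩
  haveI : Fact (Nat.Prime 5) := ⟨by norm_num⟩
  have hno5 : ∀ D : Subgroup X, D.Normal → IsPGroup 5 D → D = ⊥ := by
    intro D hD hD5
    by_contra hDne
    haveI := hD
    obtain ⟨d, hd, hd5⟩ := exists_orderOf_of_ne_bot hD5 hDne
    obtain ⟨u, hu, hu3⟩ := exists_orderOf_of_ne_bot hU3 hUne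
    have hc : Commute d u := commute_of_normal_of_disjoint
      (fun x hxD hxU => eq_one_of_two_pGroups Nat.prime_three (by norm_num) (by norm_num) hU3 hD5 hxU hxD) hd hu
    have := h.coprime_commute hc (by rw [hd5, hu3]; norm_num)
    rw [hd5, hu3] at this
    omega
  set V := omegaCenter U 3
  have hV3 : ∀ v ∈ V, v ^ 3 = 1 := fun v hv => hv.2.1
  have hs4 : s ^ 4 = 1 := hs ▸ pow_orderOf_eq_one s
  obtain ⟨⟨v₀, hv₀⟩, hv₀1⟩ := Subgroup.ne_bot_iff_exists_ne_one.1 (omegaCenter_ne_bot hU3 hUne)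
  have hv₀3 : orderOf v₀ = 3 := orderOf_eq_prime (hV3 _ hv₀) fun e => hv₀1 (Subtype.ext e)
  -- the square of an element of order four does not centralize `V`
  have hs2 : s ^ 2 ∉ centralizer (V : Set X) := by
    intro hc
    have hinv : ∀ v ∈ V, s * v * s⁻¹ = v⁻¹ := by
      intro v hv
      have hv' : s * v * s⁻¹ ∈ V := (inferInstance : V.Normal).conj_mem v hv s
      have hss : s * (s * v * s⁻¹) * s⁻¹ = v := by
        calc s * (s * v * s⁻¹) * s⁻¹ = s ^ 2 * v * (s ^ 2)⁻¹ := by rw [pow_two]; group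
          _ = v := by rw [← mem_centralizer_iff.1 hc v hv, mul_inv_cancel_right]
      have hw : Commute s (v * (s * v * s⁻¹)) := by
        refine mul_inv_eq_iff_eq_mul.1 ?_
        calc s * (v * (s * v * s⁻¹)) * s⁻¹ = (s * v * s⁻¹) * (s * (s * v * s⁻¹) * s⁻¹) := by group
          _ = (s * v * s⁻¹) * v := by rw [hss]
          _ = v * (s * v * s⁻¹) := omegaCenter_comm _ hv' v hv
      by_contra hne
      refine h.not_commute_four hs (orderOf_eq_prime (hV3 _ (mul_mem hv hv')) fun e => hne ?_) hw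
      exact eq_inv_of_mul_eq_one_right e
    set C := centralizer (V : Set X)
    set π := QuotientGroup.mk' C
    have hsC : π s ≠ 1 := fun e => by
      have h1 := mem_centralizer_iff.1 ((QuotientGroup.eq_one_iff s).1 e) v₀ hv₀
      have h2 := hinv v₀ hv₀
      rw [← h1, mul_inv_cancel_right, eq_comm, inv_eq_iff_mul_eq_one] at h2
      have h3 : orderOf v₀ ∣ 2 := orderOf_dvd_of_pow_eq_one (by rw [pow_two]; exact h2)
      rw [hv₀3] at h3
      norm_num at h3
    have hfC : π f ≠ 1 := fun e => by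
      have h1 := mem_centralizer_iff.1 ((QuotientGroup.eq_one_iff f).1 e) v₀ hv₀
      have := h.coprime_commute (show Commute f v₀ from h1.symm) (by rw [hf, hv₀3]; norm_num)
      rw [hf, hv₀3] at this
      omega
    have hcf : f * s * f⁻¹ * s⁻¹ ∈ C := by
      refine mem_centralizer_iff.2 fun v hv => ?_
      have h1 := hinv v hv
      have hfv : f⁻¹ * v * f ∈ V := by
        have := (inferInstance : V.Normal).conj_mem v hv f⁻¹
        rwa [inv_inv] at this
      have h2 := hinv _ hfv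
      have key : f * s * f⁻¹ * s⁻¹ * v * (f * s * f⁻¹ * s⁻¹)⁻¹ = v := by
        have h3 : s⁻¹ * v * s = v⁻¹ := by
          have h4 : s * v⁻¹ * s⁻¹ = v := by
            rw [show s * v⁻¹ * s⁻¹ = (s * v * s⁻¹)⁻¹ by group, h1, inv_inv]
          conv_lhs => rw [← h4]
          group
        calc f * s * f⁻¹ * s⁻¹ * v * (f * s * f⁻¹ * s⁻¹)⁻¹ = f * (s * (f⁻¹ * (s⁻¹ * v * s) * f) * s⁻¹) * f⁻¹ := by group
          _ = f * (s * (f⁻¹ * v * f)⁻¹ * s⁻¹) * f⁻¹ := by rw [h3]; group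
          _ = f * (s * (f⁻¹ * v * f) * s⁻¹)⁻¹ * f⁻¹ := by group
          _ = v := by rw [h2]; group
      exact (mul_inv_eq_iff_eq_mul.1 key).symm
    have hcomm : Commute (π f) (π s) := mul_inv_eq_iff_eq_mul.1 (mul_inv_eq_one.1 (by
      have := (QuotientGroup.eq_one_iff (N := C) _).2 hcf
      simpa [π] using this))
    have o5 : orderOf (π f) = 5 :=
      orderOf_eq_prime (by rw [← map_pow, ← hf, pow_orderOf_eq_one, map_one]) hfC
    have o2 : orderOf (π s) = 2 := orderOf_eq_prime (by rw [← map_pow]; exact (QuotientGroup.eq_one_iff _).2 hc) hsC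
    have := (h.quotient C).coprime_commute hcomm (by rw [o5, o2]; norm_num)
    rw [o5, o2] at this
    omega
  -- no normal 2-subgroup
  have hno2 : ∀ D : Subgroup X, D.Normal → IsPGroup 2 D → D = ⊥ := by
    intro D hD hD2
    by_contra hDne
    haveI := hD
    have hDC : D ≤ centralizer (V : Set X) := fun d hd => mem_centralizer_iff.2 fun v hv =>
      (commute_of_normal_of_disjoint
        (fun x hxD hxU => eq_one_of_two_pGroups Nat.prime_three (by norm_num) (by norm_num) hU3 hD2 hxU hxD)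
        hd (omegaCenter_le hv)).symm
    have hlt : Nat.card (X ⧸ D) < n := by
      rw [← hX, Subgroup.card_eq_card_quotient_mul_card_subgroup D]
      exact lt_mul_of_one_lt_right Nat.card_pos ((Subgroup.one_lt_card_iff_ne_bot D).2 hDne)
    refine ih _ hlt (X ⧸ D) rfl (h.quotient D) inferInstance ⟨QuotientGroup.mk' D f, ?_⟩ ⟨QuotientGroup.mk' D s, ?_⟩
      (U.map (QuotientGroup.mk' D)) (hU.map _ (QuotientGroup.mk'_surjective D)) (hU3.map _) ?_
    · refine orderOf_eq_prime (by rw [← map_pow, ← hf, pow_orderOf_eq_one, map_one]) fun e => ?_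
      obtain ⟨i, hi⟩ := IsPGroup.iff_orderOf.1 hD2 ⟨f, (QuotientGroup.eq_one_iff f).1 e⟩
      rw [Subgroup.orderOf_mk, hf] at hi
      have h52 : 5 ∣ 2 := (by norm_num : Nat.Prime 5).dvd_of_dvd_pow (dvd_of_eq hi)
      norm_num at h52
    · exact orderOf_eq_prime_pow (p := 2) (n := 1)
        (fun e => hs2 (hDC ((QuotientGroup.eq_one_iff (N := D) _).1 (by rw [pow_one] at e; exact e))))
        (by rw [← map_pow]; show QuotientGroup.mk' D (s ^ 4) = 1; rw [hs4, map_one])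
    · rw [Ne, Subgroup.map_eq_bot_iff, QuotientGroup.ker_mk']
      intro hle
      exact hv₀1 (Subtype.ext (eq_one_of_two_pGroups Nat.prime_three (by norm_num) (by norm_num) hU3 hD2
        (omegaCenter_le hv₀) (hle (omegaCenter_le hv₀))))
  have hcore : Cfsg.pPrimeCore 3 X = ⊥ := pPrimeCore_eq_bot h fun q hq hq3 hq235 => by
    rcases hq235 with rfl | rfl | rfl
    exacts [hno2, absurd rfl hq3, hno5]
  set R := Cfsg.pCore 3 X
  have hRp : IsPGroup 3 R := Core.pCore_isPGroup 3 X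
  obtain ⟨x, -, hx5, hxn⟩ := exists_five_section h (q := 2) (Or.inr ⟨rfl, rfl⟩) hcore hf
  have hR5 : ¬ 5 ∣ Nat.card R := fun hd => by
    obtain ⟨j, hj⟩ := hRp.exists_card_eq
    have h53 : 5 ∣ 3 := (by norm_num : Nat.Prime 5).dvd_of_dvd_pow (hj ▸ hd)
    norm_num at h53
  obtain ⟨T, hTp, hTW, hTR, hTsurj, hTn⟩ := exists_section_lift hR5
    (IsPGroup.of_card (p := 5) (n := 1) (by rw [Nat.card_zpowers, hx5, pow_one]) : IsPGroup 5 (zpowers x))
  haveI := hxn
  obtain ⟨φ, hφ, hφx⟩ := hTsurj x (mem_zpowers x)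
  have hφ5 : φ ^ 5 = 1 := hTR _ (pow_mem hφ 5) (by rw [map_pow, hφx, ← hx5, pow_orderOf_eq_one])
  have hφo : orderOf φ = 5 := orderOf_eq_prime hφ5 fun e => by
    rw [e, map_one] at hφx
    rw [← hφx, orderOf_one] at hx5
    omega
  set π := QuotientGroup.mk' R with hπ
  obtain ⟨m, hm5, hm⟩ := exists_conj_exponent rfl hx5 (hxn.conj_mem x (mem_zpowers x) (π s))
  have hm4 : m ^ 4 % 5 = 1 := by
    have := conj_iterate hm 4
    rw [← map_pow, hs4, map_one, one_mul, inv_one, mul_one] at this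
    have h1 := modEq_of_pow_eq hx5 (a := 1) (b := m ^ 4) (by rw [pow_one]; exact this)
    omega
  have hm14 : m ≠ 1 ∧ m ≠ 4 := by
    suffices key : m ^ 2 % 5 ≠ 1 by constructor <;> rintro rfl <;> norm_num at key
    intro hm2
    have h2 := conj_iterate hm 2
    rw [show x ^ m ^ 2 = x from by
      nth_rewrite 2 [← pow_one x]
      rw [pow_eq_pow_iff_modEq, hx5]; exact hm2] at h2
    have hss : π s ^ 2 ≠ 1 := fun e => by
      rw [← map_pow] at e
      have h2o : orderOf (s ^ 2) = 2 := by rw [orderOf_pow_of_dvd (by norm_num) (hs ▸ by norm_num), hs]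
      obtain ⟨j, hj⟩ := IsPGroup.iff_orderOf.1 hRp ⟨_, (QuotientGroup.eq_one_iff _).1 e⟩
      rw [Subgroup.orderOf_mk, h2o] at hj
      have h23 : 2 ∣ 3 := Nat.prime_two.dvd_of_dvd_pow (dvd_of_eq hj)
      norm_num at h23
    have h5d := (h.quotient R).not_commute_five hx5 hss (show Commute x (π s ^ 2) from
      (mul_inv_eq_iff_eq_mul.1 h2).symm)
    have h4 : orderOf (π s ^ 2) ∣ 2 :=
      orderOf_dvd_of_pow_eq_one (by rw [← pow_mul, ← map_pow]; show π (s ^ 4) = 1; rw [hs4, map_one])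
    have := Nat.le_of_dvd two_pos (h5d.trans h4)
    omega
  obtain ⟨s', hs', hs'x⟩ : ∃ s' : X, s' ^ 4 = 1 ∧ π s' * x * (π s')⁻¹ = x ^ 2 := by
    rcases (show m = 2 ∨ m = 3 by interval_cases m <;> simp_all) with rfl | rfl
    · exact ⟨s, hs4, hm⟩
    · refine ⟨s ^ 3, by rw [← pow_mul, pow_mul', hs4, one_pow], ?_⟩
      rw [map_pow, conj_iterate hm 3, pow_eq_pow_iff_modEq, hx5]
      decide
  obtain ⟨σ, hσ, k, hk, hσk⟩ := hTn s' (normal_normalizes _ _)
  have hσφ : σ * φ * σ⁻¹ = φ ^ 2 := by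
    have h1 : σ * φ * σ⁻¹ ∈ T := (mem_normalizer_iff.1 hσ φ).1 hφ
    refine inv_mul_eq_one.1 (hTR _ (mul_mem (inv_mem h1) (pow_mem hφ 2)) ?_)
    rw [map_mul, map_inv, map_mul, map_mul, map_inv, map_pow, hφx, hσk]
    have hkx : k * x ^ 2 = x ^ 2 * k := by
      obtain ⟨i, rfl⟩ := hk
      exact (((Commute.refl x).zpow_left i).pow_right 2).eq
    calc (k * π s' * x * (k * π s')⁻¹)⁻¹ * x ^ 2 = (k * (π s' * x * (π s')⁻¹) * k⁻¹)⁻¹ * x ^ 2 := by group
      _ = 1 := by rw [hs'x, hkx, mul_inv_cancel_right, inv_mul_cancel]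
  have hσo : orderOf σ = 4 := by
    have h1 : ∀ j, σ ^ j = 1 → 2 ^ j % 5 = 1 := fun j hj => by
      have h2 := conj_iterate hσφ j
      rw [hj, one_mul, inv_one, mul_one] at h2
      have h3 := modEq_of_pow_eq hφo (a := 1) (b := 2 ^ j) (by rw [pow_one]; exact h2)
      omega
    have h6 := h σ
    have h0 := orderOf_pos σ
    have h5 := h1 _ (pow_orderOf_eq_one σ)
    generalize orderOf σ = j at h6 h0 h5 ⊢
    interval_cases j <;> first | rfl | (exfalso; norm_num at h5)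
  set V₁ := omegaCenter R 3
  have hR3 : R ≠ ⊥ := fun hb => by
    have := Core.le_pCore hU3
    rw [show Cfsg.pCore 3 X = ⊥ from hb] at this
    exact hUne (le_bot_iff.1 this)
  obtain ⟨⟨v, hv⟩, hv1⟩ := Subgroup.ne_bot_iff_exists_ne_one.1 (omegaCenter_ne_bot hRp hR3)
  have hv5 : v ^ 5 = 1 := by
    refine pow_five_eq_one_of_norms (V := V₁) omegaCenter_comm hφ5 hσφ
      (fun u hu => h.nm_eq_one (V := V₁) Nat.prime_three (fun w hw => hw.2.1) (normal_normalizes V₁ φ) hu hφo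
        (Or.inl ⟨by norm_num, by norm_num, by norm_num⟩)) hv fun i _ => ?_
    set g := φ ^ i * σ * (φ ^ i)⁻¹
    have hg4 : g ^ 4 = 1 := by rw [conj_pow, ← hσo, pow_orderOf_eq_one]; group
    have hgo : orderOf g = 4 := by rw [show g = MulAut.conj (φ ^ i) σ from rfl, MulEquiv.orderOf_eq, hσo]
    by_contra hne
    have hmem : nm g v 4 ∈ V₁ := nm_mem (normal_normalizes V₁ g) hv 4
    refine h.not_commute_four hgo (orderOf_eq_prime hmem.2.1 hne) (mul_inv_eq_iff_eq_mul.1 ?_)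
    simp only [nm, pow_zero, one_mul, inv_one, mul_one, pow_one]
    have hA : ∀ j : ℕ, g ^ j * v * (g ^ j)⁻¹ ∈ V₁ := fun j => (inferInstance : V₁.Normal).conj_mem v hv _
    have hc := omegaCenter_comm _ hv _ (mul_mem (mul_mem (hA 1) (hA 2)) (hA 3))
    rw [pow_one] at hc
    calc g * (v * (g * v * g⁻¹) * (g ^ 2 * v * (g ^ 2)⁻¹) * (g ^ 3 * v * (g ^ 3)⁻¹)) * g⁻¹ =
        (g * v * g⁻¹) * (g ^ 2 * v * (g ^ 2)⁻¹) * (g ^ 3 * v * (g ^ 3)⁻¹) * (g ^ 4 * v * (g ^ 4)⁻¹) := by group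
      _ = (g * v * g⁻¹) * (g ^ 2 * v * (g ^ 2)⁻¹) * (g ^ 3 * v * (g ^ 3)⁻¹) * v := by
        rw [hg4, one_mul, inv_one, mul_one]
      _ = _ := by rw [← hc]; group
  refine hv1 (Subtype.ext ?_)
  have := pow_gcd_eq_one.2 ⟨hv5, hv.2.1⟩
  rwa [show Nat.gcd 5 3 = 1 from rfl, pow_one] at this

/-- A solvable group with elements of orders three, four and five has a normal 5-subgroup. -/
theorem OrdSix.exists_five_normal (h : OrdSix X) [Group.IsSolvable X] (h3 : ∃ y : X, orderOf y = 3)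
    (h4 : ∃ s : X, orderOf s = 4) (h5 : ∃ f : X, orderOf f = 5) :
    ∃ N : Subgroup X, N.Normal ∧ IsPGroup 5 N ∧ N ≠ ⊥ := by
  classical
  haveI : Fact (Nat.Prime 2) := ⟨Nat.prime_two⟩
  haveI : Fact (Nat.Prime 3) := ⟨Nat.prime_three⟩
  haveI : Fact (Nat.Prime 5) := ⟨by norm_num⟩
  by_contra hne
  push Not at hne
  have hno3 : ∀ U : Subgroup X, U.Normal → IsPGroup 3 U → U = ⊥ := fun U hU hU3 => by
    by_contra hUne
    exact no_three_core_aux _ X rfl h inferInstance h5 h4 U hU hU3 hUne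
  have hcore : Cfsg.pPrimeCore 2 X = ⊥ := pPrimeCore_eq_bot h fun q hq hq2 hq235 => by
    rcases hq235 with rfl | rfl | rfl
    exacts [absurd rfl hq2, hno3, fun D hD hD5 => hne D hD hD5]
  obtain ⟨f, hf⟩ := h5
  obtain ⟨y, hy⟩ := h3
  set R := Cfsg.pCore 2 X
  obtain ⟨x, -, hx5, hxn⟩ := exists_five_section h (r := 2) (q := 3) (Or.inl ⟨rfl, rfl⟩) hcore hf
  set π := QuotientGroup.mk' R
  obtain ⟨m, hm5, hm⟩ := exists_conj_exponent rfl hx5 (hxn.conj_mem x (mem_zpowers x) (π y))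
  have hy3 : π y ^ 3 = 1 := by rw [← map_pow, ← hy, pow_orderOf_eq_one, map_one]
  have hm3 : m ^ 3 % 5 = 1 := by
    have := conj_iterate hm 3
    rw [hy3, one_mul, inv_one, mul_one] at this
    have h1 := modEq_of_pow_eq hx5 (a := 1) (b := m ^ 3) (by rw [pow_one]; exact this)
    omega
  have hm1 : m = 1 := by
    clear hm
    interval_cases m <;> first | rfl | (exfalso; norm_num at hm3)
  have hyo : orderOf (π y) = 3 := orderOf_eq_prime hy3 fun e => by
    obtain ⟨i, hi⟩ := IsPGroup.iff_orderOf.1 (Core.pCore_isPGroup 2 X) ⟨y, (QuotientGroup.eq_one_iff y).1 e⟩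
    rw [Subgroup.orderOf_mk, hy] at hi
    have h32 : 3 ∣ 2 := Nat.prime_three.dvd_of_dvd_pow (dvd_of_eq hi)
    norm_num at h32
  rw [hm1, pow_one] at hm
  have := (h.quotient R).coprime_commute (show Commute (π y) x from mul_inv_eq_iff_eq_mul.1 hm)
    (by rw [hyo, hx5]; norm_num)
  rw [hyo, hx5] at this
  omega

end Cfsg.Lib.Recog.OrderSix
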