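import Cfsg.Agent.Lib.Recog.OrderSix.Small
import Cfsg.Agent.Lib.Recog.OrderSix.SolvableCore

/-!
# Element orders at most six: the complement of the normal 5-subgroup

It has a unique involution, elements of orders four and six and no subgroup of order nine, so it is dicyclic
of order twelve or `SL(2,3)`.
-/

set_option autoImplicit false
set_option linter.unusedSectionVars false
set_option linter.style.haveILetI false

namespace Cfsg.Lib.Recog.OrderSix

open Subgroup Cfsg.Lib

universe u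

variable {H : Type u} [Group H] [Finite H]

theorem mem_zpowers_four {x c : H} (hx : orderOf x = 4) (hc : c ∈ zpowers x) :
    c = 1 ∨ c = x ∨ c = x * x ∨ c = x⁻¹ := by
  rw [← mem_powers_iff_mem_zpowers] at hc
  obtain ⟨i, rfl⟩ := hc
  have h4 : x ^ 4 = 1 := hx ▸ pow_orderOf_eq_one x
  show x ^ i = 1 ∨ x ^ i = x ∨ x ^ i = x * x ∨ x ^ i = x⁻¹
  rw [pow_eq_pow_mod i h4]
  have := Nat.mod_lt i (show 4 > 0 by norm_num)
  interval_cases i % 4
  · exact Or.inl (pow_zero x)
  · exact Or.inr (Or.inl (pow_one x))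
  · exact Or.inr (Or.inr (Or.inl (pow_two x)))
  · exact Or.inr (Or.inr (Or.inr (eq_inv_of_mul_eq_one_left (by rw [← pow_succ, h4]))))

/-- The hypotheses. -/
structure Comp (H : Type u) [Group H] : Prop where
  ord : OrdSix H
  five : ¬ 5 ∣ Nat.card H
  inv : ∀ a b : H, orderOf a = 2 → orderOf b = 2 → a = b
  six : ∃ g : H, orderOf g = 6
  four : ∃ g : H, orderOf g = 4
  nine : ∀ B : Subgroup H, Nat.card B ≠ 9

namespace Comp

variable (hH : Comp H)
include hH

theorem sq_four {x : H} (hx : orderOf x = 4) {z : H} (hz : orderOf z = 2) : x * x = z :=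
  hH.inv _ _ (by rw [← pow_two, orderOf_pow_of_dvd (by norm_num) (hx ▸ by norm_num), hx]) hz

theorem central {z : H} (hz : orderOf z = 2) (g : H) : g * z * g⁻¹ = z :=
  hH.inv _ _ (by rw [← MulAut.conj_apply, MulEquiv.orderOf_eq, hz]) hz

/-- An element of order four is self-centralizing in a 2-group. -/
theorem cent_four {x c : H} (hx : orderOf x = 4) {S : Subgroup H} (hS : IsPGroup 2 S) (hc : c ∈ S)
    (hcomm : Commute c x) : c ∈ zpowers x := by
  obtain ⟨k, hk⟩ := IsPGroup.iff_orderOf.1 hS ⟨c, hc⟩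
  rw [Subgroup.orderOf_mk] at hk
  have hc4 : c ^ 4 = 1 := hH.ord.two_pow_four hk
  have hz : orderOf (x * x) = 2 := by rw [← pow_two, orderOf_pow_of_dvd (by norm_num) (hx ▸ by norm_num), hx]
  have hxx : x * x ∈ zpowers x := mul_mem (mem_zpowers x) (mem_zpowers x)
  have hinvol : ∀ d : H, d * d = 1 → d = 1 ∨ d = x * x := fun d hd => by
    by_cases h1 : d = 1
    · exact Or.inl h1
    · exact Or.inr (hH.inv _ _ (orderOf_eq_prime (by rw [pow_two, hd]) h1) hz)
  rcases hinvol (c * c) (by rw [← hc4]; simp [pow_succ, mul_assoc]) with h1 | h1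
  · rcases hinvol c h1 with rfl | rfl
    exacts [one_mem _, hxx]
  · have hx4 : x * x * (x * x) = 1 := Invol.inv_mul_self hz
    have h2 : c * x * (c * x) = 1 := by
      rw [← pow_two, hcomm.mul_pow, pow_two, pow_two, h1, hx4]
    rcases hinvol _ h2 with h3 | h3
    · rw [eq_inv_of_mul_eq_one_left h3]; exact inv_mem (mem_zpowers x)
    · rw [mul_left_inj] at h3
      exact h3 ▸ mem_zpowers x

/-- An element of order four is centralized or inverted. -/
theorem conj_four {x g : H} (hx : orderOf x = 4) {S : Subgroup H} (hS : IsPGroup 2 S) (hxS : x ∈ S) (hg : g ∈ S)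
    (hgx : ¬ Commute g x) : g * x * g⁻¹ = x⁻¹ := by
  have hz : orderOf (x * x) = 2 := by rw [← pow_two, orderOf_pow_of_dvd (by norm_num) (hx ▸ by norm_num), hx]
  have h4 : ∀ d ∈ S, d ≠ 1 → d ≠ x * x → d * d = x * x := by
    intro d hd h1 h2
    obtain ⟨k, hk⟩ := IsPGroup.iff_orderOf.1 hS ⟨d, hd⟩
    rw [Subgroup.orderOf_mk] at hk
    have hd4 := hH.ord.two_pow_four hk
    by_cases hd2 : d * d = 1
    · exact absurd (hH.inv _ _ (orderOf_eq_prime (by rw [pow_two, hd2]) h1) hz) h2
    · exact hH.inv _ _ (orderOf_eq_prime (by rw [← hd4]; simp [pow_succ, mul_assoc]) hd2) hz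
  have hxx : Commute (x * x) x := (Commute.refl x).mul_left (Commute.refl x)
  have hgg : g * g = x * x := h4 g hg (fun e => hgx (e ▸ Commute.one_left x)) (fun e => hgx (e ▸ hxx))
  have h1 : g * x * (g * x) = x * x := h4 _ (mul_mem hg hxS)
    (fun e => hgx (by rw [eq_inv_of_mul_eq_one_left e]; exact (Commute.refl x).inv_left))
    (fun e => hgx (by rw [mul_left_inj] at e; rw [e]; try exact Commute.refl x))
  have h2 : g * x * g = x := mul_right_cancel (b := x) (by rw [← h1]; group)
  calc g * x * g⁻¹ = g * x * g * (g * g)⁻¹ := by group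
    _ = x⁻¹ := by rw [h2, hgg]; group

/-- The 2-subgroups have order at most eight. -/
theorem card_two_le {S : Subgroup H} (hS : IsPGroup 2 S) : Nat.card S ≤ 8 := by
  classical
  haveI : Fact (Nat.Prime 2) := ⟨Nat.prime_two⟩
  by_cases hex : ∃ x ∈ S, orderOf x = 4
  · obtain ⟨x, hxS, hx⟩ := hex
    have hcard : Nat.card (zpowers x) = 4 := by rw [Nat.card_zpowers, hx]
    by_cases hall : ∀ g ∈ S, Commute g x
    · have := Subgroup.card_le_of_le (fun g hg => hH.cent_four hx hS hg (hall g hg) : S ≤ zpowers x)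
      omega
    push Not at hall
    obtain ⟨r, hr, hrx⟩ := hall
    let f : S → Bool × zpowers x := fun g =>
      if hg : Commute (g : H) x then (true, ⟨g, hH.cent_four hx hS g.2 hg⟩)
      else (false, ⟨r⁻¹ * g, hH.cent_four hx hS (mul_mem (inv_mem hr) g.2) (by
        show r⁻¹ * g * x = x * (r⁻¹ * g)
        have h1 := hH.conj_four hx hS hxS g.2 hg
        have h2 := hH.conj_four hx hS hxS hr hrx
        calc r⁻¹ * g * x = r⁻¹ * (g * x * (g : H)⁻¹) * g := by group
          _ = r⁻¹ * (r * x * r⁻¹) * g := by rw [h1, h2]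
          _ = x * (r⁻¹ * g) := by group)⟩)
    have hf : Function.Injective f := by
      intro a b hab
      by_cases ha : Commute (a : H) x <;> by_cases hb : Commute (b : H) x <;>
        simp [f, ha, hb, Prod.ext_iff] at hab
      · exact hab
      · exact hab
    have := Nat.card_le_card_of_injective f hf
    rw [Nat.card_prod, hcard] at this
    simpa using this
  · push Not at hex
    obtain ⟨g, hg⟩ := hH.six
    have hz : orderOf (g ^ 3) = 2 := by rw [orderOf_pow_of_dvd (by norm_num) (hg ▸ by norm_num), hg]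
    have hle : S ≤ zpowers (g ^ 3) := fun c hc => by
      obtain ⟨k, hk⟩ := IsPGroup.iff_orderOf.1 hS ⟨c, hc⟩
      rw [Subgroup.orderOf_mk] at hk
      obtain ⟨j, hj, hj'⟩ := (Nat.dvd_prime_pow Nat.prime_two).1
        (show orderOf c ∣ 2 ^ 2 from orderOf_dvd_of_pow_eq_one (hH.ord.two_pow_four hk))
      interval_cases j
      · rw [orderOf_eq_one_iff.1 (show orderOf c = 1 by simpa using hj')]; exact one_mem _
      · rw [hH.inv c _ (by simpa using hj') hz]; exact mem_zpowers _
      · exact absurd (by simpa using hj') (hex c hc)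
    have := Subgroup.card_le_of_le hle
    rw [Nat.card_zpowers, hz] at this
    omega

theorem card_eq : Nat.card H = 12 ∨ Nat.card H = 24 := by
  classical
  haveI : Fact (Nat.Prime 2) := ⟨Nat.prime_two⟩
  haveI : Fact (Nat.Prime 3) := ⟨Nat.prime_three⟩
  obtain ⟨a, m, hm, hcard⟩ := Nat.exists_eq_pow_mul_and_not_dvd (Nat.card_pos (α := H)).ne' 2 (by norm_num)
  have hm3 : m = 3 ^ m.primeFactorsList.length :=
    Nat.eq_prime_pow_of_unique_prime_dvd (by rintro rfl; simp at hm) fun {d} hd hdm => by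
      rcases hH.ord.prime_cases hd (hdm.trans (Dvd.intro_left _ hcard.symm)) with rfl | rfl | rfl
      · exact absurd hdm hm
      · rfl
      · exact absurd (hdm.trans (Dvd.intro_left _ hcard.symm)) hH.five
  generalize hb : m.primeFactorsList.length = b at hm3
  subst hm3
  have hb2 : b ≤ 1 := by
    by_contra hb2
    obtain ⟨B, hB⟩ := Sylow.exists_subgroup_card_pow_prime (G := H) 3 (n := 2)
      ((Nat.pow_dvd_pow 3 (show 2 ≤ b by omega)).trans (Dvd.intro_left _ hcard.symm))
    exact hH.nine B (hB.trans (by norm_num))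
  have ha3 : a ≤ 3 := by
    obtain ⟨S, hS⟩ := Sylow.exists_subgroup_card_pow_prime (G := H) 2 (n := a) (Dvd.intro _ hcard.symm)
    have := hH.card_two_le (IsPGroup.of_card hS)
    rw [hS] at this
    by_contra ha
    have := Nat.pow_le_pow_right two_pos (show 4 ≤ a by omega)
    omega
  obtain ⟨g, hg⟩ := hH.six
  obtain ⟨x, hx⟩ := hH.four
  have h4 : 4 ∣ Nat.card H := hx ▸ orderOf_dvd_natCard x
  have h6 : 6 ∣ Nat.card H := hg ▸ orderOf_dvd_natCard g
  rw [hcard] at h4 h6 ⊢
  interval_cases a <;> interval_cases b <;> simp_all (config := { decide := true })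

/-- The order twelve case. -/
theorem equiv_twelve (h12 : Nat.card H = 12) : Nonempty (H ≃* QuaternionGroup 3) := by
  obtain ⟨a, ha⟩ := hH.six
  obtain ⟨x, hx⟩ := hH.four
  have hxn : x ∉ zpowers a := fun hm => by
    have := Subgroup.orderOf_dvd_natCard _ hm
    rw [hx, Nat.card_zpowers, ha] at this
    norm_num at this
  have hnorm : (zpowers a).Normal := by
    refine normal_of_index_eq_two ?_
    have := (zpowers a).card_mul_index
    rw [h12, Nat.card_zpowers, ha] at this
    omega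
  refine quaternion_three_equiv h12 ha ?_ ?_ hxn
  · refine hH.sq_four hx ?_
    rw [orderOf_pow_of_dvd (by norm_num) (ha ▸ by norm_num), ha]
  · have hmem := hnorm.conj_mem a (mem_zpowers a) x
    rw [← mem_powers_iff_mem_zpowers] at hmem
    obtain ⟨i, hi⟩ := hmem
    have hi' : a ^ i = x * a * x⁻¹ := hi
    have hmod : a ^ i = a ^ (i % 6) := by
      have := (pow_mod_orderOf a i).symm
      rwa [ha] at this
    have ho : orderOf (a ^ (i % 6)) = 6 := by
      rw [← hmod, hi', ← MulAut.conj_apply, MulEquiv.orderOf_eq, ha]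
    rw [← hi', hmod]
    have hlt := Nat.mod_lt i (show 6 > 0 by norm_num)
    have hgcd := orderOf_pow (n := i % 6) a
    rw [ho, ha] at hgcd
    interval_cases hj : i % 6
    all_goals first | (exfalso; norm_num at hgcd; done) | skip
    · exfalso
      rw [pow_one] at hmod
      rw [hmod, eq_comm, mul_inv_eq_iff_eq_mul] at hi'
      exact hH.ord.not_commute_four hx (y := a ^ 2) (by rw [orderOf_pow_of_dvd (by norm_num) (ha ▸ by norm_num), ha])
        ((show Commute x a from hi').pow_right 2)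
    · refine eq_inv_of_mul_eq_one_left ?_
      rw [← pow_succ, show (5 + 1 : ℕ) = orderOf a by rw [ha], pow_orderOf_eq_one]

/-- The order twenty-four case. -/
theorem equiv_twenty_four (h24 : Nat.card H = 24) (hsol : Group.IsSolvable H) :
    Nonempty (H ≃* Matrix.SpecialLinearGroup (Fin 2) (ZMod 3)) := by
  classical
  haveI := hsol
  haveI : Fact (Nat.Prime 2) := ⟨Nat.prime_two⟩
  haveI : Fact (Nat.Prime 3) := ⟨Nat.prime_three⟩
  obtain ⟨y, hy⟩ := exists_prime_orderOf_dvd_card' (G := H) 3 (h24 ▸ by norm_num)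
  have hy3 : y ^ 3 = 1 := hy ▸ pow_orderOf_eq_one y
  -- an element of order four conjugated into its own cyclic group is centralized
  have key : ∀ x : H, orderOf x = 4 → y * x * y⁻¹ ∈ zpowers x → False := by
    intro x hx hm
    have h1 : y * x * y⁻¹ = x ∨ y * x * y⁻¹ = x⁻¹ := by
      have ho : orderOf (y * x * y⁻¹) = 4 := by rw [← MulAut.conj_apply, MulEquiv.orderOf_eq, hx]
      rcases mem_zpowers_four hx hm with e | e | e | e
      · rw [e, orderOf_one] at ho; omega
      · exact Or.inl e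
      · rw [e, ← pow_two, orderOf_pow_of_dvd (by norm_num) (hx ▸ by norm_num), hx] at ho; omega
      · exact Or.inr e
    refine hH.ord.not_commute_four hx hy ?_
    rcases h1 with e | e
    · exact (mul_inv_eq_iff_eq_mul.1 e).symm
    · have e2 : y ^ 2 * x * (y ^ 2)⁻¹ = x := by
        calc y ^ 2 * x * (y ^ 2)⁻¹ = y * (y * x * y⁻¹) * y⁻¹ := by rw [pow_two]; group
          _ = y * x⁻¹ * y⁻¹ := by rw [e]
          _ = (y * x * y⁻¹)⁻¹ := by group
          _ = x := by rw [e, inv_inv]
      have hc : Commute (y ^ 2) x := mul_inv_eq_iff_eq_mul.1 e2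
      have := hc.pow_left 2
      rw [← pow_mul, show 2 * 2 = 3 + 1 from rfl, pow_succ, hy3, one_mul] at this
      exact this.symm
  set S := Cfsg.pCore 2 H
  have hSp : IsPGroup 2 S := Core.pCore_isPGroup 2 H
  have hno3 : ∀ D : Subgroup H, D.Normal → IsPGroup 3 D → D = ⊥ := by
    intro D hD hD3
    by_contra hne
    obtain ⟨d, hd, hd3⟩ := exists_orderOf_of_ne_bot hD3 hne
    have hDeq : zpowers d = D := by
      obtain ⟨j, hj⟩ := hD3.exists_card_eq
      refine eq_of_le_of_card_ge (zpowers_le.2 hd) ?_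
      rw [Nat.card_zpowers, hd3, hj]
      have hdiv : 3 ^ j ∣ 24 := h24 ▸ hj ▸ card_subgroup_dvd_card D
      rcases Nat.lt_or_ge j 2 with hj2 | hj2
      · exact le_of_le_of_eq (Nat.pow_le_pow_right (by norm_num) (show j ≤ 1 by omega)) (pow_one 3)
      · have := (Nat.pow_dvd_pow 3 hj2).trans hdiv
        norm_num at this
    -- a Sylow 2-subgroup acts on `D` with a kernel containing an element of order four
    obtain ⟨P, hP⟩ := Sylow.exists_subgroup_card_pow_prime (G := H) 2 (n := 3) (by rw [h24]; norm_num)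
    have hPp : IsPGroup 2 P := IsPGroup.of_card hP
    set C := centralizer ({d} : Set H)
    have hsplit : ∀ g : H, g ∈ C ∨ g * d * g⁻¹ = d⁻¹ := fun g => by
      have hm := hD.conj_mem d hd g
      rw [← hDeq, ← mem_powers_iff_mem_zpowers] at hm
      obtain ⟨i, hi⟩ := hm
      have hi' : d ^ i = g * d * g⁻¹ := hi
      rw [show d ^ i = d ^ (i % 3) from (hd3 ▸ (pow_mod_orderOf d i).symm)] at hi'
      have := Nat.mod_lt i (show 3 > 0 by norm_num)
      interval_cases hj : i % 3
      · exfalso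
        rw [pow_zero] at hi'
        rw [conj_eq_one_iff.1 hi'.symm, orderOf_one] at hd3
        omega
      · exact Or.inl (mem_centralizer_singleton_iff.2 (mul_inv_eq_iff_eq_mul.1 (by rw [← hi', pow_one])))
      · refine Or.inr (hi'.symm.trans (eq_inv_of_mul_eq_one_left ?_))
        rw [← pow_succ, show (2 + 1 : ℕ) = orderOf d by rw [hd3], pow_orderOf_eq_one]
    by_cases hPC : ∃ c ∈ P, c ∈ C ∧ orderOf c = 4
    · obtain ⟨c, -, hcC, hc4⟩ := hPC
      exact hH.ord.not_commute_four hc4 hd3 (mem_centralizer_singleton_iff.1 hcC)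
    push Not at hPC
    -- otherwise `P ∩ C` has at most two elements and index at most two in `P`
    have hle : Nat.card ↥(P ⊓ C) ≤ 2 := by
      obtain ⟨g, hg⟩ := hH.six
      have hz : orderOf (g ^ 3) = 2 := by rw [orderOf_pow_of_dvd (by norm_num) (hg ▸ by norm_num), hg]
      refine le_trans (Subgroup.card_le_of_le (fun c hc => ?_ : P ⊓ C ≤ zpowers (g ^ 3))) ?_
      · obtain ⟨k, hk⟩ := IsPGroup.iff_orderOf.1 hPp ⟨c, hc.1⟩
        rw [Subgroup.orderOf_mk] at hk
        obtain ⟨j, hj, hj'⟩ := (Nat.dvd_prime_pow Nat.prime_two).1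
          (show orderOf c ∣ 2 ^ 2 from orderOf_dvd_of_pow_eq_one (hH.ord.two_pow_four hk))
        interval_cases j
        · rw [orderOf_eq_one_iff.1 (show orderOf c = 1 by simpa using hj')]; exact one_mem _
        · rw [hH.inv c _ (by simpa using hj') hz]; exact mem_zpowers _
        · exact absurd (by simpa using hj') (hPC c hc.1 hc.2)
      · rw [Nat.card_zpowers, hz]
    obtain ⟨r, hr, hrC⟩ : ∃ r ∈ P, r ∉ C := by
      by_contra hall
      push Not at hall
      rw [inf_eq_left.2 hall, hP] at hle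
      omega
    let f : P → Bool × ↥(P ⊓ C) := fun g =>
      if hg : (g : H) ∈ C then (true, ⟨g, g.2, hg⟩)
      else (false, ⟨r⁻¹ * g, P.mul_mem (P.inv_mem hr) g.2, mem_centralizer_singleton_iff.2 (by
        have h1 := (hsplit g).resolve_left hg
        have h2 := (hsplit r).resolve_left hrC
        calc r⁻¹ * g * d = r⁻¹ * (g * d * (g : H)⁻¹) * g := by group
          _ = r⁻¹ * (r * d * r⁻¹) * g := by rw [h1, h2]
          _ = d * (r⁻¹ * g) := by group)⟩)
    have hf : Function.Injective f := by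
      intro a b hab
      by_cases ha : (a : H) ∈ C <;> by_cases hb : (b : H) ∈ C <;>
        simp [f, ha, hb, Prod.ext_iff] at hab
      · have h' := congrArg Subtype.val hab
        exact Subtype.ext h'
      · have h' := congrArg Subtype.val hab
        exact Subtype.ext (mul_left_cancel h')
    have := Nat.card_le_card_of_injective f hf
    rw [Nat.card_prod, hP, show Nat.card Bool = 2 by simp] at this
    omega
  have hcore : Cfsg.pPrimeCore 2 H = ⊥ := pPrimeCore_eq_bot hH.ord fun q hq hq2 hq235 => by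
    rcases hq235 with rfl | rfl | rfl
    · exact absurd rfl hq2
    · exact hno3
    · intro D hD hD5
      by_contra hne
      haveI : Fact (Nat.Prime 5) := ⟨by norm_num⟩
      obtain ⟨d, hd, hd5⟩ := exists_orderOf_of_ne_bot hD5 hne
      exact hH.five (hd5 ▸ orderOf_dvd_natCard d)
  have hself : centralizer (S : Set H) ≤ S :=
    Core.centralizer_pCore_le_of_isPSolvable Core.isPSolvable_of_isSolvable hcore
  have hyS : ∀ g : H, orderOf g = 3 → g ∉ S := fun g hg hgS => by
    obtain ⟨k, hk⟩ := IsPGroup.iff_orderOf.1 hSp ⟨g, hgS⟩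
    rw [Subgroup.orderOf_mk, hg] at hk
    have h32 : 3 ∣ 2 := Nat.prime_three.dvd_of_dvd_pow (dvd_of_eq hk)
    norm_num at h32
  obtain ⟨x, hxS, hx⟩ : ∃ x ∈ S, orderOf x = 4 := by
    by_contra hh
    push Not at hh
    refine hyS y hy (hself (mem_centralizer_iff.2 fun c hc => ?_))
    obtain ⟨k, hk⟩ := IsPGroup.iff_orderOf.1 hSp ⟨c, hc⟩
    rw [Subgroup.orderOf_mk] at hk
    obtain ⟨j, hj, hj'⟩ := (Nat.dvd_prime_pow Nat.prime_two).1
      (show orderOf c ∣ 2 ^ 2 from orderOf_dvd_of_pow_eq_one (hH.ord.two_pow_four hk))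
    interval_cases j
    · rw [orderOf_eq_one_iff.1 (show orderOf c = 1 by simpa using hj')]; simp
    · exact (mul_inv_eq_iff_eq_mul.1 (hH.central (by simpa using hj') y)).symm
    · exact absurd (by simpa using hj') (hh c hc)
  set w := y * x * y⁻¹ with hw
  set v := y * w * y⁻¹ with hv
  have hwS : w ∈ S := (inferInstance : S.Normal).conj_mem x hxS y
  have hvS : v ∈ S := (inferInstance : S.Normal).conj_mem w hwS y
  have hwo : orderOf w = 4 := by rw [hw, ← MulAut.conj_apply, MulEquiv.orderOf_eq, hx]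
  have hwx : w ∉ zpowers x := fun h => key x hx h
  have hwx' : w * x * w⁻¹ = x⁻¹ := hH.conj_four hx hSp hxS hwS fun hc => hwx (hH.cent_four hx hSp hwS hc)
  have hxx : orderOf (x * x) = 2 := by rw [← pow_two, orderOf_pow_of_dvd (by norm_num) (hx ▸ by norm_num), hx]
  have hww : w * w = x * x := hH.sq_four hwo hxx
  have hx4 : x ^ 4 = 1 := hx ▸ pow_orderOf_eq_one x
  -- the eight elements of `S`
  let g : Fin 4 × Fin 2 → S := fun q =>
    ⟨x ^ (q.1 : ℕ) * w ^ (q.2 : ℕ), mul_mem (pow_mem hxS _) (pow_mem hwS _)⟩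
  have hginj : Function.Injective g := by
    rintro ⟨i, j⟩ ⟨i', j'⟩ he
    have he' : x ^ (i : ℕ) * w ^ (j : ℕ) = x ^ (i' : ℕ) * w ^ (j' : ℕ) := congrArg Subtype.val he
    have hjj : j = j' := by
      by_contra hne
      apply hwx
      fin_cases j <;> fin_cases j' <;> simp at hne he'
      · rw [show w = (x ^ (i' : ℕ))⁻¹ * x ^ (i : ℕ) by rw [he']; group]
        exact mul_mem (inv_mem (pow_mem (mem_zpowers x) _)) (pow_mem (mem_zpowers x) _)
      · rw [show w = (x ^ (i : ℕ))⁻¹ * x ^ (i' : ℕ) by rw [← he']; group]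
        exact mul_mem (inv_mem (pow_mem (mem_zpowers x) _)) (pow_mem (mem_zpowers x) _)
    subst hjj
    have h1 := mul_right_cancel he'
    rw [pow_eq_pow_iff_modEq, hx, Nat.ModEq, Nat.mod_eq_of_lt i.2, Nat.mod_eq_of_lt i'.2] at h1
    exact Prod.ext (Fin.ext h1) rfl
  have hgsurj := (hginj.bijective_of_nat_card_le (by
    have := hH.card_two_le hSp
    simpa [Nat.card_eq_fintype_card] using this)).2
  obtain ⟨⟨i, j⟩, hij⟩ := hgsurj ⟨v, hvS⟩
  have hij' : x ^ (i : ℕ) * w ^ (j : ℕ) = v := congrArg Subtype.val hij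
  have hvw : v ∉ zpowers w := fun h => key w hwo h
  have hvx : v ∉ zpowers x := fun h => by
    obtain ⟨k, hk⟩ := h
    refine hwx ?_
    have hxk : x = y * v * y⁻¹ := by
      calc x = (y ^ 3) * x * (y ^ 3)⁻¹ := by rw [hy3]; group
        _ = y * v * y⁻¹ := by rw [hv, hw]; simp [pow_succ, mul_assoc]
    have hxw : x ∈ zpowers w := ⟨k, by
      show w ^ k = x
      rw [hw, conj_zpow, show x ^ k = v from hk, ← hxk]⟩
    have heq : zpowers x = zpowers w :=
      eq_of_le_of_card_ge (zpowers_le.2 hxw) (by rw [Nat.card_zpowers, Nat.card_zpowers, hx, hwo])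
    exact heq ▸ mem_zpowers w
  have hcase : v = x * w ∨ v = x ^ 3 * w := by
    fin_cases j
    · simp at hij'
      exact absurd (hij' ▸ pow_mem (mem_zpowers x) _) hvx
    · fin_cases i
      · simp at hij'
        exact absurd (hij' ▸ mem_zpowers w) hvw
      · simp at hij'; exact Or.inl hij'.symm
      · simp at hij'
        refine absurd ?_ hvw
        rw [← hij', pow_two, ← hww]
        exact mul_mem (mul_mem (mem_zpowers w) (mem_zpowers w)) (mem_zpowers w)
      · simp at hij'; exact Or.inr hij'.symm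
  obtain ⟨X, W, hXS, hrel, hWX, hXo⟩ : ∃ X W : H, X ∈ S ∧ Rel24 X W y ∧ W ∉ zpowers X ∧ orderOf X = 4 := by
    rcases hcase with e | e
    · exact ⟨x, w, hxS, ⟨hx4, hww, hwx', hy3, rfl, e⟩, hwx, hx⟩
    · refine ⟨x⁻¹, w⁻¹, inv_mem hxS, ⟨by rw [inv_pow, hx4, inv_one], by rw [← mul_inv_rev, ← mul_inv_rev, hww],
        ?_, hy3, by rw [hw]; group, ?_⟩, ?_, by rw [orderOf_inv, hx]⟩
      · have h1 : w⁻¹ * x * w = x⁻¹ := by
          calc w⁻¹ * x * w = (w⁻¹ * x⁻¹ * w)⁻¹ := by group
            _ = (w⁻¹ * (w * x * w⁻¹) * w)⁻¹ := by rw [hwx']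
            _ = x⁻¹ := by group
        rw [inv_inv, inv_inv, show w⁻¹ * x⁻¹ * w = (w⁻¹ * x * w)⁻¹ by group, h1, inv_inv]
      · have h1 : y * w⁻¹ * y⁻¹ = v⁻¹ := by rw [hv]; group
        rw [h1, e, mul_inv_rev]
        have h2 : (x ^ 3)⁻¹ = x := inv_eq_of_mul_eq_one_right (by rw [← pow_succ, hx4])
        rw [h2]
        have h3 : w⁻¹ * x * w = x⁻¹ := by
          calc w⁻¹ * x * w = (w⁻¹ * x⁻¹ * w)⁻¹ := by group
            _ = (w⁻¹ * (w * x * w⁻¹) * w)⁻¹ := by rw [hwx']
            _ = x⁻¹ := by group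
        calc w⁻¹ * x = w⁻¹ * x * w * w⁻¹ := by group
          _ = x⁻¹ * w⁻¹ := by rw [h3]
      · intro hm
        rw [zpowers_inv, inv_mem_iff] at hm
        exact hwx hm
  refine sl_two_three_equiv hrel h24 ?_
  rintro ⟨i, j, m⟩ ⟨i', j', m'⟩ he
  have he' : X ^ (i : ℕ) * W ^ (j : ℕ) * y ^ (m : ℕ) = X ^ (i' : ℕ) * W ^ (j' : ℕ) * y ^ (m' : ℕ) := he
  have hWS : W ∈ S := hrel.yx ▸ (inferInstance : S.Normal).conj_mem X hXS y
  have hmem : ∀ (i : Fin 4) (j : Fin 2), X ^ (i : ℕ) * W ^ (j : ℕ) ∈ S := fun i j =>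
    mul_mem (pow_mem hXS _) (pow_mem hWS _)
  have hmm : m = m' := by
    by_contra hne
    have h1 : (y ^ (m : ℕ)) * (y ^ (m' : ℕ))⁻¹ ∈ S := by
      rw [show y ^ (m : ℕ) * (y ^ (m' : ℕ))⁻¹ = (X ^ (i : ℕ) * W ^ (j : ℕ))⁻¹ * (X ^ (i' : ℕ) * W ^ (j' : ℕ)) by
        calc y ^ (m : ℕ) * (y ^ (m' : ℕ))⁻¹ =
            (X ^ (i : ℕ) * W ^ (j : ℕ))⁻¹ * (X ^ (i : ℕ) * W ^ (j : ℕ) * y ^ (m : ℕ)) * (y ^ (m' : ℕ))⁻¹ := by group
          _ = _ := by rw [he']; group]
      exact mul_mem (inv_mem (hmem i j)) (hmem i' j')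
    have hne1 : y ^ (m : ℕ) * (y ^ (m' : ℕ))⁻¹ ≠ 1 := fun e => hne (Fin.ext (by
      have h2 := mul_inv_eq_one.1 e
      rw [pow_eq_pow_iff_modEq, hy, Nat.ModEq, Nat.mod_eq_of_lt m.2, Nat.mod_eq_of_lt m'.2] at h2
      exact h2))
    refine hyS _ (orderOf_eq_prime ?_ hne1) h1
    rw [((Commute.pow_pow (Commute.refl y) _ _).inv_right).mul_pow, inv_pow, ← pow_mul, ← pow_mul, pow_mul', pow_mul', hy3]
    simp
  subst hmm
  have h1 := mul_right_cancel he'
  have hjj : j = j' := by
    by_contra hne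
    apply hWX
    fin_cases j <;> fin_cases j' <;> simp at hne h1
    · rw [show W = (X ^ (i' : ℕ))⁻¹ * X ^ (i : ℕ) by rw [h1]; group]
      exact mul_mem (inv_mem (pow_mem (mem_zpowers X) _)) (pow_mem (mem_zpowers X) _)
    · rw [show W = (X ^ (i : ℕ))⁻¹ * X ^ (i' : ℕ) by rw [← h1]; group]
      exact mul_mem (inv_mem (pow_mem (mem_zpowers X) _)) (pow_mem (mem_zpowers X) _)
  subst hjj
  have h2 := mul_right_cancel h1
  rw [pow_eq_pow_iff_modEq, hXo, Nat.ModEq, Nat.mod_eq_of_lt i.2, Nat.mod_eq_of_lt i'.2] at h2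
  exact Prod.ext (Fin.ext h2) rfl

end Comp

/-- The complement is dicyclic of order twelve or `SL(2,3)`. -/
theorem Comp.structure_theorem (hH : Comp H) (hsol : Group.IsSolvable H) :
    Nonempty (H ≃* QuaternionGroup 3) ∨ Nonempty (H ≃* Matrix.SpecialLinearGroup (Fin 2) (ZMod 3)) := by
  rcases hH.card_eq with h | h
  · exact Or.inl (hH.equiv_twelve h)
  · exact Or.inr (hH.equiv_twenty_four h hsol)

end Cfsg.Lib.Recog.OrderSix
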