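import Cfsg.Agent.Lib.Recog.OrderSix.Signalizer
import Cfsg.Agent.Lib.Recog.OrderSix.OddCore
import Cfsg.Agent.Lib.Recog.OrderSix.SolvTransitive
import Cfsg.Agent.Lib.StrongEmb.Reduce

/-!
# Element orders at most six: in two-rank above two the involution centralizers have trivial odd core

Otherwise the normalizer of the signalizer subgroup is strongly embedded, solvable by induction, and
transitive on at least seven involutions, which is impossible.
-/

set_option autoImplicit false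
set_option linter.unusedSectionVars false
set_option linter.style.haveILetI false

namespace Cfsg.Lib.Recog.OrderSix

open Subgroup Cfsg Cfsg.Lib Cfsg.Lib.Invol
open Cfsg.Lib.StrongEmb.Cover (El th Wof Base exists_base exists_lift_involution)

universe u

variable {G : Type u} [Group G] [Finite G]

theorem not_rank_sylow (hr : ¬ Cfsg.PRankLE 2 2 G) (S : Sylow 2 G) : ¬ Cfsg.PRankLE 2 2 (S : Subgroup G) := by
  haveI : Fact (Nat.Prime 2) := ⟨Nat.prime_two⟩
  intro hS
  refine hr fun A hA hA2 => ?_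
  have hAp : IsPGroup 2 A := fun a => ⟨1, Subtype.ext (by
    show (a : G) ^ (2 ^ 1) = 1
    rw [pow_one]; exact hA2 _ a.2)⟩
  obtain ⟨P, hP⟩ := hAp.exists_le_sylow
  obtain ⟨g, hg⟩ := MulAction.exists_smul_eq G P S
  set A' := A.map (MulAut.conj g).toMonoidHom
  have hle : A' ≤ (S : Subgroup G) := by
    rintro _ ⟨a, ha, rfl⟩
    rw [← hg]
    exact Subgroup.smul_mem_pointwise_smul a (MulAut.conj g) _ (hP ha)
  have := hS (A'.subgroupOf (S : Subgroup G)) ⟨⟨fun a b => ?_⟩⟩ fun a ha => ?_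
  · rwa [Nat.card_congr (subgroupOfEquivOfLe hle).toEquiv,
      card_map_of_injective (f := (MulAut.conj g).toMonoidHom) (MulAut.conj g).injective] at this
  · obtain ⟨x, hx, hxa⟩ := (mem_subgroupOf.1 a.2 : ((a : (S : Subgroup G)) : G) ∈ A')
    obtain ⟨y, hy, hyb⟩ := (mem_subgroupOf.1 b.2 : ((b : (S : Subgroup G)) : G) ∈ A')
    refine Subtype.ext (Subtype.ext ?_)
    simp only [Subgroup.coe_mul, ← hxa, ← hyb, ← map_mul]
    exact congrArg _ (congrArg Subtype.val (hA.is_comm.comm ⟨x, hx⟩ ⟨y, hy⟩))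
  · obtain ⟨x, hx, hxa⟩ := (mem_subgroupOf.1 ha : (a : G) ∈ A')
    refine Subtype.ext ?_
    rw [SubgroupClass.coe_pow, ← hxa, ← map_pow, hA2 x hx, map_one, Subgroup.coe_one]

variable [IsSimpleGroup G]

/-- With two-rank above two all signalizers are trivial. -/
theorem th_eq_bot_of_rank (hna : ¬ IsMulCommutative G) (h : OrdSix G) (hSm : Small.{u} (Nat.card G))
    (hr' : ¬ Cfsg.PRankLE 2 2 G) {t₀ : G} (ht₀ : orderOf t₀ = 2) : th t₀ = ⊥ := by
  classical
  haveI : Fact (Nat.Prime 2) := ⟨Nat.prime_two⟩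
  obtain ⟨S⟩ : Nonempty (Sylow 2 G) := inferInstance
  have hr := not_rank_sylow hr' S
  obtain ⟨⟨U, hB⟩, E₁, hE₁S, hE₁, hE₁8⟩ := exists_base S hr
  set M := normalizer (Wof U : Set G) with hMdef
  have hWodd : Odd (Nat.card (Wof U)) := by
    rw [← Sgn.Wof_all h hB hE₁S hE₁ hE₁8]; exact (Sgn.Wof_signalizer h hE₁ hE₁8).1
  by_contra hth
  have hW : Wof U ≠ ⊥ := fun hW => by
    obtain ⟨g, E, hES, hE, hE8, hgE⟩ := hB.exists_covered hna hr ht₀
    have h1 := Sgn.th_le h hB hES hE hE8 hgE (fun e => Invol.ne_one ht₀ (by simpa using e))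
    rw [hW] at h1
    refine hth (eq_bot_iff.2 fun c hc => mem_bot.2 ?_)
    have h2 := mem_bot.1 (h1 ((Sgn.th_conj).2 hc))
    simpa using h2
  have hMne : M ≠ ⊤ := by
    intro htop
    haveI : (Wof U).Normal := normalizer_eq_top_iff.1 htop
    rcases (inferInstance : (Wof U).Normal).eq_bot_or_eq_top with e | e
    · exact hW e
    · rw [e, Subgroup.card_top] at hWodd
      exact Nat.not_even_iff_odd.2 hWodd (StrongEmb.Cover.even_card hna)
  have hSM : (S : Subgroup G) ≤ M := Sgn.sylow_le h hB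
  -- the normalizer is solvable
  haveI hMs : Group.IsSolvable M := by
    by_contra hns
    have hlt : Nat.card M < Nat.card G := by
      refine lt_of_le_of_ne (Nat.le_of_dvd Nat.card_pos (card_subgroup_dvd_card M)) fun e => ?_
      exact hMne (Subgroup.eq_top_of_card_eq M e)
    have hle : Wof U ≤ M := le_normalizer
    refine hW ?_
    have hbot := (h.subgroup M).odd_normal_eq_bot (hSm.mono hlt) hns
      (N := (Wof U).subgroupOf M) normal_in_normalizer
      (by rw [Nat.card_congr (subgroupOfEquivOfLe hle).toEquiv]; exact hWodd)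
    rw [subgroupOf_eq_bot, disjoint_iff, inf_eq_left.2 hle] at hbot
    exact hbot
  -- the normalizer is strongly embedded
  have hse : IsStronglyEmbedded M := by
    have hev : Even (Nat.card M) := by
      obtain ⟨j, hj⟩ := IsPGroup.iff_card.1 (S.2.to_le hE₁S)
      rw [even_iff_two_dvd]
      refine dvd_trans ?_ (card_dvd_of_le (hE₁S.trans hSM))
      rw [hj]
      exact dvd_pow_self 2 (by rintro rfl; rw [pow_zero] at hj; omega)
    refine (stronglyEmbedded_iff hMne hev).2 fun v hvM hv g hg => ?_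
    obtain ⟨E, hE, hEl, hE8⟩ := Sgn.exists_el h hB hna hr hv hvM
    have hv' : orderOf (g * v * g⁻¹) = 2 := by rw [orderOf_conj_eq, hv]
    obtain ⟨E', hE', hEl', hE8'⟩ := Sgn.exists_el h hB hna hr hv' hg
    have hE2 : IsPGroup 2 E := fun a => ⟨1, Subtype.ext (by rw [pow_one, Subgroup.coe_pow, pow_two]; exact hEl _ a.2)⟩
    refine Sgn.fusion h hB hE2 (hE.trans inf_le_left) le_rfl hEl hE8 ?_
    rintro _ ⟨e, he, rfl⟩
    refine (Sgn.cent_le h hB hv' hg hE' hEl' hE8').2 (mem_centralizer_singleton_iff.2 ?_)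
    exact ((show Commute e v from mem_centralizer_singleton_iff.1 (hE he).2).map (MulAut.conj g).toMonoidHom).eq
  have hconjM : ∀ a b : M, orderOf a = 2 → orderOf b = 2 → IsConj a b := by
    intro a b ha hb
    obtain ⟨w, hw, hw2⟩ := se_exists_outside hse
    obtain ⟨d, hd, hdt⟩ := se_transitive hse hw2 hw (by rw [orderOf_coe, ha]) a.2 (by rw [orderOf_coe, hb]) b.2
    exact isConj_iff.2 ⟨⟨d, hd.1⟩, Subtype.ext hdt⟩
  -- the quotient by the odd core
  set O := Cfsg.pPrimeCore 2 M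
  have hO2 : ¬ 2 ∣ Nat.card O := Core.pPrimeCore_not_dvd 2 M
  set π := QuotientGroup.mk' O with hπ
  have hconj : ∀ a b : M ⧸ O, orderOf a = 2 → orderOf b = 2 → IsConj a b := by
    intro a b ha hb
    obtain ⟨a', ha', rfl⟩ := exists_lift_involution hO2 ha
    obtain ⟨b', hb', rfl⟩ := exists_lift_involution hO2 hb
    obtain ⟨d, hd⟩ := isConj_iff.1 (hconjM a' b' ha' hb')
    exact isConj_iff.2 ⟨π d, by rw [← hd]; simp [hπ]⟩
  have hQ := (h.subgroup M).quotient O
  have hOQ : Cfsg.pPrimeCore 2 (M ⧸ O) = ⊥ := Core.pPrimeCore_quotient_eq_bot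
  -- the central involutions of the 2-core
  set R := Cfsg.pCore 2 (M ⧸ O) with hR
  have hRp : IsPGroup 2 R := Core.pCore_isPGroup 2 _
  let Z : Subgroup (M ⧸ O) :=
    { carrier := {b | b ∈ R ∧ b * b = 1 ∧ ∀ t ∈ R, b * t = t * b}
      one_mem' := ⟨one_mem R, one_mul 1, fun t _ => by rw [one_mul, mul_one]⟩
      mul_mem' := fun {a b} ha hb => ⟨mul_mem ha.1 hb.1, by
        calc a * b * (a * b) = a * (b * a) * b := by group
          _ = a * (a * b) * b := by rw [hb.2.2 a ha.1]
          _ = a * a * (b * b) := by group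
          _ = 1 := by rw [ha.2.1, hb.2.1, one_mul],
        fun t ht => ((show Commute a t from ha.2.2 t ht).mul_left (show Commute b t from hb.2.2 t ht)).eq⟩
      inv_mem' := fun {a} ha => by rw [inv_eq_of_mul_eq_one_left ha.2.1]; exact ha }
  haveI hZn : Z.Normal := ⟨fun b hb g =>
    ⟨(inferInstance : R.Normal).conj_mem b hb.1 g,
      by rw [show g * b * g⁻¹ * (g * b * g⁻¹) = g * (b * b) * g⁻¹ by group, hb.2.1]; group,
      fun t ht => by
        have ht' : g⁻¹ * t * g ∈ R := by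
          have := (inferInstance : R.Normal).conj_mem t ht g⁻¹
          rwa [inv_inv] at this
        calc g * b * g⁻¹ * t = g * (b * (g⁻¹ * t * g)) * g⁻¹ := by group
          _ = g * ((g⁻¹ * t * g) * b) * g⁻¹ := by rw [hb.2.2 _ ht']
          _ = t * (g * b * g⁻¹) := by group⟩⟩
  have hZel : El Z := fun a ha => ha.2.1
  -- a nontrivial element
  have hself : centralizer (R : Set (M ⧸ O)) ≤ R :=
    Core.centralizer_pCore_le_of_isPSolvable Core.isPSolvable_of_isSolvable hOQ
  set E := (E₁.subgroupOf M).map π with hE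
  have hEcard : Nat.card E = Nat.card E₁ := by
    rw [hE, ← Nat.card_congr (subgroupOfEquivOfLe (hE₁S.trans hSM)).toEquiv]
    refine (Nat.card_congr (Equiv.ofBijective (fun x : E₁.subgroupOf M => (⟨π x, mem_map_of_mem π x.2⟩ :
      (E₁.subgroupOf M).map π)) ⟨fun a b hab => ?_, fun ⟨y, x, hx, hxy⟩ => ⟨⟨x, hx⟩, Subtype.ext hxy⟩⟩)).symm
    have h1 : ((a : M)⁻¹ * b) ∈ O := QuotientGroup.eq.1 (congrArg Subtype.val hab)
    have h2 : ((a : M)⁻¹ * b) ∈ E₁.subgroupOf M := mul_mem (inv_mem a.2) b.2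
    refine Subtype.ext (inv_mul_eq_one.1 (eq_one_of_odd (n := 1) (Nat.odd_iff.2 (Nat.two_dvd_ne_zero.1 hO2)) h1 ?_))
    rw [pow_one, pow_two]
    exact Subtype.ext (hE₁ _ h2)
  have hEel : El E := by
    rintro _ ⟨x, hx, rfl⟩
    rw [← map_mul, show x * x = 1 from Subtype.ext (hE₁ _ hx), map_one]
  have hRne : Nontrivial R := by
    rw [nontrivial_iff_ne_bot]
    intro hb
    have hall : ∀ x : M ⧸ O, x = 1 := fun x => mem_bot.1 (hb ▸ hself (mem_centralizer_iff.2 fun r hr => by
      rw [hb, SetLike.mem_coe, mem_bot] at hr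
      rw [hr, one_mul, mul_one]))
    have : E = ⊥ := eq_bot_iff.2 fun x _ => mem_bot.2 (hall x)
    rw [this, Subgroup.card_bot] at hEcard
    omega
  haveI := hRp.center_nontrivial
  obtain ⟨z, hz⟩ : ∃ z : center R, orderOf z = 2 := by
    refine exists_prime_orderOf_dvd_card' 2 ?_
    obtain ⟨k, hk⟩ := (hRp.to_subgroup (center R)).exists_card_eq
    rcases k with _ | k
    · rw [pow_zero] at hk
      exact absurd hk Finite.one_lt_card.ne'
    · exact hk ▸ Dvd.intro_left _ (pow_succ 2 k).symm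
  have hz2 : orderOf ((z : R) : M ⧸ O) = 2 := by rw [Subgroup.orderOf_coe, Subgroup.orderOf_coe, hz]
  have hzZ : ((z : R) : M ⧸ O) ∈ Z :=
    ⟨(z : R).2, Invol.inv_mul_self hz2,
      fun t ht => (congrArg Subtype.val (mem_center_iff.1 z.2 ⟨t, ht⟩)).symm⟩
  -- it contains all involutions
  have hall : ∀ v : M ⧸ O, orderOf v = 2 → v ∈ Z := fun v hv => by
    obtain ⟨g, hg⟩ := isConj_iff.1 (hconj _ v hz2 hv)
    exact hg ▸ hZn.conj_mem _ hzZ g
  have hEZ : E ≤ Z := fun x hx => by
    by_cases h1 : x = 1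
    · exact h1 ▸ one_mem Z
    · exact hall x (hEel.orderOf_eq hx h1)
  refine no_transitive hQ hOQ hZel ?_ fun a ha b hb ha1 hb1 =>
    hconj a b (hZel.orderOf_eq ha ha1) (hZel.orderOf_eq hb hb1)
  exact le_trans (hEcard.symm ▸ hE₁8) (Subgroup.card_le_of_le hEZ)

/-- With two-rank above two the involution centralizers have trivial odd core. -/
theorem cores (hna : ¬ IsMulCommutative G) (h : OrdSix G) (hSm : Small.{u} (Nat.card G))
    (hr : ¬ Cfsg.PRankLE 2 2 G) :
    ∀ t : G, orderOf t = 2 → Cfsg.oddCore (centralizer ({t} : Set G)) = ⊥ := fun _ ht =>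
  (Subgroup.map_eq_bot_iff_of_injective _ (Subgroup.subtype_injective _)).1
    (th_eq_bot_of_rank hna h hSm hr ht)

end Cfsg.Lib.Recog.OrderSix
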