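import Mathlib
import Cfsg.Agent.S0144

/-!
# Element orders at most six: definitions and first consequences
-/

set_option autoImplicit false
set_option linter.unusedSectionVars false

namespace Cfsg.Lib.Recog.OrderSix

universe u

/-- All element orders are at most six. -/
def OrdSix (G : Type*) [Group G] : Prop := ∀ g : G, orderOf g ≤ 6

/-- The conclusion for simple groups. -/
def IsAltFiveSix (G : Type*) [Group G] : Prop :=
  Nonempty (G ≃* ↥(alternatingGroup (Fin 5))) ∨ Nonempty (G ≃* ↥(alternatingGroup (Fin 6)))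

/-- The simple groups of order less than `n` with element orders at most six are known. -/
def Small (n : ℕ) : Prop :=
  ∀ (H : Type u) [Group H] [Finite H] [IsSimpleGroup H], Nat.card H < n → ¬ IsMulCommutative H →
    OrdSix H → IsAltFiveSix H

theorem Small.mono {m n : ℕ} (h : Small.{u} n) (hmn : m ≤ n) : Small.{u} m := fun H _ _ _ hc hna ho =>
  h H (lt_of_lt_of_le hc hmn) hna ho

variable {G : Type*} [Group G] [Finite G]

theorem OrdSix.of_injective {H : Type*} [Group H] (h : OrdSix G) (f : H →* G) (hf : Function.Injective f) :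
    OrdSix H := fun x => orderOf_injective f hf x ▸ h (f x)

theorem OrdSix.subgroup (h : OrdSix G) (H : Subgroup G) : OrdSix H :=
  h.of_injective H.subtype H.subtype_injective

theorem OrdSix.of_surjective {H : Type*} [Group H] (h : OrdSix G) (f : G →* H) (hf : Function.Surjective f) :
    OrdSix H := fun x => by
  obtain ⟨g, rfl⟩ := hf x
  exact (Nat.le_of_dvd (orderOf_pos g) (orderOf_map_dvd f g)).trans (h g)

theorem OrdSix.quotient (h : OrdSix G) (N : Subgroup G) [N.Normal] : OrdSix (G ⧸ N) :=
  h.of_surjective (QuotientGroup.mk' N) (QuotientGroup.mk'_surjective N)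

theorem OrdSix.of_equiv {H : Type*} [Group H] (h : OrdSix G) (e : G ≃* H) : OrdSix H :=
  h.of_surjective e.toMonoidHom e.surjective

theorem OrdSix.pow_cases (h : OrdSix G) (g : G) :
    g = 1 ∨ g ^ 2 = 1 ∨ g ^ 3 = 1 ∨ g ^ 4 = 1 ∨ g ^ 5 = 1 ∨ g ^ 6 = 1 := by
  have h0 := orderOf_pos g
  have h6 := h g
  have h1 := pow_orderOf_eq_one g
  interval_cases orderOf g <;> simp_all

/-- Commuting elements of coprime orders. -/
theorem OrdSix.coprime_commute (h : OrdSix G) {a b : G} (hc : Commute a b)
    (hco : (orderOf a).Coprime (orderOf b)) : orderOf a * orderOf b ≤ 6 := by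
  rw [← hc.orderOf_mul_eq_mul_orderOf_of_coprime hco]
  exact h _

theorem OrdSix.not_commute_five (h : OrdSix G) {f x : G} (hf : orderOf f = 5) (hx : x ≠ 1)
    (hc : Commute f x) : 5 ∣ orderOf x := by
  by_contra hd
  have h2 : 2 ≤ orderOf x := by
    have h0 := orderOf_pos x
    have h1 : orderOf x ≠ 1 := fun e => hx (orderOf_eq_one_iff.1 e)
    omega
  have := h.coprime_commute hc (by rw [hf]; exact (Nat.Prime.coprime_iff_not_dvd (by norm_num)).2 hd)
  rw [hf] at this
  omega

theorem OrdSix.five_commute (h : OrdSix G) {f x : G} (hf : orderOf f = 5) (hc : Commute f x) :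
    x ^ 5 = 1 := by
  by_cases hx : x = 1
  · rw [hx, one_pow]
  obtain ⟨k, hk⟩ := h.not_commute_five hf hx hc
  have := h x
  have h0 := orderOf_pos x
  have h1 : k = 1 := by omega
  rw [← pow_orderOf_eq_one x, hk, h1, mul_one]

/-- An element of order four commutes with no element of order three. -/
theorem OrdSix.not_commute_four (h : OrdSix G) {a y : G} (ha : orderOf a = 4) (hy : orderOf y = 3) :
    ¬ Commute a y := fun hc => by
  have := h.coprime_commute hc (by rw [ha, hy]; decide)
  rw [ha, hy] at this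
  omega

theorem OrdSix.prime_cases (h : OrdSix G) {p : ℕ} (hp : p.Prime) (hd : p ∣ Nat.card G) :
    p = 2 ∨ p = 3 ∨ p = 5 := by
  haveI := Fact.mk hp
  obtain ⟨g, hg⟩ := exists_prime_orderOf_dvd_card' p hd
  have := hg ▸ h g
  interval_cases p <;> simp_all (config := { decide := true })

theorem OrdSix.two_pow_four (h : OrdSix G) {g : G} {k : ℕ} (hg : orderOf g = 2 ^ k) : g ^ 4 = 1 := by
  rw [← orderOf_dvd_iff_pow_eq_one, hg]
  have := h g
  rw [hg] at this
  have hk : k ≤ 2 := by
    by_contra hk
    have := Nat.pow_le_pow_right two_pos (show 3 ≤ k by omega)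
    omega
  exact Nat.pow_dvd_pow 2 hk

theorem OrdSix.three_pow (h : OrdSix G) {g : G} {k : ℕ} (hg : orderOf g = 3 ^ k) : g ^ 3 = 1 := by
  rw [← orderOf_dvd_iff_pow_eq_one, hg]
  have := h g
  rw [hg] at this
  have hk : k ≤ 1 := by
    by_contra hk
    have := Nat.pow_le_pow_right (show 0 < 3 by norm_num) (show 2 ≤ k by omega)
    omega
  exact (Nat.pow_dvd_pow 3 hk).trans (by norm_num)

/-- Two primes make a group solvable. -/
theorem OrdSix.isSolvable_of_not_dvd (h : OrdSix G) {r : ℕ} (hr : r = 2 ∨ r = 3 ∨ r = 5)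
    (hd : ¬ r ∣ Nat.card G) : Group.IsSolvable G := by
  have key : ∀ p q : ℕ, p.Prime → q.Prime →
      (∀ d : ℕ, d.Prime → d ∣ Nat.card G → d = p ∨ d = q) → Group.IsSolvable G := by
    intro p q hp hq hpq
    obtain ⟨a, m, hm, hcard⟩ :=
      Nat.exists_eq_pow_mul_and_not_dvd (Nat.card_pos (α := G)).ne' p hp.ne_one
    have hm0 : m ≠ 0 := by rintro rfl; simp at hm
    have hmq : m = q ^ m.primeFactorsList.length :=
      Nat.eq_prime_pow_of_unique_prime_dvd hm0 fun {d} hd' hdm => by
        rcases hpq d hd' (hdm.trans (Dvd.intro_left _ hcard.symm)) with rfl | rfl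
        · exact absurd hdm hm
        · rfl
    exact Cfsg.Agent.S0144.result p q a _ hp hq (by rw [hcard]; congr 1)
  have h3 : Nat.Prime 3 := Nat.prime_three
  have h5 : Nat.Prime 5 := by norm_num
  rcases hr with rfl | rfl | rfl
  · refine key 3 5 h3 h5 fun d hd' hdG => ?_
    rcases h.prime_cases hd' hdG with rfl | rfl | rfl <;> simp_all
  · refine key 2 5 Nat.prime_two h5 fun d hd' hdG => ?_
    rcases h.prime_cases hd' hdG with rfl | rfl | rfl <;> simp_all
  · refine key 2 3 Nat.prime_two h3 fun d hd' hdG => ?_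
    rcases h.prime_cases hd' hdG with rfl | rfl | rfl <;> simp_all

theorem OrdSix.five_dvd (h : OrdSix G) (hns : ¬ Group.IsSolvable G) : 5 ∣ Nat.card G := by
  by_contra hd
  exact hns (h.isSolvable_of_not_dvd (Or.inr (Or.inr rfl)) hd)

theorem OrdSix.three_dvd (h : OrdSix G) (hns : ¬ Group.IsSolvable G) : 3 ∣ Nat.card G := by
  by_contra hd
  exact hns (h.isSolvable_of_not_dvd (Or.inr (Or.inl rfl)) hd)

/-- The centralizer of an involution has no element of order five. -/
theorem OrdSix.not_five_dvd_centralizer (h : OrdSix G) {t : G} (ht : orderOf t = 2) :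
    ¬ 5 ∣ Nat.card (Subgroup.centralizer ({t} : Set G)) := fun hd => by
  haveI : Fact (Nat.Prime 5) := ⟨by norm_num⟩
  obtain ⟨⟨f, hft⟩, hf⟩ := exists_prime_orderOf_dvd_card' 5 hd
  rw [Subgroup.orderOf_mk] at hf
  have := h.not_commute_five hf (fun e => by rw [e, orderOf_one] at ht; omega)
    (Subgroup.mem_centralizer_singleton_iff.1 hft)
  rw [ht] at this
  omega

/-- The centralizer of an involution is solvable. -/
theorem OrdSix.isSolvable_centralizer (h : OrdSix G) {t : G} (ht : orderOf t = 2) :
    Group.IsSolvable (Subgroup.centralizer ({t} : Set G)) :=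
  (h.subgroup _).isSolvable_of_not_dvd (Or.inr (Or.inr rfl)) (h.not_five_dvd_centralizer ht)

end Cfsg.Lib.Recog.OrderSix
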