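import Cfsg.Agent.Lib.Recog.OrderSix.Lifting

/-!
# Element orders at most six: a normal 2-subgroup acted on by a dihedral group of order ten

It is elementary abelian.
-/

set_option autoImplicit false
set_option linter.unusedSectionVars false
set_option linter.style.haveILetI false

namespace Cfsg.Lib.Recog.OrderSix

open Subgroup Cfsg.Lib

universe u

variable {X : Type u} [Group X] [Finite X]

/-- With squares and commutators central of exponent two, an element of order five and an involution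
inverting it make the 2-group elementary. -/
theorem elementary_of_central (h : OrdSix X) {R : Subgroup X} [R.Normal] (hR : IsPGroup 2 R) {f t : X}
    (hf : orderOf f = 5) (ht : t * t = 1) (htf : t * f * t⁻¹ = f⁻¹)
    (hcen : ∀ a ∈ R, ∀ b ∈ R, a * b * a⁻¹ * b⁻¹ ∈ omegaCenter R 2) : ∀ a ∈ R, a * a = 1 := by
  classical
  set Z := omegaCenter R 2
  have hti : t⁻¹ = t := inv_eq_of_mul_eq_one_left ht
  have hmem : ∀ g a, a ∈ R → g * a * g⁻¹ ∈ R := fun g a ha => (inferInstance : R.Normal).conj_mem a ha g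
  have hp4 : ∀ a ∈ R, a ^ 4 = 1 := fun a ha => by
    obtain ⟨k, hk⟩ := IsPGroup.iff_orderOf.1 hR ⟨a, ha⟩
    rw [Subgroup.orderOf_mk] at hk
    exact h.two_pow_four hk
  have hzsq : ∀ z ∈ Z, z * z = 1 := fun z hz => by rw [← pow_two]; exact hz.2.1
  have hzc : ∀ z ∈ Z, ∀ a ∈ R, z * a = a * z := fun z hz a ha => hz.2.2 a ha
  -- the products of an element with its image under `t`
  let j : X → X := fun r => r * (t * r * t⁻¹)
  have hjR : ∀ r ∈ R, j r ∈ R := fun r hr => mul_mem hr (hmem t r hr)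
  have hj2 : ∀ r ∈ R, j r * j r = 1 := fun r hr => by
    have h2 : (r * t) ^ 2 = j r := by
      show (r * t) ^ 2 = r * (t * r * t⁻¹)
      rw [pow_two, hti]; group
    have h8 : (r * t) ^ (2 ^ 3) = 1 := by
      rw [show (2 : ℕ) ^ 3 = 2 * 4 from rfl, pow_mul, h2]; exact hp4 _ (hjR r hr)
    obtain ⟨k, -, hk⟩ := (Nat.dvd_prime_pow Nat.prime_two).1 (orderOf_dvd_of_pow_eq_one h8)
    have h4 := h.two_pow_four hk
    rw [show (4 : ℕ) = 2 * 2 from rfl, pow_mul, h2, pow_two] at h4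
    exact h4
  have hjcomm : ∀ r ∈ R, ∀ s ∈ R, j r * j s = j s * j r := by
    intro r hr s hs
    set z := s * (t * r * t⁻¹) * s⁻¹ * (t * r * t⁻¹)⁻¹ with hz
    have hzZ : z ∈ Z := hcen s hs _ (hmem t r hr)
    have e : j (r * s) = z * (j r * j s) := by
      have h1 : j (r * s) = r * z * ((t * r * t⁻¹) * s * (t * s * t⁻¹)) := by rw [hz]; simp only [j]; group
      rw [h1, ← hzc z hzZ r hr]
      simp only [j]
      group
    have hW : j r * j s ∈ R := mul_mem (hjR r hr) (hjR s hs)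
    have h2 := hj2 _ (mul_mem hr hs)
    rw [e] at h2
    have h3 : j r * j s * (j r * j s) = 1 := by
      calc j r * j s * (j r * j s) = (z * z) * (j r * j s * (j r * j s)) := by rw [hzsq z hzZ, one_mul]
        _ = z * (z * (j r * j s)) * (j r * j s) := by group
        _ = z * (j r * j s * z) * (j r * j s) := by rw [hzc z hzZ _ hW]
        _ = 1 := by rw [← h2]; group
    have i1 : (j r)⁻¹ = j r := inv_eq_of_mul_eq_one_left (hj2 r hr)
    have i2 : (j s)⁻¹ = j s := inv_eq_of_mul_eq_one_left (hj2 s hs)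
    calc j r * j s = (j r * j s)⁻¹ := (inv_eq_of_mul_eq_one_left h3).symm
      _ = j s * j r := by rw [mul_inv_rev, i1, i2]
  -- the commutator of some `j r` with any element is fixed by `t`
  let c : X → X → X := fun a b => a * b * a⁻¹ * b⁻¹
  have hfixed : ∀ r ∈ R, ∀ w ∈ R, t * c (j r) w * t⁻¹ = c (j r) w := by
    intro r hr w hw
    set a := t * r * t⁻¹
    have haR : a ∈ R := hmem t r hr
    set z := a * r * a⁻¹ * r⁻¹ with hz
    have hzZ : z ∈ Z := hcen a haR r hr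
    have htj : t * j r * t⁻¹ = z * j r := by
      have : t * j r * t⁻¹ = a * (t * t * r * (t * t)⁻¹) := by simp only [j, a]; group
      rw [this, ht, hz]
      simp only [j, a]
      group
    have hJ : j r ∈ R := hjR r hr
    set w' := t * w * t⁻¹
    have hw' : w' ∈ R := hmem t w hw
    have e1 : c (z * j r) w' = c (j r) w' := by
      have h1 := hzc z hzZ _ (mul_mem hw' (inv_mem hJ))
      show z * j r * w' * (z * j r)⁻¹ * w'⁻¹ = j r * w' * (j r)⁻¹ * w'⁻¹
      calc z * j r * w' * (z * j r)⁻¹ * w'⁻¹ = z * (j r * w' * (j r)⁻¹) * z⁻¹ * w'⁻¹ := by group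
        _ = (j r * w' * (j r)⁻¹) * z * z⁻¹ * w'⁻¹ := by
          rw [hzc z hzZ _ (mul_mem (mul_mem hJ hw') (inv_mem hJ))]
        _ = j r * w' * (j r)⁻¹ * w'⁻¹ := by group
    have e2 : t * c (j r) w * t⁻¹ = c (j r) w' := by
      rw [← e1, ← htj]; simp only [c, w']; group
    rw [e2]
    have hc1 : c (j r) w' ∈ Z := hcen _ hJ _ hw'
    have hc2 : c (j r) w ∈ Z := hcen _ hJ _ hw
    have hprod : c (j r) w * c (j r) w' = 1 := by
      have hcomm := hjcomm r hr w hw
      have hid : c (j r) (w * w') = c (j r) w * (w * c (j r) w' * w⁻¹) := by simp only [c]; group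
      have h0 : c (j r) (w * w') = 1 := by
        show j r * (w * w') * (j r)⁻¹ * (w * w')⁻¹ = 1
        rw [show w * w' = j w from rfl, hcomm]; group
      rw [← hzc _ hc1 w hw, mul_inv_cancel_right] at hid
      rw [← hid, h0]
    rw [← inv_eq_of_mul_eq_one_right hprod]
    exact inv_eq_of_mul_eq_one_left (hzsq _ hc2)
  have hf5 : f ^ 5 = 1 := hf ▸ pow_orderOf_eq_one f
  -- conjugates of the products commute
  have hkey : ∀ r ∈ R, ∀ s ∈ R, ∀ k : ℕ, j r * (f ^ k * j s * (f ^ k)⁻¹) = f ^ k * j s * (f ^ k)⁻¹ * j r := by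
    intro r hr s hs k
    by_cases hk : k % 5 = 0
    · rw [pow_eq_pow_mod k hf5, hk]
      simp only [pow_zero, one_mul, inv_one, mul_one]
      exact hjcomm r hr s hs
    set g := f ^ k
    set a := c (j r) (g * j s * g⁻¹) with ha
    have hA := hfixed r hr (g * j s * g⁻¹) (hmem g _ (hjR s hs))
    have hB := hfixed s hs (g⁻¹ * j r * g) (by have := hmem g⁻¹ _ (hjR r hr); rwa [inv_inv] at this)
    have haZ : a ∈ Z := hcen _ (hjR r hr) _ (hmem g _ (hjR s hs))
    have hB' : c (j s) (g⁻¹ * j r * g) = g⁻¹ * a * g := by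
      have e : c (j s) (g⁻¹ * j r * g) = g⁻¹ * a⁻¹ * g := by simp only [ha, c]; group
      rw [e, inv_eq_of_mul_eq_one_left (hzsq a haZ)]
    rw [hB'] at hB
    have htg : t * g * t⁻¹ = g⁻¹ := by rw [← conj_pow, htf, inv_pow]
    have h1 : g * a * g⁻¹ = g⁻¹ * a * g := by
      calc g * a * g⁻¹ = (g⁻¹)⁻¹ * a * g⁻¹ := by group
        _ = (t * g * t⁻¹)⁻¹ * (t * a * t⁻¹) * (t * g * t⁻¹) := by rw [htg, hA]
        _ = t * (g⁻¹ * a * g) * t⁻¹ := by group
        _ = g⁻¹ * a * g := hB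
    have h2 : g ^ 2 * a * (g ^ 2)⁻¹ = a := by
      calc g ^ 2 * a * (g ^ 2)⁻¹ = g * (g * a * g⁻¹) * g⁻¹ := by rw [pow_two]; group
        _ = g * (g⁻¹ * a * g) * g⁻¹ := by rw [h1]
        _ = a := by group
    have hgo : orderOf (g ^ 2) = 5 := by
      haveI : Fact (Nat.Prime 5) := ⟨by norm_num⟩
      refine orderOf_eq_prime (by
        show ((f ^ k) ^ 2) ^ 5 = 1
        rw [← pow_mul, ← pow_mul, show k * (2 * 5) = 5 * (k * 2) by ring, pow_mul, hf5, one_pow]) fun e => hk ?_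
      rw [← pow_mul] at e
      have hd := orderOf_dvd_of_pow_eq_one e
      rw [hf] at hd
      omega
    have h0 : a = 1 := h.five_fixed hgo (n := 2) (by norm_num) (by rw [pow_two]; exact hzsq a haZ) h2
    rw [ha] at h0
    exact mul_inv_eq_iff_eq_mul.1 (mul_inv_eq_one.1 h0)
  -- they generate an abelian subgroup containing everything
  let G0 : Set X := {y | ∃ k : ℕ, ∃ r ∈ R, y = f ^ k * j r * (f ^ k)⁻¹} ∪ (Z : Set X)
  set U := closure G0 with hU
  have hG0R : G0 ⊆ (R : Set X) := by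
    rintro y (⟨k, r, hr, rfl⟩ | hy)
    exacts [hmem _ _ (hjR r hr), hy.1]
  have hUR : U ≤ R := (closure_le R).2 hG0R
  have hgen : ∀ x ∈ G0, ∀ y ∈ G0, x * y = y * x := by
    rintro x (⟨k, r, hr, rfl⟩ | hx) y hy
    · rcases hy with ⟨l, s, hs, rfl⟩ | hy
      · have hfk : f ^ (l + 4 * k) = (f ^ k)⁻¹ * f ^ l := by
          refine eq_inv_mul_of_mul_eq ?_
          rw [← pow_add, show k + (l + 4 * k) = l + 5 * k by ring, pow_add, pow_mul, hf5, one_pow, mul_one]
        have h0 := hkey r hr s hs (l + 4 * k)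
        rw [hfk] at h0
        have e : f ^ l * j s * (f ^ l)⁻¹ = f ^ k * (((f ^ k)⁻¹ * f ^ l) * j s * ((f ^ k)⁻¹ * f ^ l)⁻¹) * (f ^ k)⁻¹ := by
          group
        rw [e]
        set w := ((f ^ k)⁻¹ * f ^ l) * j s * ((f ^ k)⁻¹ * f ^ l)⁻¹
        calc f ^ k * j r * (f ^ k)⁻¹ * (f ^ k * w * (f ^ k)⁻¹) = f ^ k * (j r * w) * (f ^ k)⁻¹ := by group
          _ = f ^ k * (w * j r) * (f ^ k)⁻¹ := by rw [h0]
          _ = f ^ k * w * (f ^ k)⁻¹ * (f ^ k * j r * (f ^ k)⁻¹) := by group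
      · exact (hzc y hy _ (hG0R (Or.inl ⟨k, r, hr, rfl⟩))).symm
    · exact hzc x hx y (hG0R hy)
  have hUc : ∀ a ∈ U, ∀ b ∈ U, a * b = b * a := by
    have h1 : U ≤ centralizer G0 := (closure_le _).2 fun x hx => mem_centralizer_iff.2 fun y hy => hgen y hy x hx
    have h2 : U ≤ centralizer (U : Set X) := (closure_le _).2 fun x hx => mem_centralizer_iff.2 fun y hy =>
      (mem_centralizer_iff.1 (h1 hy) x hx).symm
    intro a ha b hb
    exact mem_centralizer_iff.1 (h2 hb) a ha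
  have hZU : ∀ z ∈ Z, z ∈ U := fun z hz => subset_closure (Or.inr hz)
  have hnormU : ∀ s ∈ R, ∀ u ∈ U, s * u * s⁻¹ ∈ U := fun s hs u hu => by
    rw [show s * u * s⁻¹ = s * u * s⁻¹ * u⁻¹ * u by group]
    exact mul_mem (hZU _ (hcen s hs u (hUR hu))) hu
  have hj0 : ∀ r ∈ R, j r ∈ U := fun r hr => subset_closure (Or.inl ⟨0, r, hr, by simp⟩)
  have hstep : ∀ r ∈ R, f ^ 2 * r * (f ^ 2)⁻¹ * r⁻¹ ∈ U := by
    intro r hr
    set s := t * r * t⁻¹
    have hs : s ∈ R := hmem t r hr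
    have hs' : f⁻¹ * s * f ∈ R := by have := hmem f⁻¹ s hs; rwa [inv_inv] at this
    have hu1 : r * s ∈ U := hj0 r hr
    have h1 : f * j (f⁻¹ * s * f) * f⁻¹ = s * (f ^ 2 * r * (f ^ 2)⁻¹) := by
      have e : f * t * f⁻¹ * t = f ^ 2 := by
        calc f * t * f⁻¹ * t = f * (t * f * t⁻¹)⁻¹ * (t * t) := by group
          _ = f ^ 2 := by rw [htf, ht, mul_one, inv_inv, pow_two]
      rw [← e]
      simp only [j, s]
      group
    have hu2 : s * (f ^ 2 * r * (f ^ 2)⁻¹) ∈ U := h1 ▸ subset_closure (Or.inl ⟨1, _, hs', by rw [pow_one]⟩)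
    have e : f ^ 2 * r * (f ^ 2)⁻¹ * r⁻¹ = s⁻¹ * (s * (f ^ 2 * r * (f ^ 2)⁻¹)) * s⁻¹⁻¹ * (r * s)⁻¹ := by group
    rw [e]
    exact mul_mem (hnormU _ (inv_mem hs) _ hu2) (inv_mem hu1)
  have hRU : R ≤ U := by
    let φ : R → U := fun r => ⟨_, hstep r r.2⟩
    have hinj : Function.Injective fun r : R => (φ r : X) := by
      intro a b hab
      have h1 : f ^ 2 * (a : X) * (f ^ 2)⁻¹ * (a : X)⁻¹ = f ^ 2 * b * (f ^ 2)⁻¹ * (b : X)⁻¹ := hab
      haveI : Fact (Nat.Prime 5) := ⟨by norm_num⟩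
      have hgo : orderOf (f ^ 2) = 5 := by
        refine orderOf_eq_prime (by rw [← pow_mul, mul_comm, pow_mul, hf5, one_pow]) fun e => ?_
        have hd := orderOf_dvd_of_pow_eq_one e
        rw [hf] at hd
        omega
      have hfix : f ^ 2 * ((b : X)⁻¹ * a) * (f ^ 2)⁻¹ = (b : X)⁻¹ * a := by
        calc f ^ 2 * ((b : X)⁻¹ * a) * (f ^ 2)⁻¹ =
            (f ^ 2 * b * (f ^ 2)⁻¹)⁻¹ * (f ^ 2 * a * (f ^ 2)⁻¹ * (a : X)⁻¹) * a := by group
          _ = (f ^ 2 * b * (f ^ 2)⁻¹)⁻¹ * (f ^ 2 * b * (f ^ 2)⁻¹ * (b : X)⁻¹) * a := by rw [h1]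
          _ = (b : X)⁻¹ * a := by group
      exact Subtype.ext (inv_mul_eq_one.1
        (h.five_fixed hgo (n := 4) (by norm_num) (hp4 _ (mul_mem (inv_mem b.2) a.2)) hfix)).symm
    have hinj' : Function.Injective φ := fun a b hab => hinj (congrArg Subtype.val hab)
    exact (eq_of_le_of_card_ge hUR (Nat.card_le_card_of_injective φ hinj')).ge
  -- squares are fixed by `t`
  have hsq : ∀ r ∈ R, t * (r * r) * t⁻¹ = r * r := fun r hr => by
    have h1 := hj2 r hr
    have hc := hUc _ (hRU hr) _ (hRU (hmem t r hr))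
    have h2 : (r * r) * (t * (r * r) * t⁻¹) = 1 := by
      rw [← h1]
      simp only [j]
      calc r * r * (t * (r * r) * t⁻¹) = r * (r * (t * r * t⁻¹)) * (t * r * t⁻¹) := by group
        _ = r * ((t * r * t⁻¹) * r) * (t * r * t⁻¹) := by rw [hc]
        _ = _ := by group
    rw [← inv_eq_of_mul_eq_one_right h2]
    refine inv_eq_of_mul_eq_one_left ?_
    rw [← hp4 r hr]; simp [pow_succ, mul_assoc]
  intro a ha
  have ha' : f⁻¹ * a * f ∈ R := by have := hmem f⁻¹ a ha; rwa [inv_inv] at this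
  have h1 : (f ^ 2) * (a * a) * (f ^ 2)⁻¹ = a * a := by
    have e : f * t * f⁻¹ * t = f ^ 2 := by
      calc f * t * f⁻¹ * t = f * (t * f * t⁻¹)⁻¹ * (t * t) := by group
        _ = f ^ 2 := by rw [htf, ht, mul_one, inv_inv, pow_two]
    have hA := hsq a ha
    have hB := hsq _ ha'
    calc f ^ 2 * (a * a) * (f ^ 2)⁻¹ = f * t * f⁻¹ * (t * (a * a) * t⁻¹) * (f * t * f⁻¹)⁻¹ := by rw [← e]; group
      _ = f * (t * ((f⁻¹ * a * f) * (f⁻¹ * a * f)) * t⁻¹) * f⁻¹ := by rw [hA]; group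
      _ = a * a := by rw [hB]; group
  have hgo : orderOf (f ^ 2) = 5 := by
    haveI : Fact (Nat.Prime 5) := ⟨by norm_num⟩
    refine orderOf_eq_prime (by rw [← pow_mul, mul_comm, pow_mul, hf5, one_pow]) fun e => ?_
    have hd := orderOf_dvd_of_pow_eq_one e
    rw [hf] at hd
    omega
  refine h.five_fixed hgo (n := 2) (by norm_num) ?_ h1
  rw [pow_two, ← hp4 a ha]
  simp [pow_succ, mul_assoc]

theorem elementary_of_dihedral_aux : ∀ n : ℕ, ∀ (X : Type u) [Group X] [Finite X] (R : Subgroup X), R.Normal →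
    IsPGroup 2 R → Nat.card R = n → OrdSix X → ∀ f t : X, orderOf f = 5 → t * t = 1 → t * f * t⁻¹ = f⁻¹ →
    ∀ a ∈ R, a * a = 1 := by
  intro n
  induction n using Nat.strong_induction_on with
  | _ n ih =>
  intro X _ _ R hR hR2 hcard h f t hf ht htf
  classical
  haveI := hR
  haveI : Fact (Nat.Prime 2) := ⟨Nat.prime_two⟩
  by_cases hne : R = ⊥
  · intro a ha
    rw [hne, Subgroup.mem_bot] at ha
    rw [ha, one_mul]
  set Z := omegaCenter R 2
  set π := QuotientGroup.mk' Z with hπ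
  set R' := R.map π
  have hZne := omegaCenter_ne_bot hR2 hne
  have hlt : Nat.card R' < n := by
    have h1 := Subgroup.card_mul_index (π.comp R.subtype).ker
    rw [Subgroup.index_ker, MonoidHom.range_comp, Subgroup.range_subtype] at h1
    rw [← hcard, ← h1]
    refine lt_mul_of_one_lt_left Nat.card_pos ?_
    rw [Subgroup.one_lt_card_iff_ne_bot]
    intro hk
    obtain ⟨⟨z, hz⟩, hz1⟩ := Subgroup.ne_bot_iff_exists_ne_one.1 hZne
    refine hz1 (Subtype.ext ?_)
    have hmem : (⟨z, omegaCenter_le hz⟩ : R) ∈ (π.comp R.subtype).ker := (QuotientGroup.eq_one_iff z).2 hz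
    rw [hk, Subgroup.mem_bot] at hmem
    have h' := congrArg Subtype.val hmem
    exact h'
  have hf' : orderOf (π f) = 5 := by
    haveI : Fact (Nat.Prime 5) := ⟨by norm_num⟩
    refine orderOf_eq_prime (by rw [← map_pow, ← hf, pow_orderOf_eq_one, map_one]) fun e => ?_
    obtain ⟨k, hk⟩ := IsPGroup.iff_orderOf.1 hR2 ⟨f, omegaCenter_le ((QuotientGroup.eq_one_iff f).1 e)⟩
    rw [Subgroup.orderOf_mk, hf] at hk
    have h52 : 5 ∣ 2 := (by norm_num : Nat.Prime 5).dvd_of_dvd_pow (dvd_of_eq hk)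
    norm_num at h52
  have hquot : ∀ a ∈ R', a * a = 1 := ih _ hlt (X ⧸ Z) R' (hR.map π (QuotientGroup.mk'_surjective Z)) (hR2.map π) rfl
    (h.quotient Z) (π f) (π t) hf' (by rw [← map_mul, ht, map_one])
    (by rw [← map_inv, ← map_mul, ← map_mul, htf, map_inv])
  refine elementary_of_central h hR2 hf ht htf fun a ha b hb => (QuotientGroup.eq_one_iff (N := Z) _).1 ?_
  show π (a * b * a⁻¹ * b⁻¹) = 1
  have ia : (π a)⁻¹ = π a := inv_eq_of_mul_eq_one_left (hquot _ (mem_map_of_mem π ha))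
  have ib : (π b)⁻¹ = π b := inv_eq_of_mul_eq_one_left (hquot _ (mem_map_of_mem π hb))
  rw [map_mul, map_mul, map_mul, map_inv, map_inv, ia, ib, mul_assoc (π a * π b)]
  exact hquot (π a * π b) (map_mul π a b ▸ mem_map_of_mem π (mul_mem ha hb))

/-- A normal 2-subgroup with an element of order five inverted by an involution is elementary. -/
theorem OrdSix.elementary_of_dihedral (h : OrdSix X) {R : Subgroup X} [hR : R.Normal] (hR2 : IsPGroup 2 R) {f t : X}
    (hf : orderOf f = 5) (ht : t * t = 1) (htf : t * f * t⁻¹ = f⁻¹) : ∀ a ∈ R, a * a = 1 :=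
  elementary_of_dihedral_aux _ X R hR hR2 rfl h f t hf ht htf

end Cfsg.Lib.Recog.OrderSix
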