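import Cfsg.Agent.Lib.Recog.OrderSix.Complement

/-!
# Element orders exactly one to six: the solvable groups

The 5-core is a Sylow subgroup, inverted by the unique involution of its complement, which is dicyclic of
order twelve or `SL(2,3)`.
-/

set_option autoImplicit false
set_option linter.unusedSectionVars false
set_option linter.style.haveILetI false

namespace Cfsg.Lib.Recog.OrderSix

open Subgroup Cfsg.Lib

universe u

variable {X : Type u} [Group X] [Finite X]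

/-- Elements of order prime to five fix nothing nontrivial of exponent five. -/
theorem OrdSix.fixed_five (h : OrdSix X) {g v : X} (hg : g ≠ 1) (hg5 : ¬ 5 ∣ orderOf g) (hv5 : v ^ 5 = 1)
    (hfix : g * v * g⁻¹ = v) : v = 1 := by
  by_contra hv1
  haveI : Fact (Nat.Prime 5) := ⟨by norm_num⟩
  exact hg5 (h.not_commute_five (orderOf_eq_prime hv5 hv1) hg (mul_inv_eq_iff_eq_mul.1 hfix).symm)

theorem OrdSix.pow_five_of_pGroup (h : OrdSix X) {N : Subgroup X} (hN : IsPGroup 5 N) {v : X} (hv : v ∈ N) :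
    v ^ 5 = 1 := by
  obtain ⟨k, hk⟩ := IsPGroup.iff_orderOf.1 hN ⟨v, hv⟩
  rw [Subgroup.orderOf_mk] at hk
  have hk1 : k ≤ 1 := by
    by_contra hk1
    have := h v
    rw [hk] at this
    have := Nat.pow_le_pow_right (show 5 > 0 by norm_num) (show 2 ≤ k by omega)
    omega
  rw [← orderOf_dvd_iff_pow_eq_one, hk]
  exact (Nat.pow_dvd_pow 5 hk1).trans (dvd_of_eq (pow_one 5))

/-- No elementary group of order `q ^ 2` acts on the 5-core, for `q` two or three. -/
theorem OrdSix.free_rank (h : OrdSix X) {R : Subgroup X} [R.Normal] (hR : IsPGroup 5 R) (hne : R ≠ ⊥) {q : ℕ}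
    (hq : q = 2 ∨ q = 3) {B : Subgroup X} (hB : Nat.card B = q ^ 2) (hBc : ∀ a ∈ B, ∀ b ∈ B, a * b = b * a)
    (hBq : ∀ b ∈ B, b ^ q = 1) : False := by
  have hqp : q.Prime := by rcases hq with rfl | rfl <;> norm_num
  have hq5 : ¬ 5 ∣ q := by rcases hq with rfl | rfl <;> norm_num
  haveI := Fact.mk hqp
  haveI : Fact (Nat.Prime 5) := ⟨by norm_num⟩
  set V := omegaCenter R 5
  have hA : Acts V B := ⟨omegaCenter_comm, hBc, fun b _ => normal_normalizes V b, by
    obtain ⟨j, hj⟩ := (hR.to_le omegaCenter_le : IsPGroup 5 V).exists_card_eq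
    rw [hB, hj]
    exact Nat.Coprime.pow _ _ ((Nat.Prime.coprime_iff_not_dvd (by norm_num)).2 hq5).symm⟩
  have hkill : ∀ (K : Subgroup X), K ≤ B → K ≠ ⊥ → ∀ v ∈ V, v ∈ centralizer (K : Set X) → v = 1 := by
    intro K hKB hK v hv hvK
    obtain ⟨⟨k, hk⟩, hk1⟩ := Subgroup.ne_bot_iff_exists_ne_one.1 hK
    have hkq : orderOf k = q := orderOf_eq_prime (hBq k (hKB hk)) fun e => hk1 (Subtype.ext e)
    exact h.fixed_five (fun e => hk1 (Subtype.ext e)) (hkq ▸ hq5) hv.2.1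
      (mul_inv_eq_iff_eq_mul.2 (mem_centralizer_iff.1 hvK k hk))
  have hle := hA.le_centralizer hqp hBq fun K hK hKc v hv hvK => by
    rw [hkill K hK (fun e => by
      rw [hB, e, Subgroup.card_bot, mul_one] at hKc
      rcases hq with rfl | rfl <;> norm_num at hKc) v hv hvK]
    exact one_mem _
  refine omegaCenter_ne_bot hR hne (eq_bot_iff.2 fun v hv => Subgroup.mem_bot.2 ?_)
  exact hkill B le_rfl (fun e => by
    rw [e, Subgroup.card_bot] at hB
    rcases hq with rfl | rfl <;> norm_num at hB) v hv (hle hv)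

/-- The 5-core is a Sylow subgroup. -/
theorem OrdSix.not_five_dvd_index (h : OrdSix X) [Group.IsSolvable X] (hne : Cfsg.pCore 5 X ≠ ⊥) :
    ¬ 5 ∣ (Cfsg.pCore 5 X).index := by
  classical
  haveI : Fact (Nat.Prime 5) := ⟨by norm_num⟩
  intro hd
  set R := Cfsg.pCore 5 X
  have hRp : IsPGroup 5 R := Core.pCore_isPGroup 5 X
  rw [index_eq_card] at hd
  obtain ⟨f, hf⟩ := exists_prime_orderOf_dvd_card' (G := X ⧸ R) 5 hd
  haveI : Nontrivial (X ⧸ R) := ⟨f, 1, fun e => by rw [e, orderOf_one] at hf; omega⟩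
  obtain ⟨W, hW⟩ := Core.exists_isMinNormal_univ (G := X ⧸ R)
  haveI := hW.1
  obtain ⟨hWc, q, hqp, hWq, hWpg⟩ := Core.minimal_solvable_elementary hW inferInstance
  haveI := Fact.mk hqp
  obtain ⟨x, hx, hxq⟩ := exists_orderOf_of_ne_bot hWpg hW.2.1
  have hq5 : q ≠ 5 := fun e => by
    subst e
    refine hW.2.1 ?_
    have hle : W.comap (QuotientGroup.mk' R) ≤ R := by
      haveI : (W.comap (QuotientGroup.mk' R)).Normal := hW.1.comap _
      exact Core.le_pCore (hWpg.comap_of_ker_isPGroup _ ((QuotientGroup.ker_mk' R).symm ▸ hRp))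
    rw [eq_bot_iff]
    intro y hy
    obtain ⟨y, rfl⟩ := QuotientGroup.mk'_surjective R y
    exact Subgroup.mem_bot.2 ((QuotientGroup.eq_one_iff y).2 (hle hy))
  have hq23 : q = 2 ∨ q = 3 := by
    rcases (h.quotient R).prime_cases hqp (hxq ▸ orderOf_dvd_natCard x) with rfl | rfl | rfl
    exacts [Or.inl rfl, Or.inr rfl, absurd rfl hq5]
  have hqR : ¬ q ∣ Nat.card R := fun hd => by
    obtain ⟨j, hj⟩ := hRp.exists_card_eq
    exact hq5 ((Nat.prime_dvd_prime_iff_eq hqp (by norm_num)).1 (hqp.dvd_of_dvd_pow (hj ▸ hd)))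
  obtain ⟨T, hTp, hTW, hTR, hTsurj, -⟩ := exists_section_lift hqR hWpg
  have hTc : ∀ a ∈ T, ∀ b ∈ T, a * b = b * a := fun a ha b hb => by
    refine inv_mul_eq_one.1 (hTR _ (mul_mem (inv_mem (mul_mem ha hb)) (mul_mem hb ha)) ?_)
    have hab : QuotientGroup.mk' R a * QuotientGroup.mk' R b = QuotientGroup.mk' R b * QuotientGroup.mk' R a :=
      congrArg Subtype.val (hWc.is_comm.comm ⟨_, hTW a ha⟩ ⟨_, hTW b hb⟩)
    rw [map_mul, map_inv, map_mul, map_mul, hab, inv_mul_cancel]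
  obtain ⟨j, hj⟩ := hTp.exists_card_eq
  have hj2 : j < 2 := by
    by_contra hj2
    obtain ⟨B, hB⟩ := Sylow.exists_subgroup_card_pow_prime (G := T) q (n := 2) (hj ▸ Nat.pow_dvd_pow q (by omega))
    exact h.free_rank hRp hne hq23 (B := B.map T.subtype)
      (by rw [card_map_of_injective T.subtype_injective, hB])
      (by rintro _ ⟨a, -, rfl⟩ _ ⟨b, -, rfl⟩; exact hTc _ a.2 _ b.2)
      (by
        rintro _ ⟨a, -, rfl⟩
        exact hTR _ (pow_mem a.2 q) (by rw [map_pow]; exact hWq _ (hTW _ a.2)))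
  have hWeq : zpowers x = W := by
    refine eq_of_le_of_card_ge (zpowers_le.2 hx) ?_
    rw [Nat.card_zpowers, hxq]
    have hle : Nat.card W ≤ Nat.card T := by
      refine Nat.card_le_card_of_surjective (fun t : T => (⟨_, hTW t t.2⟩ : W)) fun w => ?_
      obtain ⟨t, ht, htw⟩ := hTsurj w w.2
      exact ⟨⟨t, ht⟩, Subtype.ext htw⟩
    refine hle.trans ?_
    rw [hj]
    exact le_of_le_of_eq (Nat.pow_le_pow_right hqp.pos (show j ≤ 1 by omega)) (pow_one q)
  have hm := hW.1.conj_mem x hx f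
  rw [← hWeq, ← mem_powers_iff_mem_zpowers] at hm
  obtain ⟨m, hm⟩ := hm
  have hm5 := conj_iterate (g := f) (x := x) (m := m) hm.symm 5
  rw [orderOf_dvd_iff_pow_eq_one.1 (dvd_of_eq hf), one_mul, inv_one, mul_one] at hm5
  nth_rewrite 1 [← pow_one x] at hm5
  rw [pow_eq_pow_iff_modEq, hxq, Nat.ModEq, Nat.pow_mod] at hm5
  have hm1 : m % q = 1 := by
    have hlt := Nat.mod_lt m hqp.pos
    rcases hq23 with rfl | rfl <;> interval_cases hr : m % _ <;> first | rfl | (exfalso; norm_num at hm5)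
  have hfx : Commute f x := by
    refine mul_inv_eq_iff_eq_mul.1 ?_
    rw [← hm]
    show x ^ m = x
    nth_rewrite 2 [← pow_one x]
    rw [pow_eq_pow_iff_modEq, hxq, Nat.ModEq, hm1, Nat.mod_eq_of_lt hqp.one_lt]
  have h5x := (h.quotient R).not_commute_five hf (fun e => by rw [e, orderOf_one] at hxq; exact hqp.ne_one hxq.symm) hfx
  rw [hxq] at h5x
  exact hq5 ((Nat.prime_dvd_prime_iff_eq (by norm_num) hqp).1 h5x).symm

/-- The solvable groups. -/
theorem OrdSix.solvable_structure (h : OrdSix X) [Group.IsSolvable X] (h3 : ∃ y : X, orderOf y = 3)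
    (h4 : ∃ s : X, orderOf s = 4) (h5 : ∃ f : X, orderOf f = 5) (h6 : ∃ g : X, orderOf g = 6) :
    ∃ (N : Subgroup X) (_ : N.Normal), Cfsg.IsElementaryAbelian 5 N ∧
      (Nonempty (X ⧸ N ≃* QuaternionGroup 3) ∨
        Nonempty (X ⧸ N ≃* Matrix.SpecialLinearGroup (Fin 2) (ZMod 3))) := by
  classical
  haveI : Fact (Nat.Prime 2) := ⟨Nat.prime_two⟩
  haveI : Fact (Nat.Prime 5) := ⟨by norm_num⟩
  obtain ⟨N₀, hN₀, hN₀5, hN₀ne⟩ := h.exists_five_normal h3 h4 h5
  set R := Cfsg.pCore 5 X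
  have hRne : R ≠ ⊥ := fun hb => hN₀ne (by
    haveI := hN₀
    exact le_bot_iff.1 (hb ▸ Core.le_pCore hN₀5))
  have hidx := h.not_five_dvd_index hRne
  have hRp : IsPGroup 5 R := Core.pCore_isPGroup 5 X
  obtain ⟨j, hj⟩ := hRp.exists_card_eq
  obtain ⟨H, hH⟩ := exists_right_complement'_of_coprime (N := R)
    (hj ▸ Nat.Coprime.pow_left _ ((Nat.Prime.coprime_iff_not_dvd (by norm_num)).2 hidx))
  have hcard : Nat.card H = R.index := (hH.symm.index_eq_card).symm
  let e : X ⧸ R ≃* H := hH.symm.QuotientMulEquiv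
  have hH5 : ∀ g ∈ H, ¬ 5 ∣ orderOf g := fun g hg hd => hidx (hcard ▸ hd.trans (H.orderOf_dvd_natCard hg))
  have hfree : ∀ g ∈ H, g ≠ 1 → ∀ v ∈ R, g * v * g⁻¹ = v → v = 1 := fun g hg hg1 v hv hfix =>
    h.fixed_five hg1 (hH5 g hg) (h.pow_five_of_pGroup hRp hv) hfix
  -- involutions of the complement invert the core
  have hinv : ∀ t ∈ H, orderOf t = 2 → ∀ v ∈ R, t * v * t⁻¹ = v⁻¹ := by
    intro t ht ht2
    let φ : R →* R :=
      { toFun := fun c => ⟨t * c * t⁻¹, (inferInstance : R.Normal).conj_mem c c.2 t⟩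
        map_one' := Subtype.ext (by simp)
        map_mul' := fun a b => Subtype.ext (by show t * (a * b : X) * t⁻¹ = t * a * t⁻¹ * (t * b * t⁻¹); group) }
    have h2 : Function.Involutive φ := fun c => Subtype.ext (by
      show t * (t * (c : X) * t⁻¹) * t⁻¹ = c
      calc t * (t * (c : X) * t⁻¹) * t⁻¹ = t * t * c * (t * t)⁻¹ := by group
        _ = c := by rw [Invol.inv_mul_self ht2]; group)
    have hfix : MonoidHom.FixedPointFree φ := fun c hc => Subtype.ext
      (hfree t ht (Invol.ne_one ht2) c c.2 (congrArg Subtype.val hc))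
    intro v hv
    exact congrArg Subtype.val (congrFun (hfix.coe_eq_inv_of_involutive h2) ⟨v, hv⟩)
  obtain ⟨⟨r, hr⟩, hr1⟩ := Subgroup.ne_bot_iff_exists_ne_one.1 hRne
  have huniq : ∀ a b : H, orderOf a = 2 → orderOf b = 2 → a = b := by
    intro a b ha hb
    rw [← Subgroup.orderOf_coe] at ha hb
    by_contra hne
    have hne' : (a : X)⁻¹ * b ≠ 1 := fun e => hne (Subtype.ext (inv_mul_eq_one.1 e))
    refine hr1 (Subtype.ext (hfree _ (mul_mem (inv_mem a.2) b.2) hne' r hr ?_))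
    have e1 := hinv _ a.2 ha r hr
    have e2 := hinv _ b.2 hb r hr
    calc (a : X)⁻¹ * b * r * ((a : X)⁻¹ * b)⁻¹ = (a : X)⁻¹ * (b * r * (b : X)⁻¹) * a := by group
      _ = (a : X)⁻¹ * (a * r * (a : X)⁻¹) * a := by rw [e1, e2]
      _ = r := by group
  have himg : ∀ g : X, ¬ 5 ∣ orderOf g → orderOf (e (QuotientGroup.mk' R g)) = orderOf g := by
    intro g hg
    rw [MulEquiv.orderOf_eq]
    refine Nat.dvd_antisymm (orderOf_map_dvd _ g) (orderOf_dvd_of_pow_eq_one ?_)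
    set m := orderOf (QuotientGroup.mk' R g)
    have h1 : g ^ m ∈ R := (QuotientGroup.eq_one_iff _).1 (by
      show QuotientGroup.mk' R (g ^ m) = 1
      rw [map_pow, pow_orderOf_eq_one])
    have h2 := h.pow_five_of_pGroup hRp h1
    have h3 : (g ^ m) ^ orderOf g = 1 := by rw [← pow_mul, mul_comm, pow_mul, pow_orderOf_eq_one, one_pow]
    have h4 := pow_gcd_eq_one.2 ⟨h2, h3⟩
    rwa [(Nat.Prime.coprime_iff_not_dvd (by norm_num)).2 hg, pow_one] at h4
  obtain ⟨g6, hg6⟩ := h6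
  obtain ⟨g4, hg4⟩ := h4
  have hnine : ∀ B : Subgroup H, Nat.card B ≠ 9 := by
    intro B hB
    haveI : Fact (Nat.Prime 3) := ⟨Nat.prime_three⟩
    have hB2 : Nat.card B = 3 ^ 2 := hB.trans (by norm_num)
    have hBcomm := IsPGroup.commutative_of_card_eq_prime_sq hB2
    refine h.free_rank hRp hRne (Or.inr rfl) (B := B.map H.subtype)
      (by rw [card_map_of_injective H.subtype_injective, hB2]) ?_ ?_
    · rintro _ ⟨a, ha, rfl⟩ _ ⟨b, hb, rfl⟩
      rw [← map_mul, ← map_mul]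
      exact congrArg _ (congrArg Subtype.val (hBcomm ⟨a, ha⟩ ⟨b, hb⟩))
    · rintro _ ⟨a, ha, rfl⟩
      obtain ⟨k, hk⟩ := IsPGroup.iff_orderOf.1 (IsPGroup.of_card hB2 : IsPGroup 3 B) ⟨a, ha⟩
      rw [Subgroup.orderOf_mk, ← Subgroup.orderOf_coe] at hk
      exact h.three_pow hk
  have hC : Comp ↥H := ⟨h.subgroup H, hcard ▸ hidx, huniq, ⟨_, (himg g6 (by rw [hg6]; norm_num)).trans hg6⟩,
    ⟨_, (himg g4 (by rw [hg4]; norm_num)).trans hg4⟩, hnine⟩
  -- the core is elementary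
  obtain ⟨t, ht, ht2⟩ : ∃ t ∈ H, orderOf t = 2 := by
    refine ⟨_, (e (QuotientGroup.mk' R g6) ^ 3).2, ?_⟩
    rw [Subgroup.orderOf_coe, orderOf_pow_of_dvd (by norm_num)
      (by rw [himg g6 (by rw [hg6]; norm_num), hg6]; norm_num), himg g6 (by rw [hg6]; norm_num), hg6]
  refine ⟨R, inferInstance, ⟨⟨⟨fun a b => Subtype.ext ?_⟩⟩, fun a ha => h.pow_five_of_pGroup hRp ha⟩, ?_⟩
  · show (a : X) * b = b * a
    have e1 := hinv t ht ht2 _ a.2
    have e2 := hinv t ht ht2 _ b.2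
    have e3 := hinv t ht ht2 _ (mul_mem a.2 b.2)
    calc (a : X) * b = (((a : X) * b)⁻¹)⁻¹ := (inv_inv _).symm
      _ = (t * ((a : X) * b) * t⁻¹)⁻¹ := by rw [e3]
      _ = ((t * a * t⁻¹) * (t * b * t⁻¹))⁻¹ := by group
      _ = b * a := by rw [e1, e2]; group
  · haveI : Group.IsSolvable H := inferInstance
    rcases hC.structure_theorem inferInstance with ⟨⟨f⟩⟩ | ⟨⟨f⟩⟩
    exacts [Or.inl ⟨e.trans f⟩, Or.inr ⟨e.trans f⟩]

end Cfsg.Lib.Recog.OrderSix
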