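import Cfsg.Agent.Lib.Recog.OrderSix.NonSolvable
import Cfsg.Agent.Lib.Recog.OrderSix.SolvableTop

/-!
# Element orders exactly one to six, from the list of the simple groups with element orders at most six
-/

set_option autoImplicit false
set_option linter.unusedSectionVars false

namespace Cfsg.Lib.Recog.OrderSix

universe u

/-- The groups with element orders exactly one to six. -/
theorem general (hsimple : ∀ (H : Type u) [Group H] [Finite H] [IsSimpleGroup H], ¬ IsMulCommutative H →
      OrdSix H → IsAltFiveSix H)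
    {G : Type u} [Group G] [Finite G] (h : Set.range (orderOf : G → ℕ) = {k : ℕ | 1 ≤ k ∧ k ≤ 6}) :
    (∃ (N : Subgroup G) (_ : N.Normal), Cfsg.IsElementaryAbelian 5 N ∧
        (Nonempty (G ⧸ N ≃* QuaternionGroup 3) ∨ Nonempty (G ⧸ N ≃* Matrix.SpecialLinearGroup (Fin 2) (ZMod 3)))) ∨
      (∃ (N : Subgroup G) (_ : N.Normal), Cfsg.IsElementaryAbelian 2 N ∧ Nonempty (G ⧸ N ≃* ↥(alternatingGroup (Fin 5)))) ∨
      Nonempty (G ≃* Equiv.Perm (Fin 5)) ∨ Nonempty (G ≃* Equiv.Perm (Fin 6)) := by
  have hord : OrdSix G := fun g => by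
    have hg : orderOf g ∈ Set.range (orderOf : G → ℕ) := ⟨g, rfl⟩
    rw [h] at hg
    exact hg.2
  have hex : ∀ k, 1 ≤ k → k ≤ 6 → ∃ g : G, orderOf g = k := fun k h1 h6 => by
    have hk : k ∈ Set.range (orderOf : G → ℕ) := by rw [h]; exact ⟨h1, h6⟩
    exact hk
  have hS : ∀ n : ℕ, Small.{u} n := fun n H _ _ _ _ hna ho => hsimple H hna ho
  by_cases hsol : Group.IsSolvable G
  · haveI := hsol
    exact Or.inl (hord.solvable_structure (hex 3 (by norm_num) (by norm_num)) (hex 4 (by norm_num) (by norm_num))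
      (hex 5 (by norm_num) (by norm_num)) (hex 6 (by norm_num) (by norm_num)))
  · exact Or.inr (hord.nonsolvable_structure hS hsol (hex 6 (by norm_num) (by norm_num)))

end Cfsg.Lib.Recog.OrderSix
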