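import Cfsg.Agent.Lib.Recog.OrderSix.Modules
import Cfsg.Agent.Lib.Coprime.Action
import Cfsg.Agent.Lib.PGroup.Basic
import Cfsg.Agent.Lib.Core.PSolvable
import Cfsg.Agent.Lib.Core.Cores

/-!
# Element orders at most six: tools for normal `p`-subgroups

Lifting sections of coprime order, the elementary central part of a `p`-group, the consequences of an
element of order five, and the average over the conjugates of an element of order four under one of order
five.
-/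

set_option autoImplicit false
set_option linter.unusedSectionVars false
set_option linter.style.haveILetI false

namespace Cfsg.Lib.Recog.OrderSix

open Subgroup Cfsg.Lib
open scoped commutatorElement

universe u

variable {X : Type u} [Group X] [Finite X]

theorem normal_normalizes (V : Subgroup X) [V.Normal] (g : X) : g ∈ normalizer (V : Set X) := by
  rw [normalizer_eq_top]; exact mem_top g

theorem eq_one_of_two_pGroups {R T : Subgroup X} {r q : ℕ} (hr : r.Prime) (hq : q.Prime) (hne : q ≠ r)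
    (hR : IsPGroup r R) (hT : IsPGroup q T) {x : X} (hxR : x ∈ R) (hxT : x ∈ T) : x = 1 := by
  haveI := Fact.mk hr
  haveI := Fact.mk hq
  obtain ⟨i, hi⟩ := IsPGroup.iff_orderOf.1 hR ⟨x, hxR⟩
  obtain ⟨j, hj⟩ := IsPGroup.iff_orderOf.1 hT ⟨x, hxT⟩
  rw [Subgroup.orderOf_mk] at hi hj
  rcases j with _ | j
  · exact orderOf_eq_one_iff.1 (hj.trans (pow_zero q))
  · have hd : q ∣ r ^ i := by rw [← hi, hj]; exact dvd_pow_self q (Nat.succ_ne_zero j)
    exact absurd ((Nat.prime_dvd_prime_iff_eq hq hr).1 (hq.dvd_of_dvd_pow hd)) hne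

/-! ### Lifting a section -/

/-- A `q`-subgroup of the quotient by a group of order prime to `q` lifts, with its normalizer. -/
theorem exists_section_lift {R : Subgroup X} [R.Normal] {q : ℕ} [hq : Fact q.Prime] (hRq : ¬ q ∣ Nat.card R)
    {K : Subgroup (X ⧸ R)} (hK : IsPGroup q K) :
    ∃ T : Subgroup X, IsPGroup q T ∧ (∀ t ∈ T, QuotientGroup.mk' R t ∈ K) ∧
      (∀ t ∈ T, QuotientGroup.mk' R t = 1 → t = 1) ∧ (∀ k ∈ K, ∃ t ∈ T, QuotientGroup.mk' R t = k) ∧
      ∀ x : X, QuotientGroup.mk' R x ∈ normalizer (K : Set (X ⧸ R)) →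
        ∃ n ∈ normalizer (T : Set X), ∃ k ∈ K, QuotientGroup.mk' R n = k * QuotientGroup.mk' R x := by
  classical
  set π := QuotientGroup.mk' R with hπ
  set Y := K.comap π with hY
  obtain ⟨i, hKi⟩ := hK.exists_card_eq
  have hYcard : Nat.card Y = Nat.card K * Nat.card R := by
    have h1 := Y.card_mul_index
    have h2 := K.card_mul_index
    rw [hY, index_comap_of_surjective K (QuotientGroup.mk'_surjective R)] at h1
    have h3 := Subgroup.card_eq_card_quotient_mul_card_subgroup R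
    refine Nat.eq_of_mul_eq_mul_right (Nat.pos_of_ne_zero K.index_ne_zero_of_finite) ?_
    rw [h1, h3, ← h2]
    ring
  have hfac : (Nat.card Y).factorization q = i := by
    rw [hYcard, hKi, Nat.factorization_mul (pow_ne_zero _ hq.out.ne_zero) Nat.card_pos.ne', Finsupp.add_apply,
      Nat.factorization_eq_zero_of_not_dvd hRq, Nat.Prime.factorization_pow hq.out, Finsupp.single_eq_same, add_zero]
  obtain ⟨P⟩ : Nonempty (Sylow q Y) := inferInstance
  have hPcard : Nat.card (P : Subgroup Y) = q ^ i := by rw [P.card_eq_multiplicity, hfac]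
  set T := (P : Subgroup Y).map Y.subtype with hT
  have hTp : IsPGroup q T := P.2.map Y.subtype
  have hTK : ∀ t ∈ T, π t ∈ K := by
    rintro _ ⟨t, -, rfl⟩
    exact t.2
  have hTR : ∀ t ∈ T, π t = 1 → t = 1 := by
    intro t ht he
    obtain ⟨j, hj⟩ := IsPGroup.iff_orderOf.1 hTp ⟨t, ht⟩
    rw [Subgroup.orderOf_mk] at hj
    rcases j with _ | j
    · exact orderOf_eq_one_iff.1 (hj.trans (pow_zero q))
    · have hd := R.orderOf_dvd_natCard ((QuotientGroup.eq_one_iff t).1 he)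
      rw [hj] at hd
      exact absurd ((dvd_pow_self q (Nat.succ_ne_zero j)).trans hd) hRq
  let g : T → K := fun t => ⟨π t, hTK t t.2⟩
  have hg : Function.Bijective g := by
    refine (Nat.bijective_iff_injective_and_card g).2 ⟨fun a b hab => ?_, ?_⟩
    · have he : π a = π b := congrArg Subtype.val hab
      exact Subtype.ext (inv_mul_eq_one.1 (hTR _ (mul_mem (inv_mem a.2) b.2)
        (by rw [map_mul, map_inv, he, inv_mul_cancel])))
    · rw [hT, card_map_of_injective Y.subtype_injective, hPcard, hKi]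
  refine ⟨T, hTp, hTK, hTR, fun k hk => ?_, fun x hx => ?_⟩
  · obtain ⟨t, ht⟩ := hg.2 ⟨k, hk⟩
    exact ⟨t, t.2, congrArg Subtype.val ht⟩
  have hxY : ∀ y ∈ Y, x * y * x⁻¹ ∈ Y := fun y hy => by
    show π (x * y * x⁻¹) ∈ K
    rw [map_mul, map_mul, map_inv]
    exact (mem_normalizer_iff.1 hx _).1 hy
  let σ : Y →* Y :=
    { toFun := fun y => ⟨x * y * x⁻¹, hxY y y.2⟩
      map_one' := Subtype.ext (by simp)
      map_mul' := fun a b => Subtype.ext (by show x * (a * b : X) * x⁻¹ = x * a * x⁻¹ * (x * b * x⁻¹); group) }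
  have hσ : Function.Injective σ := fun a b hab =>
    Subtype.ext (mul_left_cancel (mul_right_cancel (congrArg Subtype.val hab)))
  let P' : Sylow q Y := Sylow.ofCard ((P : Subgroup Y).map σ)
    (by rw [card_map_of_injective hσ, hPcard, hfac])
  obtain ⟨y, hy⟩ := MulAction.exists_smul_eq Y P P'
  set n := (y : X)⁻¹ * x with hn
  have hnT : ∀ t ∈ T, n * t * n⁻¹ ∈ T := by
    rintro _ ⟨t, ht, rfl⟩
    have h1 : σ t ∈ ((y • P : Sylow q Y) : Subgroup Y) := by
      rw [hy]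
      exact ⟨t, ht, rfl⟩
    rw [Sylow.coe_subgroup_smul, Subgroup.mem_pointwise_smul_iff_inv_smul_mem, ← map_inv, MulAut.smul_def,
      MulAut.conj_apply, inv_inv] at h1
    refine ⟨y⁻¹ * σ t * y, h1, ?_⟩
    show (y : X)⁻¹ * (x * t * x⁻¹) * y = n * t * n⁻¹
    rw [hn]; group
  refine ⟨n, mem_normalizer_iff.2 fun t => ⟨hnT t, fun ht => ?_⟩, _, inv_mem (show π y ∈ K from y.2), ?_⟩
  · obtain ⟨s, hs⟩ := (Finite.injective_iff_surjective (f := fun s : T => (⟨n * s * n⁻¹, hnT s s.2⟩ : T))).1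
      (fun a b hab => Subtype.ext (mul_left_cancel (mul_right_cancel (congrArg Subtype.val hab)))) ⟨_, ht⟩
    have := mul_left_cancel (mul_right_cancel (congrArg Subtype.val hs))
    exact this ▸ s.2
  · rw [hn, map_mul, map_inv]

/-! ### The elementary central part -/

/-- The elements of exponent `p` central in `R`. -/
def omegaCenter (R : Subgroup X) (p : ℕ) : Subgroup X where
  carrier := {b | b ∈ R ∧ b ^ p = 1 ∧ ∀ t ∈ R, b * t = t * b}
  one_mem' := ⟨one_mem R, one_pow p, fun t _ => by rw [one_mul, mul_one]⟩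
  mul_mem' := fun {a b} ha hb => ⟨mul_mem ha.1 hb.1,
    by rw [(show Commute a b from ha.2.2 b hb.1).mul_pow, ha.2.1, hb.2.1, one_mul],
    fun t ht => ((show Commute a t from ha.2.2 t ht).mul_left (show Commute b t from hb.2.2 t ht)).eq⟩
  inv_mem' := fun {a} ha => ⟨inv_mem ha.1, by rw [inv_pow, ha.2.1, inv_one],
    fun t ht => (show Commute a t from ha.2.2 t ht).inv_left.eq⟩

theorem omegaCenter_le {R : Subgroup X} {p : ℕ} : omegaCenter R p ≤ R := fun _ hb => hb.1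

theorem omegaCenter_comm {R : Subgroup X} {p : ℕ} :
    ∀ u ∈ omegaCenter R p, ∀ v ∈ omegaCenter R p, u * v = v * u := fun _ hu v hv => hu.2.2 v hv.1

instance omegaCenter_normal {R : Subgroup X} [R.Normal] {p : ℕ} : (omegaCenter R p).Normal :=
  ⟨fun b hb g => ⟨(inferInstance : R.Normal).conj_mem b hb.1 g,
    by rw [conj_pow, hb.2.1]; group,
    fun t ht => by
      have ht' : g⁻¹ * t * g ∈ R := by
        have := (inferInstance : R.Normal).conj_mem t ht g⁻¹
        rwa [inv_inv] at this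
      calc g * b * g⁻¹ * t = g * (b * (g⁻¹ * t * g)) * g⁻¹ := by group
        _ = g * ((g⁻¹ * t * g) * b) * g⁻¹ := by rw [hb.2.2 _ ht']
        _ = t * (g * b * g⁻¹) := by group⟩⟩

theorem omegaCenter_ne_bot {R : Subgroup X} {p : ℕ} [hp : Fact p.Prime] (hR : IsPGroup p R) (hne : R ≠ ⊥) :
    omegaCenter R p ≠ ⊥ := by
  haveI : Nontrivial R := (nontrivial_iff_ne_bot R).2 hne
  haveI := hR.center_nontrivial
  obtain ⟨k, hk⟩ := (hR.to_subgroup (center R)).exists_card_eq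
  obtain ⟨z, hz⟩ : ∃ z : center R, orderOf z = p := by
    refine exists_prime_orderOf_dvd_card' p ?_
    rcases k with _ | k
    · rw [pow_zero] at hk
      exact absurd hk Finite.one_lt_card.ne'
    · exact hk ▸ Dvd.intro_left _ (pow_succ p k).symm
  intro hb
  have hz' : orderOf ((z : R) : X) = p := by rw [Subgroup.orderOf_coe, Subgroup.orderOf_coe, hz]
  have hmem : ((z : R) : X) ∈ omegaCenter R p :=
    ⟨(z : R).2, by rw [← hz', pow_orderOf_eq_one],
      fun t ht => (congrArg Subtype.val (mem_center_iff.1 z.2 ⟨t, ht⟩)).symm⟩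
  rw [hb, Subgroup.mem_bot] at hmem
  rw [hmem, orderOf_one] at hz'
  exact hp.out.ne_one hz'.symm

/-! ### Elements of order five -/

/-- An element of order five fixes no nontrivial element of order prime to five. -/
theorem OrdSix.five_fixed (h : OrdSix X) {f v : X} (hf : orderOf f = 5) {n : ℕ} (hn : ¬ 5 ∣ n) (hv : v ^ n = 1)
    (hfix : f * v * f⁻¹ = v) : v = 1 := by
  by_contra h1
  exact hn ((h.not_commute_five hf h1 (mul_inv_eq_iff_eq_mul.1 hfix)).trans (orderOf_dvd_of_pow_eq_one hv))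

/-- No group of order twenty-five and exponent five acts on a nontrivial normal 2- or 3-subgroup. -/
theorem OrdSix.five_rank (h : OrdSix X) {R : Subgroup X} [R.Normal] {r : ℕ} (hr : r = 2 ∨ r = 3)
    (hR : IsPGroup r R) (hne : R ≠ ⊥) {B : Subgroup X} (hB : Nat.card B = 25) (hBc : ∀ a ∈ B, ∀ b ∈ B, a * b = b * a)
    (hB5 : ∀ b ∈ B, b ^ 5 = 1) : False := by
  have hrp : r.Prime := by rcases hr with rfl | rfl <;> norm_num
  haveI := Fact.mk hrp
  haveI : Fact (Nat.Prime 5) := ⟨by norm_num⟩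
  set V := omegaCenter R r
  have hr5 : ¬ 5 ∣ r := by rcases hr with rfl | rfl <;> norm_num
  have hA : Acts V B := ⟨omegaCenter_comm, hBc, fun b _ => normal_normalizes V b, by
    obtain ⟨j, hj⟩ := (hR.to_le omegaCenter_le : IsPGroup r V).exists_card_eq
    rw [hB, hj, show 25 = 5 ^ 2 from rfl]
    exact Nat.Coprime.pow _ _ ((Nat.Prime.coprime_iff_not_dvd (by norm_num)).2 hr5)⟩
  have hkill : ∀ (K : Subgroup X), K ≤ B → K ≠ ⊥ → ∀ v ∈ V, v ∈ centralizer (K : Set X) → v = 1 := by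
    intro K hKB hK v hv hvK
    obtain ⟨⟨k, hk⟩, hk1⟩ := Subgroup.ne_bot_iff_exists_ne_one.1 hK
    have hk5 : orderOf k = 5 := orderOf_eq_prime (hB5 k (hKB hk)) fun e => hk1 (Subtype.ext e)
    exact h.five_fixed hk5 hr5 hv.2.1 (mul_inv_eq_iff_eq_mul.2 (mem_centralizer_iff.1 hvK k hk))
  have hle := hA.le_centralizer (q := 5) (by norm_num) hB5 fun K hK hKc v hv hvK => by
    rw [hkill K hK (fun e => by rw [hB, e, Subgroup.card_bot] at hKc; omega) v hv hvK]
    exact one_mem _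
  refine omegaCenter_ne_bot hR hne (eq_bot_iff.2 fun v hv => Subgroup.mem_bot.2 ?_)
  exact hkill B le_rfl (fun e => by rw [e, Subgroup.card_bot] at hB; omega) v hv (hle hv)

/-- An elementary group of order prime to `r` normalized by an element of order five centralizes a normal
`r`-subgroup. -/
theorem OrdSix.centralizes_of_five (h : OrdSix X) {R : Subgroup X} [R.Normal] {r q : ℕ}
    (hrq : r = 2 ∧ q = 3 ∨ r = 3 ∧ q = 2) (hR : IsPGroup r R) {T : Subgroup X}
    (hTc : ∀ a ∈ T, ∀ b ∈ T, a * b = b * a) (hTq : ∀ t ∈ T, t ^ q = 1) {f : X} (hf : orderOf f = 5)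
    (hfT : f ∈ normalizer (T : Set X)) : T ≤ centralizer (R : Set X) := by
  have hrp : r.Prime := by rcases hrq with ⟨rfl, rfl⟩ | ⟨rfl, rfl⟩ <;> norm_num
  have hqp : q.Prime := by rcases hrq with ⟨rfl, rfl⟩ | ⟨rfl, rfl⟩ <;> norm_num
  have hqr : q ≠ r := by rcases hrq with ⟨rfl, rfl⟩ | ⟨rfl, rfl⟩ <;> norm_num
  have hr5 : ¬ 5 ∣ r := by rcases hrq with ⟨rfl, rfl⟩ | ⟨rfl, rfl⟩ <;> norm_num
  have hq5 : ¬ 5 ∣ q := by rcases hrq with ⟨rfl, rfl⟩ | ⟨rfl, rfl⟩ <;> norm_num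
  haveI := Fact.mk hrp
  haveI := Fact.mk hqp
  haveI : Fact (Nat.Prime 5) := ⟨by norm_num⟩
  have hTp : IsPGroup q T := fun t => ⟨1, Subtype.ext (by
    show (t : X) ^ (q ^ 1) = 1
    rw [pow_one]; exact hTq _ t.2)⟩
  set Φ := (frattini R).map R.subtype with hΦ
  haveI : Φ.Normal := inferInstance
  set ρ := QuotientGroup.mk' Φ with hρ
  have hel := PGroup.isElementaryAbelian_quotient_frattini hR
  have hpowΦ : ∀ a ∈ R, ρ a ^ r = 1 := fun a ha => by
    have := hel.2 (QuotientGroup.mk' (frattini R) ⟨a, ha⟩) (mem_top _)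
    rw [← map_pow] at this
    rw [← map_pow]
    exact (QuotientGroup.eq_one_iff _).2 ⟨_, (QuotientGroup.eq_one_iff _).1 this, by simp⟩
  have hcommΦ : ∀ a ∈ R, ∀ b ∈ R, ρ a * ρ b = ρ b * ρ a := by
    intro a ha b hb
    rw [← map_mul, ← map_mul]
    refine (QuotientGroup.eq (s := Φ)).2 ?_
    refine ⟨(⟨a, ha⟩ * ⟨b, hb⟩)⁻¹ * (⟨b, hb⟩ * ⟨a, ha⟩ : R), ?_, rfl⟩
    refine QuotientGroup.eq.1 ?_
    exact congrArg Subtype.val (hel.1.is_comm.comm ⟨QuotientGroup.mk (⟨a, ha⟩ : R), mem_top _⟩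
      ⟨QuotientGroup.mk (⟨b, hb⟩ : R), mem_top _⟩)
  have hQ := h.quotient Φ
  haveI : (R.map ρ).Normal := (inferInstance : R.Normal).map ρ (QuotientGroup.mk'_surjective Φ)
  have hA : Acts (R.map ρ) (T.map ρ) := by
    refine ⟨?_, ?_, fun b _ => normal_normalizes _ b, ?_⟩
    · rintro _ ⟨a, ha, rfl⟩ _ ⟨b, hb, rfl⟩
      exact hcommΦ a ha b hb
    · rintro _ ⟨a, ha, rfl⟩ _ ⟨b, hb, rfl⟩
      rw [← map_mul, ← map_mul, hTc a ha b hb]
    · obtain ⟨i, hi⟩ := (hTp.map ρ).exists_card_eq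
      obtain ⟨j, hj⟩ := (hR.map ρ).exists_card_eq
      rw [hi, hj]
      exact Nat.Coprime.pow _ _ ((Nat.coprime_primes hqp hrp).2 hqr)
  have hfρ : orderOf (ρ f) = 5 := by
    refine orderOf_eq_prime (by rw [← map_pow, ← hf, pow_orderOf_eq_one, map_one]) fun e => ?_
    obtain ⟨j, hj⟩ := IsPGroup.iff_orderOf.1 hR ⟨f, map_subtype_le _ ((QuotientGroup.eq_one_iff f).1 e)⟩
    rw [Subgroup.orderOf_mk, hf] at hj
    exact hr5 ((by norm_num : Nat.Prime 5).dvd_of_dvd_pow (dvd_of_eq hj))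
  have hle := hA.le_centralizer_of_prime (q := q) (r := 5) hqp (by norm_num)
    (by rintro _ ⟨t, ht, rfl⟩; rw [← map_pow, hTq t ht, map_one])
    (by rcases hrq with ⟨rfl, rfl⟩ | ⟨rfl, rfl⟩ <;> norm_num) (f := ρ f)
    (hfρ ▸ pow_orderOf_eq_one (ρ f)) (normal_normalizes _ _) ((le_normalizer_map (H := T) ρ) (mem_map_of_mem ρ hfT))
    (by
      rintro _ ⟨t, ht, rfl⟩ hfix
      exact hQ.five_fixed hfρ hq5 (by rw [← map_pow, hTq t ht, map_one]) hfix)
    (fun v hv => hQ.nm_eq_one hrp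
      (by rintro _ ⟨a, ha, rfl⟩; exact hpowΦ a ha)
      (normal_normalizes _ _) hv hfρ
      (Or.inl ⟨by norm_num, fun e => hr5 (e ▸ dvd_rfl), by have := hrp.two_le; omega⟩))
  refine Coprime.le_centralizer_of_commutator_le_frattini (fun t _ => normal_normalizes R t) ?_
    (Or.inr (haveI := hR.isNilpotent; inferInstance)) (commutator_le.2 fun a ha t ht => ?_)
  · obtain ⟨i, hi⟩ := hTp.exists_card_eq
    obtain ⟨j, hj⟩ := hR.exists_card_eq
    rw [hi, hj]
    exact Nat.Coprime.pow _ _ ((Nat.coprime_primes hqp hrp).2 hqr)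
  · refine (QuotientGroup.eq_one_iff (N := Φ) _).1 ?_
    show ρ ⁅a, t⁆ = 1
    rw [map_commutatorElement, commutatorElement_eq_one_iff_mul_comm]
    exact ((mem_centralizer_iff.1 (hle (mem_map_of_mem ρ ha))) (ρ t) (mem_map_of_mem ρ ht)).symm

/-! ### Averaging -/

/-- A Frobenius group of order twenty: with vanishing norms all fifth powers vanish. -/
theorem pow_five_eq_one_of_norms {V : Subgroup X} [V.Normal] (hVc : ∀ u ∈ V, ∀ v ∈ V, u * v = v * u) {f s : X}
    (hf : f ^ 5 = 1) (hsf : s * f * s⁻¹ = f ^ 2) (hfn : ∀ u ∈ V, nm f u 5 = 1) {v : X} (hv : v ∈ V)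
    (hsn : ∀ i : ℕ, i < 5 → nm (f ^ i * s * (f ^ i)⁻¹) v 4 = 1) : v ^ 5 = 1 := by
  letI : CommGroup V :=
    { (inferInstance : Group V) with mul_comm := fun a b => Subtype.ext (hVc a a.2 b b.2) }
  let F : ℕ → V → V := fun i u => ⟨f ^ i * u * (f ^ i)⁻¹, (inferInstance : V.Normal).conj_mem u u.2 _⟩
  have hu : ∀ j : ℕ, s ^ j * v * (s ^ j)⁻¹ ∈ V := fun j => (inferInstance : V.Normal).conj_mem v hv _
  let v0 : V := ⟨v, hv⟩
  let u1 : V := ⟨_, hu 1⟩
  let u2 : V := ⟨_, hu 2⟩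
  let u3 : V := ⟨_, hu 3⟩
  have hf' : ∀ m : ℕ, f ^ m = f ^ (m % 5) := fun m => pow_eq_pow_mod m hf
  have hmove : ∀ j m : ℕ, s ^ j * f ^ m = f ^ (2 ^ j * m) * s ^ j := by
    intro j
    induction j with
    | zero => intro m; simp
    | succ j ih =>
      intro m
      have h1 : s * f ^ m = f ^ (2 * m) * s := by
        rw [pow_mul, ← hsf, conj_pow]; group
      calc s ^ (j + 1) * f ^ m = s ^ j * (s * f ^ m) := by rw [pow_succ, mul_assoc]
        _ = s ^ j * f ^ (2 * m) * s := by rw [h1, mul_assoc]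
        _ = f ^ (2 ^ (j + 1) * m) * s ^ (j + 1) := by rw [ih, pow_succ s, pow_succ 2, mul_assoc, mul_assoc (2 ^ j)]
  have hinv : ∀ i : ℕ, (f ^ i)⁻¹ = f ^ (4 * i) := fun i => by
    refine inv_eq_of_mul_eq_one_right ?_
    rw [← pow_add, show i + 4 * i = 5 * i by ring, pow_mul, hf, one_pow]
  have hconj : ∀ i j : ℕ, ∀ w : X, f ^ i * (f ^ j * w * (f ^ j)⁻¹) * (f ^ i)⁻¹ =
      f ^ ((i + j) % 5) * w * (f ^ ((i + j) % 5))⁻¹ := by
    intro i j w
    rw [← hf' (i + j), pow_add]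
    group
  -- the norm of a conjugate of `s`, with the powers of `f` collected
  have hrow : ∀ i : ℕ, i < 5 →
      F i (F (4 * i % 5) v0) * F ((i + 2 * (4 * i)) % 5) u1 * F ((i + 4 * (4 * i)) % 5) u2 *
        F ((i + 8 * (4 * i)) % 5) u3 = 1 := by
    intro i hi
    refine Subtype.ext ?_
    show f ^ i * (f ^ (4 * i % 5) * v * (f ^ (4 * i % 5))⁻¹) * (f ^ i)⁻¹ *
      (f ^ ((i + 2 * (4 * i)) % 5) * (s ^ 1 * v * (s ^ 1)⁻¹) * (f ^ ((i + 2 * (4 * i)) % 5))⁻¹) *
      (f ^ ((i + 4 * (4 * i)) % 5) * (s ^ 2 * v * (s ^ 2)⁻¹) * (f ^ ((i + 4 * (4 * i)) % 5))⁻¹) *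
      (f ^ ((i + 8 * (4 * i)) % 5) * (s ^ 3 * v * (s ^ 3)⁻¹) * (f ^ ((i + 8 * (4 * i)) % 5))⁻¹) = 1
    rw [← hf' (i + 2 * (4 * i)), ← hf' (i + 4 * (4 * i)), ← hf' (i + 8 * (4 * i)), ← hf' (4 * i), ← hinv i]
    have e1 : f ^ i * s * (f ^ i)⁻¹ = f ^ (i + 2 * (4 * i)) * s := by
      rw [hinv, mul_assoc, ← pow_one s, hmove, pow_one, ← mul_assoc, ← pow_add]
    have e2 : (f ^ i * s * (f ^ i)⁻¹) ^ 2 = f ^ (i + 4 * (4 * i)) * s ^ 2 := by
      rw [conj_pow, hinv, mul_assoc, hmove, ← mul_assoc, ← pow_add]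
      norm_num
    have e3 : (f ^ i * s * (f ^ i)⁻¹) ^ 3 = f ^ (i + 8 * (4 * i)) * s ^ 3 := by
      rw [conj_pow, hinv, mul_assoc, hmove, ← mul_assoc, ← pow_add]
      norm_num
    have h4 := hsn i hi
    simp only [nm, pow_zero, one_mul, inv_one, mul_one, pow_one] at h4
    rw [e2, e3, e1] at h4
    rw [pow_one]
    calc _ = v * (f ^ (i + 2 * (4 * i)) * s * v * (f ^ (i + 2 * (4 * i)) * s)⁻¹) *
        (f ^ (i + 4 * (4 * i)) * s ^ 2 * v * (f ^ (i + 4 * (4 * i)) * s ^ 2)⁻¹) *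
        (f ^ (i + 8 * (4 * i)) * s ^ 3 * v * (f ^ (i + 8 * (4 * i)) * s ^ 3)⁻¹) := by group
      _ = 1 := h4
  have hN : ∀ u : V, F 0 u * F 1 u * F 2 u * F 3 u * F 4 u = 1 := fun u => Subtype.ext (by
    have := hfn u u.2
    simpa [nm, F, mul_assoc] using this)
  have h0 := hrow 0 (by norm_num)
  have h1 := hrow 1 (by norm_num)
  have h2 := hrow 2 (by norm_num)
  have h3 := hrow 3 (by norm_num)
  have h4 := hrow 4 (by norm_num)
  have hFF : ∀ i j : ℕ, (i + j) % 5 = 0 → F i (F j v0) = v0 := fun i j hij => Subtype.ext (by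
    show f ^ i * (f ^ j * v * (f ^ j)⁻¹) * (f ^ i)⁻¹ = v
    rw [hconj, hij]; simp)
  norm_num at h0 h1 h2 h3 h4
  rw [hFF _ _ (by norm_num)] at h0 h1 h2 h3 h4
  have key : v0 ^ 5 * ((F 0 u1 * F 1 u1 * F 2 u1 * F 3 u1 * F 4 u1) *
      (F 0 u2 * F 1 u2 * F 2 u2 * F 3 u2 * F 4 u2) * (F 0 u3 * F 1 u3 * F 2 u3 * F 3 u3 * F 4 u3)) =
      (v0 * F 0 u1 * F 0 u2 * F 0 u3) * (v0 * F 4 u1 * F 2 u2 * F 3 u3) * (v0 * F 3 u1 * F 4 u2 * F 1 u3) *
      (v0 * F 2 u1 * F 1 u2 * F 4 u3) * (v0 * F 1 u1 * F 3 u2 * F 2 u3) := by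
    simp only [pow_succ, pow_zero, one_mul]
    ac_rfl
  rw [h0, h1, h2, h3, h4, hN, hN, hN] at key
  simpa using congrArg Subtype.val key

end Cfsg.Lib.Recog.OrderSix
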