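import Cfsg.Agent.Lib.Recog.OrderSix.Defs
import Cfsg.Agent.Lib.Coprime.Generation

/-!
# Element orders at most six: elementary groups permuted by an element

`B` is elementary abelian acting coprimely on the abelian group `V`, and `f` permutes the hyperplanes
of `B`. If the norm of `f` vanishes on `V` and no hyperplane is fixed, `B` centralizes `V`.
-/

set_option autoImplicit false
set_option linter.unusedSectionVars false

namespace Cfsg.Lib.Recog.OrderSix

open Subgroup

variable {X : Type*} [Group X]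

/-- The norm `v · ᶠv ⋯` of `n` factors. -/
def nm (f v : X) : ℕ → X
  | 0 => 1
  | n + 1 => nm f v n * (f ^ n * v * (f ^ n)⁻¹)

theorem nm_zero (f v : X) : nm f v 0 = 1 := rfl

theorem nm_succ (f v : X) (n : ℕ) : nm f v (n + 1) = nm f v n * (f ^ n * v * (f ^ n)⁻¹) := rfl

theorem mul_pow_nm (f v : X) (n : ℕ) : (v * f) ^ n = nm f v n * f ^ n := by
  induction n with
  | zero => simp [nm]
  | succ n ih => rw [pow_succ, ih, nm_succ, pow_succ]; group

variable [Finite X]

theorem pow_mem_normalizer {V : Subgroup X} {f : X} (hf : f ∈ normalizer (V : Set X)) {v : X} (hv : v ∈ V)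
    (n : ℕ) : f ^ n * v * (f ^ n)⁻¹ ∈ V :=
  (mem_normalizer_iff.1 (pow_mem hf n) v).1 hv

theorem nm_mem {V : Subgroup X} {f v : X} (hf : f ∈ normalizer (V : Set X)) (hv : v ∈ V) (n : ℕ) :
    nm f v n ∈ V := by
  induction n with
  | zero => exact one_mem V
  | succ n ih => exact mul_mem ih (pow_mem_normalizer hf hv n)

/-- With all orders at most six the norm vanishes. -/
theorem OrdSix.nm_eq_one (h : OrdSix X) {V : Subgroup X} {f v : X} {p n : ℕ} (hp : p.Prime)
    (hV : ∀ u ∈ V, u ^ p = 1) (hf : f ∈ normalizer (V : Set X)) (hv : v ∈ V) (hfo : orderOf f = n)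
    (hn : n.Prime ∧ n ≠ p ∧ 6 < n * p ∨ n = 4 ∧ p = 2) : nm f v n = 1 := by
  by_contra hne
  have hfn : f ^ n = 1 := hfo ▸ pow_orderOf_eq_one f
  have e : (v * f) ^ n = nm f v n := by rw [mul_pow_nm, hfn, mul_one]
  have hnp : (v * f) ^ (n * p) = 1 := by rw [pow_mul, e, hV _ (nm_mem hf hv n)]
  have h6 := h (v * f)
  rcases hn with ⟨hnP, hnep, h6'⟩ | ⟨rfl, rfl⟩
  · obtain ⟨a, b, ha, hb, hab⟩ := Nat.dvd_mul.1 (orderOf_dvd_of_pow_eq_one hnp)
    rcases (Nat.dvd_prime hnP).1 ha with rfl | rfl <;> rcases (Nat.dvd_prime hp).1 hb with rfl | rfl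
    · rw [mul_one] at hab
      exact hne (e ▸ by rw [orderOf_eq_one_iff.1 hab.symm, one_pow])
    · rw [one_mul] at hab
      have h1 : (v * f) ^ b = 1 := by rw [hab]; exact pow_orderOf_eq_one _
      have hfb : f ^ b ∈ V := by
        rw [mul_pow_nm] at h1
        rw [eq_inv_of_mul_eq_one_right h1]
        exact inv_mem (nm_mem hf hv b)
      have hd : orderOf f ∣ b * b := orderOf_dvd_of_pow_eq_one (by rw [pow_mul, hV _ hfb])
      have h1' : n ∣ b * b := hfo ▸ hd
      exact hnep ((Nat.prime_dvd_prime_iff_eq hnP hp).1 ((hnP.dvd_mul.1 h1').elim id id))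
    · rw [mul_one] at hab
      refine hne (e ▸ ?_)
      conv_lhs => rw [hab]
      exact pow_orderOf_eq_one _
    · omega
  · obtain ⟨k, hk, hk'⟩ := (Nat.dvd_prime_pow Nat.prime_two).1
      (show orderOf (v * f) ∣ 2 ^ 3 from orderOf_dvd_of_pow_eq_one hnp)
    have : k ≠ 3 := by rintro rfl; omega
    refine hne (e ▸ ?_)
    exact orderOf_dvd_iff_pow_eq_one.1 (hk' ▸ Nat.pow_dvd_pow 2 (show k ≤ 2 by omega))

section Hyperplanes

variable {V B : Subgroup X}

/-- An abelian subgroup acting on `V`, with coprime orders. -/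
structure Acts (V B : Subgroup X) : Prop where
  commV : ∀ u ∈ V, ∀ v ∈ V, u * v = v * u
  commB : ∀ a ∈ B, ∀ b ∈ B, a * b = b * a
  norm : B ≤ normalizer (V : Set X)
  coprime : (Nat.card B).Coprime (Nat.card V)

theorem Acts.mem_conj (H : Acts V B) {b u : X} (hb : b ∈ B) (hu : u ∈ V) : b * u * b⁻¹ ∈ V :=
  (mem_normalizer_iff.1 (H.norm hb) u).1 hu

/-- Being centralized by a subgroup of coprime order passes from a power to the element. -/
theorem Acts.pow_mem_cancel (H : Acts V B) {K : Subgroup X} (hK : K ≤ B) {v : X} (hv : v ∈ V)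
    (h : v ^ Nat.card K ∈ centralizer (B : Set X)) : v ∈ centralizer (B : Set X) := by
  have hco : (Nat.card K).Coprime (Nat.card V) := H.coprime.coprime_dvd_left (card_dvd_of_le hK)
  refine mem_centralizer_iff.2 fun b hb => ?_
  set u := b * v * b⁻¹ with hu
  have hb' : b * v ^ Nat.card K * b⁻¹ = v ^ Nat.card K := by
    rw [mem_centralizer_iff.1 h b hb, mul_inv_cancel_right]
  have huv : (⟨u, H.mem_conj hb hv⟩ : V) ^ Nat.card K = (⟨v, hv⟩ : V) ^ Nat.card K :=
    Subtype.ext (by show u ^ Nat.card K = v ^ Nat.card K; rw [hu, conj_pow, hb'])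
  have := congrArg Subtype.val ((powCoprime hco.symm).injective huv)
  exact mul_inv_eq_iff_eq_mul.1 this

/-- Two supplementary subgroups: a product over one of the conjugates of an element centralized by the
other is centralized by both. -/
theorem Acts.exists_trace (H : Acts V B) {K : Subgroup X} (hK : K ≤ B) :
    ∃ N : V →* V, (∀ u : V, (∀ k ∈ K, k * (u : X) = (u : X) * k) → N u = u ^ Nat.card K) ∧
      ∀ (u : V) (L : Subgroup X), L ≤ B → B ≤ K ⊔ L → (u : X) ∈ centralizer (L : Set X) →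
        (N u : X) ∈ centralizer (B : Set X) := by
  classical
  letI : CommGroup V :=
    { (inferInstance : Group V) with mul_comm := fun a b => Subtype.ext (H.commV a a.2 b b.2) }
  letI : Fintype K := Fintype.ofFinite K
  let c : X → V → V := fun k u => if hk : k ∈ B then ⟨k * u * k⁻¹, H.mem_conj hk u.2⟩ else u
  have hc : ∀ {k : X} (u : V), k ∈ B → ((c k u : V) : X) = k * u * k⁻¹ := fun u hk => by
    simp [c, dif_pos hk]
  let cj : X → V →* V := fun k => MonoidHom.mk' (c k) fun u w => Subtype.ext (by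
    by_cases hk : k ∈ B
    · rw [hc _ hk, Subgroup.coe_mul, Subgroup.coe_mul, hc _ hk, hc _ hk]; group
    · simp [c, dif_neg hk])
  refine ⟨∏ k : K, cj k, fun u hu => ?_, fun u L hL hsup hu => ?_⟩
  · rw [MonoidHom.finsetProd_apply, Nat.card_eq_fintype_card, ← Finset.card_univ, ← Finset.prod_const]
    refine Finset.prod_congr rfl fun k _ => Subtype.ext ?_
    show ((c (k : X) u : V) : X) = u
    rw [hc u (hK k.2), hu k k.2, mul_inv_cancel_right]
  have hKc : ∀ k ∈ K, k * ((∏ k : K, cj k) u : X) = ((∏ k : K, cj k) u : X) * k := by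
    intro k₀ hk₀
    have : cj k₀ ((∏ k : K, cj k) u) = (∏ k : K, cj k) u := by
      rw [MonoidHom.finsetProd_apply, map_prod]
      refine Fintype.prod_equiv (Equiv.mulLeft ⟨k₀, hk₀⟩) _ _ fun k => Subtype.ext ?_
      show ((c k₀ (c (k : X) u) : V) : X) = ((c (k₀ * (k : X)) u : V) : X)
      rw [hc _ (hK hk₀), hc _ (hK k.2), hc _ (mul_mem (hK hk₀) (hK k.2))]
      group
    have h2 := congrArg Subtype.val this
    rw [show ((cj k₀ ((∏ k : K, cj k) u) : V) : X) = ((c k₀ ((∏ k : K, cj k) u) : V) : X) from rfl,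
      hc _ (hK hk₀)] at h2
    exact mul_inv_eq_iff_eq_mul.1 h2
  have hLc : ∀ l ∈ L, l * ((∏ k : K, cj k) u : X) = ((∏ k : K, cj k) u : X) * l := by
    intro l hl
    have hBl : ∀ k : K, ((cj k u : V) : X) = (k : X) * u * (k : X)⁻¹ := fun k => hc u (hK k.2)
    rw [MonoidHom.finsetProd_apply]
    refine Finset.prod_induction (fun k : K => cj k u) (fun w : V => l * (w : X) = (w : X) * l)
      (fun a b ha hb => ?_) (by simp) fun k _ => ?_
    · show l * ((a : X) * b) = a * b * l
      rw [← mul_assoc, ha, mul_assoc, hb, ← mul_assoc]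
    · show l * ((cj k u : V) : X) = ((cj k u : V) : X) * l
      rw [hBl]
      have h1 : l * (k : X) = k * l := H.commB l (hL hl) k (hK k.2)
      have h2 : l * (u : X) = u * l := mem_centralizer_iff.1 hu l hl
      have h3 : l * (k : X)⁻¹ = (k : X)⁻¹ * l := (show Commute l (k : X) from h1).inv_right
      calc l * ((k : X) * u * (k : X)⁻¹) = (l * k) * u * (k : X)⁻¹ := by group
        _ = (k : X) * (l * u) * (k : X)⁻¹ := by rw [h1]; group
        _ = (k : X) * u * (l * (k : X)⁻¹) := by rw [h2]; group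
        _ = (k : X) * u * (k : X)⁻¹ * l := by rw [h3]; group
  have : B ≤ centralizer ({((∏ k : K, cj k) u : X)} : Set X) := hsup.trans (sup_le
    (fun k hk => mem_centralizer_singleton_iff.2 (hKc k hk))
    (fun l hl => mem_centralizer_singleton_iff.2 (hLc l hl)))
  exact mem_centralizer_iff.2 fun b hb => mem_centralizer_singleton_iff.1 (this hb)

/-- `B` centralizes `V` once it centralizes what its hyperplanes centralize. -/
theorem Acts.le_centralizer (H : Acts V B) {q : ℕ} (hq : q.Prime) (hB : ∀ b ∈ B, b ^ q = 1)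
    (hcase : ∀ K : Subgroup X, K ≤ B → Nat.card B = q * Nat.card K → ∀ v ∈ V,
      v ∈ centralizer (K : Set X) → v ∈ centralizer (B : Set X)) : V ≤ centralizer (B : Set X) := by
  haveI : IsMulCommutative B := ⟨⟨fun a b => Subtype.ext (H.commB a a.2 b b.2)⟩⟩
  refine (Coprime.le_iSup_centralizer_cocyclic V H.norm H.coprime).trans (iSup₂_le fun K hK => ?_)
  obtain ⟨hKB, c, hc, hBc⟩ := hK
  intro v hv
  obtain ⟨hvV, hvK⟩ := mem_inf.1 hv
  by_cases hcK : c ∈ K
  · refine centralizer_le (show (B : Set X) ⊆ K from fun b hb => ?_) hvK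
    have hle : B ≤ K := by
      rw [← hBc]; exact sup_le le_rfl (zpowers_le.2 hcK)
    exact hle hb
  refine hcase K hKB ?_ v hvV hvK
  have hcq : orderOf c = q := by
    haveI := Fact.mk hq
    exact orderOf_eq_prime (hB c hc) fun e => hcK (e ▸ one_mem K)
  have hd : Disjoint K (zpowers c) := by
    rw [disjoint_iff]
    by_contra hne
    have hcard : Nat.card ↥(K ⊓ zpowers c) ∣ q := hcq ▸ Nat.card_zpowers c ▸ card_dvd_of_le inf_le_right
    rcases (Nat.dvd_prime hq).1 hcard with e | e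
    · exact hne (card_eq_one.1 e)
    · have : K ⊓ zpowers c = zpowers c := eq_of_le_of_card_ge inf_le_right (by rw [Nat.card_zpowers, hcq, e])
      exact hcK (inf_le_left (b := zpowers c) (this.ge (mem_zpowers c)))
  have hn : zpowers c ≤ normalizer (K : Set X) := zpowers_le.2 (by
    refine centralizer_le_normalizer _ (mem_centralizer_iff.2 fun k hk => ?_)
    exact H.commB k (hKB hk) c hc)
  rw [← hBc, Coprime.card_sup_of_disjoint hn hd, Nat.card_zpowers, hcq, mul_comm]

theorem sup_eq_of_ne {K L : Subgroup X} {q : ℕ} (hq : q.Prime) (hK : K ≤ B) (hL : L ≤ B)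
    (hKc : Nat.card B = q * Nat.card K) (hLc : Nat.card L = Nat.card K) (hne : L ≠ K) : B ≤ K ⊔ L := by
  have hle : K ⊔ L ≤ B := sup_le hK hL
  refine (eq_of_le_of_card_ge hle ?_).ge
  obtain ⟨j, hj⟩ := card_dvd_of_le (le_sup_left : K ≤ K ⊔ L)
  obtain ⟨i, hi⟩ := card_dvd_of_le hle
  have hK0 : 0 < Nat.card K := Nat.card_pos
  have hji : j * i = q := by
    refine Nat.eq_of_mul_eq_mul_left hK0 ?_
    rw [← mul_assoc, ← hj, ← hi, hKc, mul_comm]
  rcases (Nat.dvd_prime hq).1 (Dvd.intro i hji) with rfl | rfl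
  · exfalso
    refine hne (eq_of_le_of_card_ge ?_ hLc.ge)
    rw [eq_of_le_of_card_ge (le_sup_left : K ≤ K ⊔ L) (by rw [hj, mul_one])]
    exact le_sup_right
  · rw [hj, hKc, mul_comm]

theorem map_conj_pow_ne {f : X} {r : ℕ} (hr : r.Prime) (hfr : f ^ r = 1) {K : Subgroup X}
    (hne : K.map (MulAut.conj f).toMonoidHom ≠ K) {i : ℕ} (hi0 : 0 < i) (hir : i < r) :
    K.map (MulAut.conj (f ^ i)).toMonoidHom ≠ K := fun h => by
  refine hne ((mem_normalizer_iff_map_conj_eq).1 ?_)
  obtain ⟨j, hj⟩ := Nat.exists_mul_mod_eq_one_of_coprime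
    ((hr.coprime_iff_not_dvd.2 (Nat.not_dvd_of_pos_of_lt hi0 hir)).symm : i.Coprime r) hr.one_lt
  have hmem : f ^ i ∈ normalizer (K : Set X) := mem_normalizer_iff_map_conj_eq.2 h
  have := pow_mem hmem j
  rwa [← pow_mul, pow_eq_pow_mod (i * j) hfr, hj.2, pow_one] at this

theorem card_map_conj' (f : X) (K : Subgroup X) :
    Nat.card (K.map (MulAut.conj f).toMonoidHom) = Nat.card K :=
  card_map_of_injective (MulAut.conj f).injective

theorem map_conj_le {f : X} {K : Subgroup X} (hf : f ∈ normalizer (B : Set X)) (hK : K ≤ B) :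
    K.map (MulAut.conj f).toMonoidHom ≤ B := by
  rintro _ ⟨k, hk, rfl⟩
  exact (mem_normalizer_iff.1 hf k).1 (hK hk)

theorem mem_centralizer_map_conj {f v : X} {K : Subgroup X} (hv : v ∈ centralizer (K : Set X)) :
    f * v * f⁻¹ ∈ centralizer ((K.map (MulAut.conj f).toMonoidHom : Subgroup X) : Set X) := by
  refine mem_centralizer_iff.2 ?_
  rintro _ ⟨k, hk, rfl⟩
  show f * k * f⁻¹ * (f * v * f⁻¹) = f * v * f⁻¹ * (f * k * f⁻¹)
  calc f * k * f⁻¹ * (f * v * f⁻¹) = f * (k * v) * f⁻¹ := by group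
    _ = f * (v * k) * f⁻¹ := by rw [mem_centralizer_iff.1 hv k hk]
    _ = f * v * f⁻¹ * (f * k * f⁻¹) := by group

/-- An element of prime order moving every hyperplane, with vanishing norm. -/
theorem Acts.le_centralizer_of_prime (H : Acts V B) {q r : ℕ} (hq : q.Prime) (hr : r.Prime)
    (hB : ∀ b ∈ B, b ^ q = 1) (hco : r.Coprime (q - 1)) {f : X} (hfr : f ^ r = 1)
    (hfV : f ∈ normalizer (V : Set X)) (hfB : f ∈ normalizer (B : Set X))
    (hfix : ∀ b ∈ B, f * b * f⁻¹ = b → b = 1) (hnm : ∀ v ∈ V, nm f v r = 1) :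
    V ≤ centralizer (B : Set X) := by
  refine H.le_centralizer hq hB fun K hK hKc v hv hvK => ?_
  have hne : K.map (MulAut.conj f).toMonoidHom ≠ K := by
    intro hfix'
    have hK1 : (K.subgroupOf B).index = q := by
      have h1 := (K.subgroupOf B).card_mul_index
      rw [Nat.card_congr (subgroupOfEquivOfLe hK).toEquiv, hKc, mul_comm q] at h1
      exact Nat.eq_of_mul_eq_mul_left Nat.card_pos h1
    haveI : IsMulCommutative B := ⟨⟨fun a b => Subtype.ext (H.commB a a.2 b b.2)⟩⟩
    haveI : (K.subgroupOf B).Normal := inferInstance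
    let σ : B →* B :=
      { toFun := fun b => ⟨f * b * f⁻¹, (mem_normalizer_iff.1 hfB b).1 b.2⟩
        map_one' := Subtype.ext (by simp)
        map_mul' := fun a b => Subtype.ext (by simp) }
    let π := QuotientGroup.mk' (K.subgroupOf B)
    have hσK : K.subgroupOf B ≤ (π.comp σ).ker := fun b hb => (QuotientGroup.eq_one_iff _).2 (by
      show f * (b : X) * f⁻¹ ∈ K
      rw [← hfix']; exact ⟨b, hb, rfl⟩)
    let τ := QuotientGroup.lift (K.subgroupOf B) (π.comp σ) hσK
    haveI : IsCyclic (↥B ⧸ K.subgroupOf B) := by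
      haveI := Fact.mk hq
      exact isCyclic_of_prime_card (p := q) (by rw [← index_eq_card, hK1])
    obtain ⟨k, hk⟩ := MonoidHom.map_cyclic τ
    have hiter : ∀ (j : ℕ) (b : B), ((σ^[j] b : B) : X) = f ^ j * b * (f ^ j)⁻¹ := by
      intro j b
      induction j with
      | zero => simp
      | succ j ih => rw [Function.iterate_succ_apply', pow_succ']; show f * _ * f⁻¹ = _; rw [ih]; group
    have hpow : ∀ (j : ℕ) (x : ↥B ⧸ K.subgroupOf B), τ^[j] x = x ^ (k ^ j) := by
      intro j x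
      induction j with
      | zero => simp
      | succ j ih => rw [Function.iterate_succ_apply', hk, ih, ← zpow_mul, pow_succ]
    have hkr : ∀ x : ↥B ⧸ K.subgroupOf B, x ^ (k ^ r - 1) = 1 := fun x => by
      obtain ⟨b, rfl⟩ := QuotientGroup.mk'_surjective _ x
      have h1 : ∀ j, τ^[j] (π b) = π (σ^[j] b) := fun j => by
        induction j with
        | zero => rfl
        | succ j ih => rw [Function.iterate_succ_apply', Function.iterate_succ_apply', ih]; rfl
      have h2 := h1 r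
      rw [hpow, show σ^[r] b = b from Subtype.ext (by rw [hiter, hfr, one_mul, inv_one, mul_one])] at h2
      rw [zpow_sub_one, h2, mul_inv_cancel]
    haveI := Fact.mk hq
    obtain ⟨g, hg⟩ := IsCyclic.exists_generator (α := ↥B ⧸ K.subgroupOf B)
    have hgo : orderOf g = q := by
      rw [orderOf_eq_card_of_forall_mem_zpowers hg, ← index_eq_card, hK1]
    have hkmod : ((k : ZMod q)) ^ r = 1 := by
      have h1 : (q : ℤ) ∣ k ^ r - 1 := hgo ▸ orderOf_dvd_iff_zpow_eq_one.2 (hkr g)
      have h2 := (ZMod.intCast_zmod_eq_zero_iff_dvd _ _).2 h1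
      push_cast at h2
      exact sub_eq_zero.1 h2
    have hk1 : ((k : ZMod q)) = 1 := by
      have hk0 : (k : ZMod q) ≠ 0 := fun e => by rw [e, zero_pow hr.ne_zero] at hkmod; exact zero_ne_one hkmod
      have h1 := pow_gcd_eq_one.2 ⟨hkmod, ZMod.pow_card_sub_one_eq_one hk0⟩
      rwa [show r.gcd (q - 1) = 1 from hco, pow_one] at h1
    have hτ : ∀ b : B, σ b * b⁻¹ ∈ K.subgroupOf B := fun b => by
      refine (QuotientGroup.eq_one_iff _).1 ?_
      show π (σ b * b⁻¹) = 1
      rw [map_mul, map_inv, show π (σ b) = τ (π b) from rfl, hk]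
      obtain ⟨j, hj⟩ := mem_zpowers_iff.1 (hg (π b))
      have hd : (q : ℤ) ∣ k - 1 := (ZMod.intCast_zmod_eq_zero_iff_dvd _ _).1 (by push_cast; rw [hk1, sub_self])
      rw [← hj, ← zpow_mul, ← zpow_neg, ← zpow_add, ← orderOf_dvd_iff_zpow_eq_one, hgo]
      exact dvd_trans hd ⟨j, by ring⟩
    have hinj : Function.Injective fun b : B => σ b * b⁻¹ := by
      intro a b hab
      have h1 : f * a * f⁻¹ * (a : X)⁻¹ = f * b * f⁻¹ * (b : X)⁻¹ := congrArg Subtype.val hab
      have h2 := hfix ((b : X)⁻¹ * a) (mul_mem (inv_mem b.2) a.2) (by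
        calc f * ((b : X)⁻¹ * a) * f⁻¹ = (f * b * f⁻¹)⁻¹ * (f * a * f⁻¹ * (a : X)⁻¹) * a := by group
          _ = (f * b * f⁻¹)⁻¹ * (f * b * f⁻¹ * (b : X)⁻¹) * a := by rw [h1]
          _ = (b : X)⁻¹ * a := by group)
      exact Subtype.ext (inv_mul_eq_one.1 h2).symm
    have hsurj := Finite.surjective_of_injective hinj
    have htop : K.subgroupOf B = ⊤ := by
      refine eq_top_iff.2 fun b _ => ?_
      obtain ⟨a, ha⟩ := hsurj b
      exact ha ▸ hτ a
    rw [htop, index_top] at hK1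
    exact hq.ne_one hK1.symm
  obtain ⟨N, hN1, hN2⟩ := H.exists_trace hK
  have key : ∀ i, 1 ≤ i → i ≤ r →
      (N ⟨nm f v i, nm_mem hfV hv i⟩ : X) * (v ^ Nat.card K)⁻¹ ∈ centralizer (B : Set X) := by
    intro i hi1 hir
    induction i, hi1 using Nat.le_induction with
    | base =>
      have e : (⟨nm f v 1, nm_mem hfV hv 1⟩ : V) = ⟨v, hv⟩ := Subtype.ext (by simp [nm])
      rw [e, hN1 _ fun k hk => mem_centralizer_iff.1 hvK k hk]
      simp
    | succ i hi1 ih =>
      have e : (⟨nm f v (i + 1), nm_mem hfV hv (i + 1)⟩ : V) =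
          ⟨nm f v i, nm_mem hfV hv i⟩ * ⟨f ^ i * v * (f ^ i)⁻¹, pow_mem_normalizer hfV hv i⟩ := rfl
      have hin := hN2 ⟨f ^ i * v * (f ^ i)⁻¹, pow_mem_normalizer hfV hv i⟩
        (K.map (MulAut.conj (f ^ i)).toMonoidHom) (map_conj_le (pow_mem hfB i) hK)
        (sup_eq_of_ne hq hK (map_conj_le (pow_mem hfB i) hK) hKc (card_map_conj' _ _)
          (map_conj_pow_ne hr hfr hne hi1 (by omega)))
        (mem_centralizer_map_conj hvK)
      have hh := mul_mem (ih (by omega)) hin
      rw [e, map_mul, Subgroup.coe_mul]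
      have hc := H.commV _ (inv_mem (pow_mem hv (Nat.card K))) _ (N ⟨f ^ i * v * (f ^ i)⁻¹, pow_mem_normalizer hfV hv i⟩).2
      rwa [mul_assoc, hc, ← mul_assoc] at hh
  have h1 := key r hr.one_lt.le le_rfl
  rw [show (⟨nm f v r, nm_mem hfV hv r⟩ : V) = 1 from Subtype.ext (hnm v hv), map_one, Subgroup.coe_one,
    one_mul, inv_mem_iff] at h1
  exact H.pow_mem_cancel hK hv h1

/-- An element of order four whose square inverts an elementary 3-group and which moves every hyperplane. -/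
theorem Acts.le_centralizer_of_four (H : Acts V B) (hB : ∀ b ∈ B, b ^ 3 = 1) {f : X} (hf4 : f ^ 4 = 1)
    (hfV : f ∈ normalizer (V : Set X)) (hfB : f ∈ normalizer (B : Set X))
    (hinv : ∀ b ∈ B, f ^ 2 * b * (f ^ 2)⁻¹ = b⁻¹) (hco3 : ¬ 3 ∣ Nat.card V)
    (hmove : ∀ K : Subgroup X, K ≤ B → Nat.card B = 3 * Nat.card K → K.map (MulAut.conj f).toMonoidHom ≠ K)
    (hnm : ∀ v ∈ V, nm f v 4 = 1) :
    V ≤ centralizer (B : Set X) := by
  refine H.le_centralizer Nat.prime_three hB fun K hK hKc v hv hvK => ?_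
  obtain ⟨N, hN1, hN2⟩ := H.exists_trace hK
  set L := K.map (MulAut.conj f).toMonoidHom with hL
  have hK2 : K.map (MulAut.conj (f ^ 2)).toMonoidHom = K := by
    refine eq_of_le_of_card_ge ?_ (card_map_conj' _ _).ge
    rintro _ ⟨k, hk, rfl⟩
    show f ^ 2 * k * (f ^ 2)⁻¹ ∈ K
    rw [hinv k (hK hk)]; exact inv_mem hk
  have hL3 : K.map (MulAut.conj (f ^ 3)).toMonoidHom = L := by
    rw [hL]
    conv_rhs => rw [← hK2, Subgroup.map_map]
    congr 1
    ext x
    simp [pow_succ, mul_assoc]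
  have hsup := sup_eq_of_ne Nat.prime_three hK (map_conj_le hfB hK) hKc (card_map_conj' _ _) (hmove K hK hKc)
  set C := centralizer (B : Set X)
  have hall : ∀ v ∈ V, v ∈ centralizer (K : Set X) → v * (f ^ 2 * v * (f ^ 2)⁻¹) ∈ C := by
    intro v hv hvK
    set v₁ : V := ⟨f * v * f⁻¹, (mem_normalizer_iff.1 hfV v).1 hv⟩
    set v₂ : V := ⟨f ^ 2 * v * (f ^ 2)⁻¹, pow_mem_normalizer hfV hv 2⟩
    set v₃ : V := ⟨f ^ 3 * v * (f ^ 3)⁻¹, pow_mem_normalizer hfV hv 3⟩
    have hv2K : (v₂ : X) ∈ centralizer (K : Set X) := by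
      have := mem_centralizer_map_conj (f := f ^ 2) hvK
      rwa [hK2] at this
    have hN : (N (⟨v, hv⟩ * v₁ * v₂ * v₃) : X) = 1 := by
      have e : (⟨v, hv⟩ * v₁ * v₂ * v₃ : V) = 1 := Subtype.ext (by
        have := hnm v hv
        simpa [nm, v₁, v₂, v₃, mul_assoc] using this)
      rw [e, map_one, Subgroup.coe_one]
    have hc1 := hN2 v₁ L (map_conj_le hfB hK) hsup (mem_centralizer_map_conj hvK)
    have hc3 := hN2 v₃ L (map_conj_le hfB hK) hsup (by
      have := mem_centralizer_map_conj (f := f ^ 3) hvK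
      rwa [hL3] at this)
    have hpow : ((v : X) * (v₂ : X)) ^ Nat.card K ∈ C := by
      rw [map_mul, map_mul, map_mul, hN1 _ fun k hk => mem_centralizer_iff.1 hvK k hk,
        hN1 _ fun k hk => mem_centralizer_iff.1 hv2K k hk] at hN
      simp only [Subgroup.coe_mul, SubmonoidClass.coe_pow] at hN
      have hcm := H.commV _ (N v₁).2 _ (pow_mem v₂.2 (Nat.card K))
      rw [mul_assoc (v ^ Nat.card K), hcm, ← mul_assoc, mul_assoc] at hN
      rw [(show Commute (v : X) (v₂ : X) from H.commV _ hv _ v₂.2).mul_pow, eq_inv_of_mul_eq_one_left hN]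
      exact inv_mem (mul_mem hc1 hc3)
    exact H.pow_mem_cancel hK (mul_mem hv v₂.2) hpow
  set v₂ := f ^ 2 * v * (f ^ 2)⁻¹ with hv₂
  have hv₂V : v₂ ∈ V := pow_mem_normalizer hfV hv 2
  have hw := hall v hv hvK
  refine mem_centralizer_iff.2 fun a ha => ?_
  set u := a * v * a⁻¹ with hu
  have huV : u ∈ V := H.mem_conj ha hv
  have huK : u ∈ centralizer (K : Set X) := mem_centralizer_iff.2 fun k hk => by
    have h1 := mem_centralizer_iff.1 hvK k hk
    have h3 := H.commB k (hK hk) a ha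
    have h4 : k * a⁻¹ = a⁻¹ * k := (show Commute k a from h3).inv_right
    calc k * (a * v * a⁻¹) = (k * a) * v * a⁻¹ := by group
      _ = a * (k * v) * a⁻¹ := by rw [h3]; group
      _ = a * v * (k * a⁻¹) := by rw [h1]; group
      _ = a * v * a⁻¹ * k := by rw [h4]; group
  have hwu := hall u huV huK
  have e2 : f ^ 2 * u * (f ^ 2)⁻¹ = a⁻¹ * v₂ * a := by
    rw [← hinv a ha, hu, hv₂]
    have : a = (f ^ 2 * a * (f ^ 2)⁻¹)⁻¹ := by rw [hinv a ha, inv_inv]
    nth_rewrite 4 [this]
    group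
  rw [e2] at hwu
  have hwc : a⁻¹ * v * a * (a⁻¹ * v₂ * a) = v * v₂ := by
    calc a⁻¹ * v * a * (a⁻¹ * v₂ * a) = a⁻¹ * ((v * v₂) * a) := by group
      _ = a⁻¹ * (a * (v * v₂)) := by rw [mem_centralizer_iff.1 hw a ha]
      _ = v * v₂ := by group
  set x := a⁻¹ * v * a with hx
  set y := a⁻¹ * v₂ * a with hy
  have hxV : x ∈ V := by simpa [hx] using H.mem_conj (inv_mem ha) hv
  have hyV : y ∈ V := by simpa [hy] using H.mem_conj (inv_mem ha) hv₂V
  have hux : u * x⁻¹ ∈ C := by
    have e : u * x⁻¹ = (u * y) * (v * v₂)⁻¹ := by rw [← hwc]; group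
    exact e ▸ mul_mem hwu (inv_mem hw)
  set c := u * x⁻¹ with hcdef
  have hcV : c ∈ V := mul_mem huV (inv_mem hxV)
  have hca : Commute a c := mem_centralizer_iff.1 hux a ha
  have hux' : u = c * x := by rw [hcdef]; group
  have hfix : a * a * v * (a * a)⁻¹ = c * v := by
    calc a * a * v * (a * a)⁻¹ = a * u * a⁻¹ := by rw [hu]; group
      _ = a * c * x * a⁻¹ := by rw [hux']; group
      _ = c * (a * x * a⁻¹) := by rw [hca.eq]; group
      _ = c * v := by rw [hx]; group
  have h3a : a * a * a = 1 := by have := hB a ha; rwa [pow_succ, pow_two] at this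
  have haa : a⁻¹ = a * a := (eq_inv_of_mul_eq_one_left h3a).symm
  rw [← haa, inv_inv] at hfix
  have hc3' : c * c * c = 1 := by
    have hac : a⁻¹ * c * a = c := by rw [mul_assoc, ← hca.eq, inv_mul_cancel_left]
    have e1 : a⁻¹ * (c * v) * a = c * c * v := by
      calc a⁻¹ * (c * v) * a = (a⁻¹ * c * a) * (a⁻¹ * v * a) := by group
        _ = c * (c * v) := by rw [hac, hfix]
        _ = c * c * v := by group
    have e2' : a⁻¹ * (c * c * v) * a = c * c * c * v := by
      calc a⁻¹ * (c * c * v) * a = (a⁻¹ * c * a) * (a⁻¹ * c * a) * (a⁻¹ * v * a) := by group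
        _ = c * c * (c * v) := by rw [hac, hfix]
        _ = c * c * c * v := by group
    have e3 : (a * a * a)⁻¹ * v * (a * a * a) = c * c * c * v := by
      rw [← e2', ← e1, ← hfix]; group
    rw [h3a] at e3
    simpa using e3
  have hc1' : c = 1 := by
    have h : c ^ 3 = 1 := by rw [pow_succ, pow_two, hc3']
    rcases (Nat.dvd_prime Nat.prime_three).1 (orderOf_dvd_of_pow_eq_one h) with e | e
    · exact orderOf_eq_one_iff.1 e
    · exact absurd (e ▸ V.orderOf_dvd_natCard hcV) hco3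
  rw [hc1', one_mul] at hfix
  calc a * v = a * (a⁻¹ * v * a) := by rw [hfix]
    _ = v * a := by group

end Hyperplanes

end Cfsg.Lib.Recog.OrderSix
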