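import Cfsg.Agent.Lib.Recog.OrderSix.OddCore
import Cfsg.Agent.Lib.Recog.OrderSix.Elementary
import Cfsg.Agent.Lib.Recog.OrderSix.SolvableCore

/-!
# Element orders at most six with an element of order six: the non-solvable groups

The solvable radical is an elementary abelian 2-group with quotient `A₅`, or trivial with the group `S₅`
or `S₆`.
-/

set_option autoImplicit false
set_option linter.unusedSectionVars false
set_option linter.style.haveILetI false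

namespace Cfsg.Lib.Recog.OrderSix

open Subgroup Cfsg.Lib Equiv

universe u

/-- An element of order five inverted by an involution. -/
def HasTen (Y : Type*) [Group Y] : Prop :=
  ∃ f t : Y, f ^ 5 = 1 ∧ f ≠ 1 ∧ t * t = 1 ∧ t * f * t⁻¹ = f⁻¹

/-- An element of order five squared by conjugation. -/
def HasTwenty (Y : Type*) [Group Y] : Prop :=
  ∃ f s : Y, f ^ 5 = 1 ∧ f ≠ 1 ∧ s ^ 4 = 1 ∧ s * f * s⁻¹ = f ^ 2

/-- An elementary group of order nine rotated by an element of order four. -/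
def HasThirtySix (Y : Type*) [Group Y] : Prop :=
  ∃ a b s : Y, a ^ 3 = 1 ∧ b ^ 3 = 1 ∧ a * b = b * a ∧
    Function.Injective (fun p : Fin 3 × Fin 3 => a ^ (p.1 : ℕ) * b ^ (p.2 : ℕ)) ∧
    s ^ 4 = 1 ∧ s * a * s⁻¹ = b ∧ s * b * s⁻¹ = a⁻¹

theorem HasTen.of_injective {Y Z : Type*} [Group Y] [Group Z] (φ : Y →* Z) (hφ : Function.Injective φ)
    (h : HasTen Y) : HasTen Z := by
  obtain ⟨f, t, h1, h2, h3, h4⟩ := h
  exact ⟨φ f, φ t, by rw [← map_pow, h1, map_one], fun e => h2 (hφ (e.trans (map_one φ).symm)),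
    by rw [← map_mul, h3, map_one], by rw [← map_inv, ← map_mul, ← map_mul, h4, map_inv]⟩

theorem HasTwenty.of_injective {Y Z : Type*} [Group Y] [Group Z] (φ : Y →* Z) (hφ : Function.Injective φ)
    (h : HasTwenty Y) : HasTwenty Z := by
  obtain ⟨f, t, h1, h2, h3, h4⟩ := h
  exact ⟨φ f, φ t, by rw [← map_pow, h1, map_one], fun e => h2 (hφ (e.trans (map_one φ).symm)),
    by rw [← map_pow, h3, map_one], by rw [← map_inv, ← map_mul, ← map_mul, h4, map_pow]⟩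

theorem HasThirtySix.of_injective {Y Z : Type*} [Group Y] [Group Z] (φ : Y →* Z) (hφ : Function.Injective φ)
    (h : HasThirtySix Y) : HasThirtySix Z := by
  obtain ⟨a, b, s, h1, h2, h3, h4, h5, h6, h7⟩ := h
  refine ⟨φ a, φ b, φ s, by rw [← map_pow, h1, map_one], by rw [← map_pow, h2, map_one],
    by rw [← map_mul, h3, map_mul], fun p q e => h4 (hφ ?_), by rw [← map_pow, h5, map_one],
    by rw [← map_inv, ← map_mul, ← map_mul, h6], by rw [← map_inv, ← map_mul, ← map_mul, h7, map_inv]⟩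
  simpa [map_mul, map_pow] using e

theorem hasTen_alt_five : HasTen ↥(alternatingGroup (Fin 5)) := by
  refine ⟨⟨swap 0 1 * swap 1 2 * swap 2 3 * swap 3 4, ?_⟩, ⟨swap 1 4 * swap 2 3, ?_⟩, ?_⟩
  iterate 2 (rw [Perm.mem_alternatingGroup]; decide +kernel)
  decide +kernel

theorem hasTen_alt_six : HasTen ↥(alternatingGroup (Fin 6)) := by
  refine ⟨⟨swap 0 1 * swap 1 2 * swap 2 3 * swap 3 4, ?_⟩, ⟨swap 1 4 * swap 2 3, ?_⟩, ?_⟩
  iterate 2 (rw [Perm.mem_alternatingGroup]; decide +kernel)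
  decide +kernel

theorem hasTwenty_sym_five : HasTwenty (Perm (Fin 5)) :=
  ⟨swap 0 1 * swap 1 2 * swap 2 3 * swap 3 4, swap 1 2 * swap 2 4 * swap 4 3, by decide +kernel, by decide +kernel,
    by decide +kernel, by decide +kernel⟩

theorem hasTwenty_sym_six : HasTwenty (Perm (Fin 6)) :=
  ⟨swap 0 1 * swap 1 2 * swap 2 3 * swap 3 4, swap 1 2 * swap 2 4 * swap 4 3, by decide +kernel, by decide +kernel,
    by decide +kernel, by decide +kernel⟩

theorem hasThirtySix_alt_six : HasThirtySix ↥(alternatingGroup (Fin 6)) := by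
  refine ⟨⟨swap 0 1 * swap 1 2, ?_⟩, ⟨swap 3 4 * swap 4 5, ?_⟩,
    ⟨swap 0 3 * (swap 1 4 * swap 4 2 * swap 2 5), ?_⟩, ?_⟩
  iterate 3 (rw [Perm.mem_alternatingGroup]; decide +kernel)
  decide +kernel

theorem IsAlmostAlt.hasTen {Y : Type*} [Group Y] (h : IsAlmostAlt Y) : HasTen Y := by
  rcases h with ⟨⟨e⟩⟩ | ⟨⟨e⟩⟩ | ⟨⟨e⟩⟩ | ⟨⟨e⟩⟩
  · exact hasTen_alt_five.of_injective e.symm.toMonoidHom e.symm.injective
  · exact hasTen_alt_six.of_injective e.symm.toMonoidHom e.symm.injective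
  · exact hasTen_alt_five.of_injective (e.symm.toMonoidHom.comp (alternatingGroup (Fin 5)).subtype)
      (e.symm.injective.comp (alternatingGroup (Fin 5)).subtype_injective)
  · exact hasTen_alt_six.of_injective (e.symm.toMonoidHom.comp (alternatingGroup (Fin 6)).subtype)
      (e.symm.injective.comp (alternatingGroup (Fin 6)).subtype_injective)

theorem alt_six_no_six : ∀ x : Perm (Fin 6), Perm.sign x = 1 → x ^ 6 = 1 → x ^ 2 = 1 ∨ x ^ 3 = 1 := by
  decide +kernel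

variable {X : Type u} [Group X] [Finite X]

/-- The 2-core is the radical, with almost simple quotient. -/
theorem OrdSix.two_core_radical (h : OrdSix X) (hS : ∀ n : ℕ, Small.{u} n) (hns : ¬ Group.IsSolvable X) :
    (∀ N : Subgroup X, N.Normal → Group.IsSolvable N → N ≤ Cfsg.pCore 2 X) ∧
      IsAlmostAlt (X ⧸ Cfsg.pCore 2 X) := by
  classical
  haveI : Fact (Nat.Prime 2) := ⟨Nat.prime_two⟩
  set R := Cfsg.pCore 2 X
  have hRp : IsPGroup 2 R := Core.pCore_isPGroup 2 X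
  haveI := hRp.isNilpotent
  have hQns := not_solvable_quotient hns R inferInstance
  have hrad : ∀ N : Subgroup (X ⧸ R), N.Normal → Group.IsSolvable N → N = ⊥ := by
    intro N hN hNs
    by_contra hne
    obtain ⟨W, hWn, hWN, hWne, hWmin⟩ := Cfsg.Lib.Group.MinFactor.exists_minimal_normal hN hne
    haveI := hWn
    obtain ⟨-, q, hqp, -, hWpg⟩ := Core.minimal_solvable_elementary (M := W) ⟨hWn, hWne, fun K hK hKW => by
      by_cases hb : K = ⊥
      exacts [Or.inl hb, Or.inr (hWmin K hK hKW hb)]⟩ (isSolvable_of_le hWN hNs)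
    haveI := Fact.mk hqp
    by_cases hq2 : q = 2
    · subst hq2
      exact hWne (eq_bot_of_two_group hRp (fun K hK hK2 => haveI := hK; Core.le_pCore hK2) hWn hWpg)
    · obtain ⟨i, hi⟩ := hWpg.exists_card_eq
      exact hWne ((h.quotient R).odd_normal_eq_bot (hS _) hQns hWn (hi ▸ (hqp.odd_of_ne_two hq2).pow))
  refine ⟨fun N hN hNs => ?_, almost_simple (h.quotient R) (hS _) hQns hrad⟩
  haveI := hNs
  have hb := hrad (N.map (QuotientGroup.mk' R)) (hN.map _ (QuotientGroup.mk'_surjective R))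
    (Group.isSolvable_of_surjective ((QuotientGroup.mk' R).subgroupMap_surjective N))
  rwa [Subgroup.map_eq_bot_iff, QuotientGroup.ker_mk'] at hb

/-- A nontrivial 2-core contains its centralizer. -/
theorem OrdSix.centralizer_le_two_core (h : OrdSix X) (hS : ∀ n : ℕ, Small.{u} n) (hns : ¬ Group.IsSolvable X)
    (hne : Cfsg.pCore 2 X ≠ ⊥) : centralizer (Cfsg.pCore 2 X : Set X) ≤ Cfsg.pCore 2 X := by
  classical
  haveI : Fact (Nat.Prime 2) := ⟨Nat.prime_two⟩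
  haveI : Fact (Nat.Prime 5) := ⟨by norm_num⟩
  refine (h.two_core_radical hS hns).1 _ inferInstance ?_
  by_contra hC
  obtain ⟨⟨c, hc⟩, hc5⟩ := exists_prime_orderOf_dvd_card' 5 ((h.subgroup _).five_dvd hC)
  rw [Subgroup.orderOf_mk] at hc5
  obtain ⟨r, hr, hr2⟩ := exists_orderOf_of_ne_bot (Core.pCore_isPGroup 2 X) hne
  have hcr : Commute c r := (mem_centralizer_iff.1 hc r hr).symm
  have := h.coprime_commute hcr (by rw [hc5, hr2]; norm_num)
  rw [hc5, hr2] at this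
  omega

theorem mem_normalizer_zpowers {Y : Type*} [Group Y] [Finite Y] {s f : Y} (h : s * f * s⁻¹ ∈ zpowers f) :
    s ∈ normalizer (zpowers f : Set Y) := by
  rw [mem_normalizer_iff_map_conj_eq]
  have hle : (zpowers f).map (MulAut.conj s).toMonoidHom ≤ zpowers f := by
    rw [MonoidHom.map_zpowers]
    exact zpowers_le.2 h
  exact eq_of_le_of_card_ge hle
    (card_map_of_injective (f := (MulAut.conj s).toMonoidHom) (MulAut.conj s).injective).ge

/-- An element of order five of a section, and its normalizer, lift. -/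
theorem OrdSix.lift_five (h : OrdSix X) {R : Subgroup X} [R.Normal] (hR : IsPGroup 2 R) {f₀ s₀ : X ⧸ R} {m : ℕ}
    (hf : f₀ ^ 5 = 1) (hf1 : f₀ ≠ 1) (hs : s₀ * f₀ * s₀⁻¹ = f₀ ^ m) :
    ∃ f n : X, ∃ k ∈ zpowers f₀, orderOf f = 5 ∧ QuotientGroup.mk' R f = f₀ ∧ n * f * n⁻¹ = f ^ m ∧
      QuotientGroup.mk' R n = k * s₀ := by
  classical
  haveI : Fact (Nat.Prime 2) := ⟨Nat.prime_two⟩
  haveI : Fact (Nat.Prime 5) := ⟨by norm_num⟩
  have hR5 : ¬ 5 ∣ Nat.card R := fun hd => by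
    obtain ⟨j, hj⟩ := hR.exists_card_eq
    have h52 : 5 ∣ 2 := (by norm_num : Nat.Prime 5).dvd_of_dvd_pow (hj ▸ hd)
    norm_num at h52
  have ho : orderOf f₀ = 5 := orderOf_eq_prime hf hf1
  obtain ⟨T, -, -, hTR, hTsurj, hTn⟩ := exists_section_lift hR5
    (IsPGroup.of_card (p := 5) (n := 1) (by rw [Nat.card_zpowers, ho, pow_one]) : IsPGroup 5 (zpowers f₀))
  obtain ⟨x, hx⟩ := QuotientGroup.mk'_surjective R s₀
  obtain ⟨n, hn, k, hk, hnk⟩ := hTn x (by
    rw [hx]; exact mem_normalizer_zpowers (hs ▸ pow_mem (mem_zpowers f₀) m))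
  rw [hx] at hnk
  obtain ⟨f, hfT, hff⟩ := hTsurj f₀ (mem_zpowers f₀)
  have hf5 : f ^ 5 = 1 := hTR _ (pow_mem hfT 5) (by rw [map_pow, hff, hf])
  refine ⟨f, n, k, hk, orderOf_eq_prime hf5 (fun e => hf1 (by rw [← hff, e, map_one])), hff, ?_, hnk⟩
  have h1 : n * f * n⁻¹ ∈ T := (mem_normalizer_iff.1 hn f).1 hfT
  refine inv_mul_eq_one.1 (hTR _ (mul_mem (inv_mem h1) (pow_mem hfT m)) ?_)
  rw [map_mul, map_inv, map_mul, map_mul, map_inv, map_pow, hff, hnk]
  have hkx : k * f₀ ^ m = f₀ ^ m * k := by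
    obtain ⟨i, rfl⟩ := hk
    exact (((Commute.refl f₀).zpow_left i).pow_right m).eq
  calc (k * s₀ * f₀ * (k * s₀)⁻¹)⁻¹ * f₀ ^ m = (k * (s₀ * f₀ * s₀⁻¹) * k⁻¹)⁻¹ * f₀ ^ m := by group
    _ = 1 := by rw [hs, hkx, mul_inv_cancel_right, inv_mul_cancel]

/-- The 2-core is elementary. -/
theorem OrdSix.two_core_elementary (h : OrdSix X) (hQ : HasTen (X ⧸ Cfsg.pCore 2 X)) :
    ∀ a ∈ Cfsg.pCore 2 X, a * a = 1 := by
  classical
  haveI : Fact (Nat.Prime 2) := ⟨Nat.prime_two⟩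
  set R := Cfsg.pCore 2 X
  have hRp : IsPGroup 2 R := Core.pCore_isPGroup 2 X
  obtain ⟨f₀, t₀, hf₀, hf1, ht₀, htf⟩ := hQ
  have hm : t₀ * f₀ * t₀⁻¹ = f₀ ^ 4 := by
    rw [htf]; exact inv_eq_of_mul_eq_one_right (by rw [← pow_succ', hf₀])
  obtain ⟨f, n, k, hk, hf, -, hnf, hnk⟩ := h.lift_five hRp hf₀ hf1 hm
  have hf5 : f ^ 5 = 1 := hf ▸ pow_orderOf_eq_one f
  have hinv : n * f * n⁻¹ = f⁻¹ := by
    rw [hnf]; exact eq_inv_of_mul_eq_one_left (by rw [← pow_succ, hf5])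
  have hnn : n * n = 1 := by
    have hR1 : n * n ∈ R := by
      rw [← QuotientGroup.eq_one_iff]
      show QuotientGroup.mk' R (n * n) = 1
      rw [map_mul, hnk]
      obtain ⟨i, rfl⟩ := hk
      calc f₀ ^ i * t₀ * (f₀ ^ i * t₀) = f₀ ^ i * (t₀ * f₀ ^ i * t₀⁻¹) * (t₀ * t₀) := by group
        _ = f₀ ^ i * (f₀⁻¹) ^ i * (t₀ * t₀) := by rw [← conj_zpow, htf]
        _ = 1 := by rw [inv_zpow, mul_inv_cancel, ht₀, mul_one]
    obtain ⟨j, hj⟩ := IsPGroup.iff_orderOf.1 hRp ⟨_, hR1⟩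
    rw [Subgroup.orderOf_mk] at hj
    have hfix : n * n * f * (n * n)⁻¹ = f := by
      calc n * n * f * (n * n)⁻¹ = n * (n * f * n⁻¹) * n⁻¹ := by group
        _ = n * f⁻¹ * n⁻¹ := by rw [hinv]
        _ = (n * f * n⁻¹)⁻¹ := by group
        _ = f := by rw [hinv, inv_inv]
    refine h.five_fixed hf (n := 4) (by norm_num) (h.two_pow_four hj) ?_
    exact mul_inv_eq_iff_eq_mul.2 (mul_inv_eq_iff_eq_mul.1 hfix).symm
  exact h.elementary_of_dihedral hRp hf hnn hinv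

theorem orderOf_four_of_forall {Y : Type*} [Group Y] [Finite Y] {n : Y} (h6 : orderOf n ≤ 6)
    (h : ∀ j, n ^ j = 1 → 4 ∣ j) : orderOf n = 4 := by
  obtain ⟨c, hc⟩ := h _ (pow_orderOf_eq_one n)
  have := orderOf_pos n
  omega

/-- With a nontrivial 2-core the quotient contains no Frobenius group of order twenty. -/
theorem OrdSix.no_twenty (h : OrdSix X) (hne : Cfsg.pCore 2 X ≠ ⊥) (hel : ∀ a ∈ Cfsg.pCore 2 X, a * a = 1)
    (hQ : HasTwenty (X ⧸ Cfsg.pCore 2 X)) : False := by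
  classical
  haveI : Fact (Nat.Prime 2) := ⟨Nat.prime_two⟩
  set R := Cfsg.pCore 2 X
  have hRp : IsPGroup 2 R := Core.pCore_isPGroup 2 X
  obtain ⟨f₀, s₀, hf₀, hf1, -, hsf⟩ := hQ
  obtain ⟨f, n, k, -, hf, -, hnf, -⟩ := h.lift_five hRp hf₀ hf1 hsf
  have hf5 : f ^ 5 = 1 := hf ▸ pow_orderOf_eq_one f
  have hn4 : orderOf n = 4 := orderOf_four_of_forall (h n) fun j hj => by
    have h1 := conj_iterate hnf j
    rw [hj, one_mul, inv_one, mul_one] at h1
    have h2 := modEq_of_pow_eq hf (a := 1) (b := 2 ^ j) (by rw [pow_one]; exact h1)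
    rw [← Nat.div_add_mod j 4, pow_add, pow_mul, Nat.mul_mod, Nat.pow_mod,
      show 2 ^ 4 % 5 = 1 by norm_num, one_pow, Nat.one_mod, one_mul, Nat.mod_mod] at h2
    have := Nat.mod_lt j (show 4 > 0 by norm_num)
    refine Nat.dvd_of_mod_eq_zero ?_
    interval_cases hr : j % 4 <;> first | rfl | (exfalso; norm_num at h2)
  obtain ⟨⟨v, hv⟩, hv1⟩ := Subgroup.ne_bot_iff_exists_ne_one.1 hne
  have hsq : ∀ u ∈ R, u ^ 2 = 1 := fun u hu => by rw [pow_two]; exact hel u hu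
  have hv5 : v ^ 5 = 1 := by
    refine pow_five_eq_one_of_norms (V := R) (fun a ha b hb => ?_) hf5 hnf
      (fun u hu => h.nm_eq_one Nat.prime_two hsq (normal_normalizes R f) hu hf
        (Or.inl ⟨by norm_num, by norm_num, by norm_num⟩)) hv fun i _ => ?_
    · calc a * b = (a * b)⁻¹ := (inv_eq_of_mul_eq_one_left (hel _ (mul_mem ha hb))).symm
        _ = b * a := by rw [mul_inv_rev, inv_eq_of_mul_eq_one_left (hel a ha), inv_eq_of_mul_eq_one_left (hel b hb)]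
    · exact h.nm_eq_one Nat.prime_two hsq (normal_normalizes R _) hv
        (by rw [show f ^ i * n * (f ^ i)⁻¹ = MulAut.conj (f ^ i) n from rfl, MulEquiv.orderOf_eq, hn4])
        (Or.inr ⟨rfl, rfl⟩)
  refine hv1 (Subtype.ext ?_)
  have := pow_gcd_eq_one.2 ⟨hv5, hsq v hv⟩
  rwa [show Nat.gcd 5 2 = 1 from rfl, pow_one] at this

/-- With a nontrivial self-centralizing 2-core the quotient contains no group `3² : 4`. -/
theorem OrdSix.no_thirty_six (h : OrdSix X) (hel : ∀ a ∈ Cfsg.pCore 2 X, a * a = 1)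
    (hself : centralizer (Cfsg.pCore 2 X : Set X) ≤ Cfsg.pCore 2 X)
    (hQ : HasThirtySix (X ⧸ Cfsg.pCore 2 X)) : False := by
  classical
  haveI : Fact (Nat.Prime 2) := ⟨Nat.prime_two⟩
  haveI : Fact (Nat.Prime 3) := ⟨Nat.prime_three⟩
  set R := Cfsg.pCore 2 X
  have hRp : IsPGroup 2 R := Core.pCore_isPGroup 2 X
  obtain ⟨a, b, s, ha, hb, hab, hinj, hs4, hsa, hsb⟩ := hQ
  have hR3 : ¬ 3 ∣ Nat.card R := fun hd => by
    obtain ⟨j, hj⟩ := hRp.exists_card_eq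
    have h32 : 3 ∣ 2 := Nat.prime_three.dvd_of_dvd_pow (hj ▸ hd)
    norm_num at h32
  have habc : Commute a b := hab
  let φ : Fin 3 × Fin 3 → X ⧸ R := fun p => a ^ (p.1 : ℕ) * b ^ (p.2 : ℕ)
  have hφm : ∀ i j : ℕ, a ^ i * b ^ j ∈ Set.range φ := fun i j =>
    ⟨(⟨i % 3, Nat.mod_lt _ (by norm_num)⟩, ⟨j % 3, Nat.mod_lt _ (by norm_num)⟩), by
      show a ^ (i % 3) * b ^ (j % 3) = a ^ i * b ^ j
      rw [← pow_eq_pow_mod i ha, ← pow_eq_pow_mod j hb]⟩
  let K : Subgroup (X ⧸ R) :=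
    { carrier := Set.range φ
      one_mem' := ⟨(0, 0), by simp [φ]⟩
      mul_mem' := by
        rintro _ _ ⟨p, rfl⟩ ⟨q, rfl⟩
        have : φ p * φ q = a ^ ((p.1 : ℕ) + q.1) * b ^ ((p.2 : ℕ) + q.2) := by
          simp only [φ, pow_add]
          rw [mul_assoc, ← mul_assoc (b ^ (p.2 : ℕ)), ← (habc.pow_pow _ _).eq]
          group
        rw [this]; exact hφm _ _
      inv_mem' := by
        rintro _ ⟨p, rfl⟩
        have : (φ p)⁻¹ = a ^ (2 * (p.1 : ℕ)) * b ^ (2 * (p.2 : ℕ)) := by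
          refine inv_eq_of_mul_eq_one_right ?_
          show a ^ (p.1 : ℕ) * b ^ (p.2 : ℕ) * (a ^ (2 * (p.1 : ℕ)) * b ^ (2 * (p.2 : ℕ))) = 1
          rw [mul_assoc, ← mul_assoc (b ^ (p.2 : ℕ)), ← (habc.pow_pow _ _).eq, mul_assoc, ← pow_add,
            ← mul_assoc, ← pow_add, show (p.1 : ℕ) + 2 * p.1 = 3 * p.1 by ring,
            show (p.2 : ℕ) + 2 * p.2 = 3 * p.2 by ring, pow_mul, pow_mul, ha, hb, one_pow, one_pow, one_mul]
        rw [this]; exact hφm _ _ }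
  have hKcard : Nat.card K = 3 ^ 2 := by
    show Nat.card (Set.range φ) = 3 ^ 2
    rw [Nat.card_congr (Equiv.ofInjective φ hinj).symm]
    simp [Nat.card_eq_fintype_card]
  have hKc : ∀ x ∈ K, ∀ y ∈ K, x * y = y * x := by
    rintro _ ⟨p, rfl⟩ _ ⟨q, rfl⟩
    exact ((((Commute.refl a).pow_pow _ _).mul_right (habc.pow_pow _ _)).mul_left
      ((habc.symm.pow_pow _ _).mul_right ((Commute.refl b).pow_pow _ _))).eq
  have hK3 : ∀ x ∈ K, x ^ 3 = 1 := by
    rintro _ ⟨p, rfl⟩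
    show (a ^ (p.1 : ℕ) * b ^ (p.2 : ℕ)) ^ 3 = 1
    rw [(habc.pow_pow _ _).mul_pow, ← pow_mul, ← pow_mul, mul_comm, pow_mul, ha, one_pow, one_mul, mul_comm, pow_mul,
      hb, one_pow]
  have haK : a ∈ K := by
    obtain ⟨p, hp⟩ := hφm 1 0
    exact ⟨p, by simpa using hp⟩
  have hbK : b ∈ K := by
    obtain ⟨p, hp⟩ := hφm 0 1
    exact ⟨p, by simpa using hp⟩
  -- conjugation by `s` on `K`
  have hconjK : ∀ x ∈ K, s * x * s⁻¹ ∈ K := by
    rintro _ ⟨p, rfl⟩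
    show s * (a ^ (p.1 : ℕ) * b ^ (p.2 : ℕ)) * s⁻¹ ∈ K
    rw [← conj_mul, ← conj_pow, ← conj_pow, hsa, hsb]
    exact mul_mem (pow_mem hbK _) (pow_mem (inv_mem haK) _)
  have hs2 : ∀ x ∈ K, s * (s * x * s⁻¹) * s⁻¹ = x⁻¹ := by
    rintro _ ⟨p, rfl⟩
    show s * (s * (a ^ (p.1 : ℕ) * b ^ (p.2 : ℕ)) * s⁻¹) * s⁻¹ = (a ^ (p.1 : ℕ) * b ^ (p.2 : ℕ))⁻¹
    have e1 : s * (a ^ (p.1 : ℕ) * b ^ (p.2 : ℕ)) * s⁻¹ = b ^ (p.1 : ℕ) * (a⁻¹) ^ (p.2 : ℕ) := by
      rw [← conj_mul, ← conj_pow, ← conj_pow, hsa, hsb]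
    rw [e1, ← conj_mul, ← conj_pow, ← conj_pow, hsb,
      show s * a⁻¹ * s⁻¹ = (s * a * s⁻¹)⁻¹ by group, hsa, mul_inv_rev, ← inv_pow, ← inv_pow,
      ((habc.inv_inv).pow_pow _ _).eq]
  obtain ⟨T, hTp, hTK, hTR, hTsurj, hTn⟩ := exists_section_lift hR3 (IsPGroup.of_card hKcard : IsPGroup 3 K)
  obtain ⟨x, hx⟩ := QuotientGroup.mk'_surjective R s
  set π := QuotientGroup.mk' R with hπ
  obtain ⟨n, hn, k, hk, hnk⟩ := hTn x (by
    rw [hx, mem_normalizer_iff_map_conj_eq]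
    refine eq_of_le_of_card_ge ?_ (card_map_of_injective (f := (MulAut.conj s).toMonoidHom) (MulAut.conj s).injective).ge
    rintro _ ⟨y, hy, rfl⟩
    exact hconjK y hy)
  rw [hx] at hnk
  have hconj : ∀ y ∈ K, π n * y * (π n)⁻¹ = s * y * s⁻¹ := fun y hy => by
    calc π n * y * (π n)⁻¹ = k * (s * y * s⁻¹) * k⁻¹ := by rw [hnk]; group
      _ = s * y * s⁻¹ := by rw [hKc k hk _ (hconjK y hy), mul_inv_cancel_right]
  have hn4 : orderOf n = 4 := by
    have hpow : ∀ j : ℕ, π n ^ j * a * (π n ^ j)⁻¹ = s ^ j * a * (s ^ j)⁻¹ ∧ s ^ j * a * (s ^ j)⁻¹ ∈ K := by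
      intro j
      induction j with
      | zero => simpa using haK
      | succ j ih =>
        have e : ∀ g : X ⧸ R, g ^ (j + 1) * a * (g ^ (j + 1))⁻¹ = g * (g ^ j * a * (g ^ j)⁻¹) * g⁻¹ := fun g => by
          rw [pow_succ']; group
        refine ⟨?_, e s ▸ hconjK _ ih.2⟩
        rw [e, e, ih.1, hconj _ ih.2]
    have hne : ∀ p q : Fin 3 × Fin 3, p ≠ q → φ p ≠ φ q := fun p q hpq e => hpq (hinj e)
    have h1 : b ≠ a := by simpa [φ] using hne (0, 1) (1, 0) (by decide)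
    have h2 : a⁻¹ ≠ a := by
      rw [show a⁻¹ = a ^ 2 from inv_eq_of_mul_eq_one_right (by rw [← pow_succ', ha])]
      simpa [φ] using hne (2, 0) (1, 0) (by decide)
    have h3 : b⁻¹ ≠ a := by
      rw [show b⁻¹ = b ^ 2 from inv_eq_of_mul_eq_one_right (by rw [← pow_succ', hb])]
      simpa [φ] using hne (0, 2) (1, 0) (by decide)
    refine orderOf_four_of_forall (h n) fun j hj => ?_
    have hh := (hpow j).1
    rw [← map_pow, hj, map_one, one_mul, inv_one, mul_one, pow_eq_pow_mod j hs4] at hh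
    have := Nat.mod_lt j (show 4 > 0 by norm_num)
    refine Nat.dvd_of_mod_eq_zero ?_
    interval_cases hr : j % 4
    · rfl
    · rw [pow_one, hsa] at hh; exact absurd hh.symm h1
    · rw [pow_two, show s * s * a * (s * s)⁻¹ = s * (s * a * s⁻¹) * s⁻¹ by group, hsa, hsb] at hh
      exact absurd hh.symm h2
    · rw [show s ^ 3 * a * (s ^ 3)⁻¹ = s * (s * (s * a * s⁻¹) * s⁻¹) * s⁻¹ by simp [pow_succ, mul_assoc],
        hsa, hsb, show s * a⁻¹ * s⁻¹ = (s * a * s⁻¹)⁻¹ by group, hsa] at hh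
      exact absurd hh.symm h3
  have hTc : ∀ u ∈ T, ∀ v ∈ T, u * v = v * u := fun u hu v hv => by
    refine inv_mul_eq_one.1 (hTR _ (mul_mem (inv_mem (mul_mem hu hv)) (mul_mem hv hu)) ?_)
    rw [map_mul, map_inv, map_mul, map_mul, hKc _ (hTK u hu) _ (hTK v hv), inv_mul_cancel]
  have hT3 : ∀ t ∈ T, t ^ 3 = 1 := fun t ht => hTR _ (pow_mem ht 3) (by rw [map_pow]; exact hK3 _ (hTK t ht))
  have hninv : ∀ t ∈ T, n ^ 2 * t * (n ^ 2)⁻¹ = t⁻¹ := by
    intro t ht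
    refine eq_inv_of_mul_eq_one_left (hTR _ (mul_mem ((mem_normalizer_iff.1 (pow_mem hn 2) t).1 ht) ht) ?_)
    have hk' := hTK t ht
    rw [map_mul, map_mul, map_mul, map_inv, map_pow, pow_two,
      show π n * π n * π t * (π n * π n)⁻¹ = π n * (π n * π t * (π n)⁻¹) * (π n)⁻¹ by group,
      hconj _ hk', hconj _ (hconjK _ hk'), hs2 _ hk', inv_mul_cancel]
  have hTcard : Nat.card T = 3 ^ 2 := by
    rw [← hKcard]
    refine Nat.card_eq_of_bijective (fun t : T => (⟨π t, hTK t t.2⟩ : K)) ⟨fun u v he => ?_, fun y => ?_⟩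
    · have he' : π u = π v := congrArg Subtype.val he
      exact Subtype.ext (inv_mul_eq_one.1 (hTR _ (mul_mem (inv_mem u.2) v.2)
        (by rw [map_mul, map_inv, he', inv_mul_cancel])))
    · obtain ⟨t, ht, hty⟩ := hTsurj y y.2
      exact ⟨⟨t, ht⟩, Subtype.ext hty⟩
  have hA : Acts R T := ⟨fun u hu v hv => ?_, hTc, fun t _ => normal_normalizes R t, by
    obtain ⟨j, hj⟩ := hRp.exists_card_eq
    rw [hTcard, hj]
    exact Nat.Coprime.pow _ _ (by norm_num)⟩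
  swap
  · calc u * v = (u * v)⁻¹ := (inv_eq_of_mul_eq_one_left (hel _ (mul_mem hu hv))).symm
      _ = v * u := by rw [mul_inv_rev, inv_eq_of_mul_eq_one_left (hel u hu), inv_eq_of_mul_eq_one_left (hel v hv)]
  have hmove : ∀ L : Subgroup X, L ≤ T → Nat.card T = 3 * Nat.card L →
      L.map (MulAut.conj n).toMonoidHom ≠ L := by
    intro L hLT hLc hmap
    have hL3 : Nat.card L = 3 := by rw [hTcard] at hLc; omega
    obtain ⟨⟨c, hc⟩, hc3⟩ := exists_prime_orderOf_dvd_card' (G := L) 3 (dvd_of_eq hL3.symm)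
    rw [Subgroup.orderOf_mk] at hc3
    have hLeq : zpowers c = L := eq_of_le_of_card_ge (zpowers_le.2 hc) (by rw [Nat.card_zpowers, hc3, hL3])
    have hm : n * c * n⁻¹ ∈ L := hmap.le ⟨c, hc, rfl⟩
    rw [← hLeq, ← mem_powers_iff_mem_zpowers] at hm
    obtain ⟨i, hi⟩ := hm
    have hi' : n * c * n⁻¹ = c ^ i := hi.symm
    have h2 := conj_iterate hi' 2
    rw [hninv c (hLT hc)] at h2
    have h3 : c ^ (i ^ 2 + 1) = 1 := by rw [pow_succ, ← h2, inv_mul_cancel]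
    have h4 := orderOf_dvd_of_pow_eq_one h3
    rw [hc3] at h4
    have := Nat.mod_lt i (show 3 > 0 by norm_num)
    have h5 : (i ^ 2 + 1) % 3 = 0 := Nat.mod_eq_zero_of_dvd h4
    rw [Nat.add_mod, Nat.pow_mod] at h5
    interval_cases i % 3 <;> norm_num at h5
  have hle := hA.le_centralizer_of_four hT3 (f := n) (hn4 ▸ pow_orderOf_eq_one n) (normal_normalizes R n) hn hninv hR3
    hmove (fun v hv => h.nm_eq_one Nat.prime_two (fun u hu => by rw [pow_two]; exact hel u hu) (normal_normalizes R n)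
      hv hn4 (Or.inr ⟨rfl, rfl⟩))
  obtain ⟨t, ht, hta⟩ := hTsurj a haK
  have h1 : a = 1 := by rw [← hta]; exact (QuotientGroup.eq_one_iff t).2 (hself ((le_centralizer_iff.1 hle) ht))
  have h2 : φ (1, 0) = φ (0, 0) := by simp [φ, h1]
  exact absurd (hinj h2) (by decide)

/-- The non-solvable groups with an element of order six. -/
theorem OrdSix.nonsolvable_structure (h : OrdSix X) (hS : ∀ n : ℕ, Small.{u} n) (hns : ¬ Group.IsSolvable X)
    (h6 : ∃ g : X, orderOf g = 6) :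
    (∃ (N : Subgroup X) (_ : N.Normal), Cfsg.IsElementaryAbelian 2 N ∧
        Nonempty (X ⧸ N ≃* ↥(alternatingGroup (Fin 5)))) ∨
      Nonempty (X ≃* Perm (Fin 5)) ∨ Nonempty (X ≃* Perm (Fin 6)) := by
  classical
  haveI : Fact (Nat.Prime 2) := ⟨Nat.prime_two⟩
  set R := Cfsg.pCore 2 X
  obtain ⟨-, hQ⟩ := h.two_core_radical hS hns
  have hel := h.two_core_elementary hQ.hasTen
  have htriv : (hb : R = ⊥) → Nonempty (X ≃* X ⧸ R) := fun hb =>
    ⟨((QuotientGroup.quotientMulEquivOfEq hb).trans QuotientGroup.quotientBot).symm⟩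
  have hQ' := hQ
  rcases hQ with ⟨⟨e⟩⟩ | ⟨⟨e⟩⟩ | ⟨⟨e⟩⟩ | ⟨⟨e⟩⟩
  · refine Or.inl ⟨R, inferInstance, ⟨⟨⟨fun a b => Subtype.ext ?_⟩⟩, fun a ha => ?_⟩, ⟨e⟩⟩
    · show (a : X) * b = b * a
      calc (a : X) * b = ((a : X) * b)⁻¹ := (inv_eq_of_mul_eq_one_left (hel _ (mul_mem a.2 b.2))).symm
        _ = b * a := by
          rw [mul_inv_rev, inv_eq_of_mul_eq_one_left (hel _ a.2), inv_eq_of_mul_eq_one_left (hel _ b.2)]
    · rw [pow_two]; exact hel a ha
  · exfalso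
    by_cases hb : R = ⊥
    · obtain ⟨ι⟩ := htriv hb
      obtain ⟨g, hg⟩ := h6
      set y := e (ι g)
      have hy : orderOf y = 6 := by rw [MulEquiv.orderOf_eq, MulEquiv.orderOf_eq, hg]
      have h6y : (y : Perm (Fin 6)) ^ 6 = 1 := by
        have h' := pow_orderOf_eq_one y
        rw [hy] at h'
        rw [← SubgroupClass.coe_pow, h', Subgroup.coe_one]
      rcases alt_six_no_six _ (Perm.mem_alternatingGroup.1 y.2) h6y with h' | h'
      all_goals
        have := orderOf_dvd_of_pow_eq_one h'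
        rw [Subgroup.orderOf_coe, hy] at this
        norm_num at this
    · exact h.no_thirty_six hel (h.centralizer_le_two_core hS hns hb)
        (hasThirtySix_alt_six.of_injective e.symm.toMonoidHom e.symm.injective)
  · by_cases hb : R = ⊥
    · obtain ⟨ι⟩ := htriv hb
      exact Or.inr (Or.inl ⟨ι.trans e⟩)
    · exact (h.no_twenty hb hel (hasTwenty_sym_five.of_injective e.symm.toMonoidHom e.symm.injective)).elim
  · by_cases hb : R = ⊥
    · obtain ⟨ι⟩ := htriv hb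
      exact Or.inr (Or.inr ⟨ι.trans e⟩)
    · exact (h.no_twenty hb hel (hasTwenty_sym_six.of_injective e.symm.toMonoidHom e.symm.injective)).elim

end Cfsg.Lib.Recog.OrderSix
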