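import Cfsg.Agent.Lib.Recog.OrderSix.Signalizer
import Cfsg.Agent.Lib.Recog.OrderFive.Main
import Cfsg.Agent.Lib.StrongEmb.RankTwo
import Cfsg.Agent.Lib.Spec.PSLTwoSpectrum
import Cfsg.Agent.S0516
import Cfsg.Agent.S0483
import Cfsg.Agent.S1248
import Cfsg.Agent.S0253
import Cfsg.Agent.S0254

/-!
# Element orders at most six: the simple groups of two-rank at most two

By the list of Sylow types it is `PSL₂(q)` with `q` five or nine, or the Sylow 2-subgroup is that of
`PSU₃(4)`, which with an element of order six is contradictory.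
-/

set_option autoImplicit false
set_option linter.unusedSectionVars false
set_option linter.style.haveILetI false

namespace Cfsg.Lib.Recog.OrderSix.RankTwo

open Subgroup Cfsg Cfsg.Lib
open Cfsg.Lib.StrongEmb.Cover (th)

universe u

variable {G : Type u} [Group G] [Finite G]

theorem two_pow_of_mem (h : OrdSix G) (S : Sylow 2 G) {x : G} (hx : x ∈ (S : Subgroup G)) : x ^ 4 = 1 := by
  obtain ⟨k, hk⟩ := IsPGroup.iff_orderOf.1 S.isPGroup' ⟨x, hx⟩
  rw [Subgroup.orderOf_mk] at hk
  exact h.two_pow_four hk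

/-- Neither quasi-dihedral nor wreathed. -/
theorem not_quasiDihedral (h : OrdSix G) (S : Sylow 2 G) : ¬ Cfsg.IsQuasiDihedral (S : Subgroup G) := by
  rintro ⟨n, hn, -, x, -, hx, -, -⟩
  have h1 := h (x : G)
  rw [Subgroup.orderOf_coe, hx] at h1
  have := Nat.pow_le_pow_right two_pos hn
  omega

theorem not_wreathed (h : OrdSix G) (S : Sylow 2 G) : ¬ Cfsg.IsWreathed (S : Subgroup G) := by
  rintro ⟨n, hn, -, x, y, z, hx, hc, hinf, hz, hzx⟩
  have h2 : (x * z) * (x * z) = x * y := by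
    have hzz : z⁻¹ = z := inv_eq_of_mul_eq_one_left (Invol.inv_mul_self hz)
    rw [← hzx, hzz]
    group
  have h4 : (x * z) ^ 4 = 1 := Subtype.ext (two_pow_of_mem h S (x * z).2)
  rw [show (4 : ℕ) = 2 * 2 from rfl, pow_mul, pow_two (x * z), h2, (show Commute x y from hc).mul_pow] at h4
  have hmem : x ^ 2 ∈ Subgroup.zpowers x ⊓ Subgroup.zpowers y :=
    ⟨pow_mem (mem_zpowers _) _, by rw [eq_inv_of_mul_eq_one_left h4]; exact (Subgroup.zpowers y).inv_mem (pow_mem (mem_zpowers _) _)⟩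
  rw [hinf, Subgroup.mem_bot, ← orderOf_dvd_iff_pow_eq_one, hx] at hmem
  have := Nat.le_of_dvd two_pos hmem
  have := Nat.pow_le_pow_right two_pos hn
  omega

section Simple

variable [IsSimpleGroup G] (hna : ¬ IsMulCommutative G)
include hna

theorem not_solvable : ¬ Group.IsSolvable G := fun hs => hna ⟨⟨IsSimpleGroup.comm_iff_isSolvable.2 hs⟩⟩

theorem oddCore_eq_bot : Cfsg.oddCore G = ⊥ := by
  refine (inferInstance : (Cfsg.oddCore G).Normal).eq_bot_or_eq_top.resolve_right fun htop => ?_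
  have h := Cfsg.Lib.ZStar.odd_card_oddCore (G := G)
  rw [htop, Subgroup.card_top] at h
  exact Nat.not_even_iff_odd.2 h (StrongEmb.Cover.even_card hna)

/-- A dihedral Sylow 2-subgroup. -/
theorem of_dihedral (h : OrdSix G) (S : Sylow 2 G) {n : ℕ} (hn : 2 ≤ n)
    (hS : Nonempty ((S : Subgroup G) ≃* DihedralGroup n)) : IsAltFiveSix G := by
  haveI : Group.IsPerfect G := ⟨by
    refine ((inferInstance : (commutator G).Normal).eq_bot_or_eq_top).resolve_left fun hb => hna ⟨⟨fun a b => ?_⟩⟩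
    have := commutator_mem_commutator (mem_top a) (mem_top b)
    rw [← commutator_def, hb, Subgroup.mem_bot, commutatorElement_eq_one_iff_mul_comm] at this
    exact this⟩
  have hcore := oddCore_eq_bot hna
  have eG : G ⧸ Cfsg.oddCore G ≃* G := (QuotientGroup.quotientMulEquivOfEq hcore).trans QuotientGroup.quotientBot
  rcases Cfsg.Agent.S0483.result S n hn hS with ⟨F, iF, iFt, hodd, h3, ⟨e⟩⟩ | ⟨⟨e⟩⟩
  · have e' : G ≃* Matrix.ProjectiveSpecialLinearGroup (Fin 2) F := eG.symm.trans e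
    have hord := h.of_equiv e'
    obtain ⟨p, hpp, hp, k, -, hk⟩ := Cfsg.Lib.Dickson.exists_char (F := F)
    haveI := Fact.mk hpp
    have hspec := Cfsg.Lib.Spec.psl_two_spectrum p (F := F) (by omega)
    have hle : ∀ m, (m ∣ p ∨ m ∣ (Fintype.card F - 1) / Nat.gcd 2 (Fintype.card F - 1) ∨
        m ∣ (Fintype.card F + 1) / Nat.gcd 2 (Fintype.card F - 1)) → m ≤ 6 := fun m hm => by
      obtain ⟨x, hx⟩ : m ∈ Set.range (orderOf : Matrix.ProjectiveSpecialLinearGroup (Fin 2) F → ℕ) := by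
        rw [hspec]; exact hm
      exact hx ▸ hord x
    have ho : Fintype.card F % 2 = 1 := Nat.odd_iff.1 hodd
    have hgcd : Nat.gcd 2 (Fintype.card F - 1) = 2 := Nat.gcd_eq_left (by omega)
    have hp6 : p ≤ 6 := hle p (Or.inl dvd_rfl)
    have hq : (Fintype.card F + 1) / 2 ≤ 6 := hle _ (Or.inr (Or.inr (by rw [hgcd])))
    have hcases : Fintype.card F = 5 ∨ Fintype.card F = 9 := by
      obtain ⟨j, hpj, hj⟩ := FiniteField.card F p
      have hj1 : 1 ≤ (j : ℕ) := j.2
      have hp2 := hpj.two_le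
      have hq11 : Fintype.card F ≤ 11 := by omega
      rw [hj] at ho h3 hq11 ⊢
      have h235 : p = 2 ∨ p = 3 ∨ p = 5 := by
        interval_cases p <;> first | omega | (norm_num at hpj)
      rcases h235 with rfl | rfl | rfl
      · rw [Nat.pow_mod] at ho; simp [show (j : ℕ) ≠ 0 by omega] at ho
      · have : (j : ℕ) ≤ 2 := by
          by_contra hjj
          have := Nat.pow_le_pow_right (show 0 < 3 by norm_num) (show 3 ≤ (j : ℕ) by omega)
          omega
        interval_cases (j : ℕ) <;> omega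
      · have : (j : ℕ) ≤ 1 := by
          by_contra hjj
          have := Nat.pow_le_pow_right (show 0 < 5 by norm_num) (show 2 ≤ (j : ℕ) by omega)
          omega
        interval_cases (j : ℕ)
        omega
    rcases hcases with h5 | h9
    · obtain ⟨f⟩ := Cfsg.Agent.S0253.result h5
      exact Or.inl ⟨e'.trans f⟩
    · obtain ⟨f⟩ := Cfsg.Agent.S0254.result h9
      exact Or.inr ⟨e'.trans f⟩
  · exfalso
    have hd : 7 ∣ Nat.card (alternatingGroup (Fin 7)) := by
      rw [nat_card_alternatingGroup, Nat.card_fin]; decide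
    haveI : Fact (Nat.Prime 7) := ⟨by norm_num⟩
    obtain ⟨g, hg⟩ := exists_prime_orderOf_dvd_card' 7 hd
    have := h.of_equiv (eG.symm.trans e) g
    omega

/-- Without element of order six. -/
theorem of_ordFive (h : OrdSix G) (h6 : ∀ g : G, orderOf g ≠ 6) : IsAltFiveSix G := by
  have h' : Recog.OrderFive.OrdFive G := fun g => by
    have := h g; have := h6 g; omega
  have hns := not_solvable hna
  haveI : Fact (Nat.Prime 2) := ⟨Nat.prime_two⟩
  haveI : Fact (Nat.Prime 3) := ⟨Nat.prime_three⟩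
  haveI : Fact (Nat.Prime 5) := ⟨by norm_num⟩
  have h2 : 2 ∣ Nat.card G := even_iff_two_dvd.1 (StrongEmb.Cover.even_card hna)
  rcases Recog.OrderFive.structure_theorem h' (exists_prime_orderOf_dvd_card' 2 h2)
    (exists_prime_orderOf_dvd_card' 3 (h.three_dvd hns)) (exists_prime_orderOf_dvd_card' 5 (h.five_dvd hns))
    with he | ⟨N, hN, -, ⟨e⟩⟩
  · exact Or.inr he
  · rcases hN.eq_bot_or_eq_top with hb | ht
    · exact Or.inl ⟨((QuotientGroup.quotientMulEquivOfEq hb).trans QuotientGroup.quotientBot).symm.trans e⟩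
    · exfalso
      have h1 := Nat.card_congr e.toEquiv
      rw [← Subgroup.index_eq_card, ht, Subgroup.index_top, nat_card_alternatingGroup, Nat.card_fin] at h1
      exact absurd h1 (by decide)

end Simple

/-! ### The type of `PSU₃(4)` -/

variable {S : Sylow 2 G} {E : Subgroup G} (h : OrdSix G) (hE : PiHom.Three ({2} : Set ℕ) S E)
include h hE

theorem sq_mem {x : G} (hx : x ∈ (S : Subgroup G)) : x * x ∈ E := by
  refine hE.invol _ (mul_mem hx hx) ?_
  rw [← two_pow_of_mem h S hx]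
  simp [pow_succ, mul_assoc]

theorem conj_mem {n x : G} (hn : n ∈ normalizer ((S : Subgroup G) : Set G)) (hx : x ∈ E) : n * x * n⁻¹ ∈ E := by
  refine hE.invol _ ((mem_normalizer_iff.1 hn x).1 (hE.le hx)) ?_
  rw [show n * x * n⁻¹ * (n * x * n⁻¹) = n * (x * x) * n⁻¹ by group, hE.sq x hx]
  group

omit h in
theorem cent_mem {t x : G} (ht : t ∈ E) (hx : x ∈ (S : Subgroup G)) : x ∈ centralizer ({t} : Set G) :=
  mem_centralizer_singleton_iff.2 (hE.central t ht x hx).symm.eq

/-- An element of order three commutes with no element of `S` outside `E`. -/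
theorem not_commute_three {a v : G} (ha : orderOf a = 3) (hv : v ∈ (S : Subgroup G)) (hvE : v ∉ E) :
    ¬ Commute v a := by
  refine h.not_commute_four ?_ ha
  have h4 := two_pow_of_mem h S hv
  have h2 : v ^ 2 ≠ 1 := fun e => hvE (hE.invol v hv (by rw [← pow_two, e]))
  haveI : Fact (Nat.Prime 2) := ⟨Nat.prime_two⟩
  exact orderOf_eq_prime_pow (p := 2) (n := 1) (by simpa using h2) (by simpa using h4)

/-- An element of order three normalizing `S` fixes no coset of `E` outside `E`. -/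
theorem fixed_coset {a v : G} (ha : orderOf a = 3) (haS : a ∈ normalizer ((S : Subgroup G) : Set G))
    (hv : v ∈ (S : Subgroup G)) (hvE : v ∉ E) : v⁻¹ * (a * v * a⁻¹) ∉ E := by
  intro h1
  set e1 := v⁻¹ * (a * v * a⁻¹) with he1
  set e2 := a * e1 * a⁻¹ with he2
  set e3 := a * e2 * a⁻¹ with he3
  have h2 : e2 ∈ E := conj_mem h hE haS h1
  have h3 : e3 ∈ E := conj_mem h hE haS h2
  have ha3 : a * (a * a) = 1 := by
    rw [← pow_orderOf_eq_one a, ha]; simp [pow_succ, mul_assoc]
  have hprod : e1 * e2 * e3 = 1 := by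
    calc e1 * e2 * e3 = v⁻¹ * ((a * (a * a)) * v * (a * (a * a))⁻¹) := by rw [he3, he2, he1]; group
      _ = 1 := by rw [ha3]; group
  have h13 : e1 * e3 = e2 := by
    have hc : e1 * e2 = e2 * e1 := (hE.central e1 h1 e2 (hE.le h2)).eq
    calc e1 * e3 = e2 * e2 * (e1 * e3) := by rw [hE.sq e2 h2, one_mul]
      _ = e2 * (e1 * e2 * e3) := by rw [hc]; group
      _ = e2 := by rw [hprod, mul_one]
  refine not_commute_three h hE ha (mul_mem hv (hE.le h2)) (fun hh => hvE ?_) ?_
  · have := mul_mem hh (inv_mem h2)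
    rwa [mul_inv_cancel_right] at this
  · show v * e2 * a = a * (v * e2)
    have : a * (v * e2) * a⁻¹ = v * e2 := by
      calc a * (v * e2) * a⁻¹ = v * (e1 * e3) := by rw [he3, he1]; group
        _ = v * e2 := by rw [h13]
    calc v * e2 * a = a * (v * e2) * a⁻¹ * a := by rw [this]
      _ = a * (v * e2) := by group

/-- No subgroup of order nine normalizes `S`. -/
theorem no_nine (hS : Nat.card (S : Subgroup G) = 64) {A : Subgroup G} (hA : Nat.card A = 9)
    (hAN : A ≤ normalizer ((S : Subgroup G) : Set G)) : False := by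
  classical
  haveI : Fact (Nat.Prime 3) := ⟨Nat.prime_three⟩
  have hord : ∀ a ∈ A, a ≠ 1 → orderOf a = 3 := by
    intro a ha h1
    obtain ⟨k, hk⟩ := IsPGroup.iff_orderOf.1
      (IsPGroup.of_card (p := 3) (n := 2) (by rw [hA]; norm_num) : IsPGroup 3 A) ⟨a, ha⟩
    rw [Subgroup.orderOf_mk] at hk
    exact orderOf_eq_prime (h.three_pow hk) h1
  have hmem : ∀ (v : (S : Subgroup G)) (p : A × E), (p.1 : G) * v * (p.1 : G)⁻¹ * p.2 ∈ (S : Subgroup G) :=
    fun v p => mul_mem ((mem_normalizer_iff.1 (hAN p.1.2) _).1 v.2) (hE.le p.2.2)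
  obtain ⟨v0, hv0, hv0E⟩ : ∃ v ∈ (S : Subgroup G), v ∉ E := by
    by_contra hh
    push Not at hh
    have := Subgroup.card_le_of_le hh
    rw [hS, hE.card] at this
    omega
  obtain ⟨v1, hv1, hv1E, hv1o⟩ : ∃ v ∈ (S : Subgroup G), v ∉ E ∧
      ∀ p : A × E, v ≠ (p.1 : G) * v0 * (p.1 : G)⁻¹ * p.2 := by
    by_contra hh
    push Not at hh
    let f : (A × E) ⊕ E → (S : Subgroup G) :=
      Sum.elim (fun p => ⟨_, hmem ⟨v0, hv0⟩ p⟩) (fun e => ⟨e, hE.le e.2⟩)
    have hf : Function.Surjective f := fun x => by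
      by_cases hx : (x : G) ∈ E
      · exact ⟨Sum.inr ⟨x, hx⟩, rfl⟩
      · obtain ⟨p, hp⟩ := hh x x.2 hx
        exact ⟨Sum.inl p, Subtype.ext hp.symm⟩
    have := Nat.card_le_card_of_surjective f hf
    rw [Nat.card_sum, Nat.card_prod, hS, hA, hE.card] at this
    omega
  let w : Bool → (S : Subgroup G) := fun i => if i then ⟨v1, hv1⟩ else ⟨v0, hv0⟩
  let g : Bool × A × E → (S : Subgroup G) := fun q => ⟨_, hmem (w q.1) q.2⟩
  have key : ∀ i j (a b : A) (e e' : E), (a : G) * (w i : G) * (a : G)⁻¹ * e = (b : G) * (w j : G) * (b : G)⁻¹ * e' →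
      ∃ f : E, (w j : G) = ((b⁻¹ * a : A) : G) * (w i : G) * ((b⁻¹ * a : A) : G)⁻¹ * f := by
    intro i j a b e e' hh
    refine ⟨⟨(b : G)⁻¹ * ((e : G) * (e' : G)⁻¹) * b, ?_⟩, ?_⟩
    · have := conj_mem h hE (inv_mem (hAN b.2)) (mul_mem e.2 (inv_mem e'.2))
      rwa [inv_inv] at this
    · show (w j : G) = (b : G)⁻¹ * a * (w i : G) * ((b : G)⁻¹ * a)⁻¹ * ((b : G)⁻¹ * ((e : G) * (e' : G)⁻¹) * b)
      calc (w j : G) = (b : G)⁻¹ * ((b : G) * (w j : G) * (b : G)⁻¹ * e') * (e' : G)⁻¹ * b := by group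
        _ = (b : G)⁻¹ * ((a : G) * (w i : G) * (a : G)⁻¹ * e) * (e' : G)⁻¹ * b := by rw [hh]
        _ = _ := by group
  have hg : Function.Injective g := by
    rintro ⟨i, a, e⟩ ⟨j, b, e'⟩ hh
    have hh' : (a : G) * (w i : G) * (a : G)⁻¹ * e = (b : G) * (w j : G) * (b : G)⁻¹ * e' :=
      congrArg Subtype.val hh
    have hij : i = j := by
      cases i <;> cases j
      · rfl
      · obtain ⟨f, hf⟩ := key false true a b e e' hh'
        exact absurd hf (hv1o (b⁻¹ * a, f))
      · obtain ⟨f, hf⟩ := key false true b a e' e hh'.symm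
        exact absurd hf (hv1o (a⁻¹ * b, f))
      · rfl
    subst hij
    obtain ⟨f, hf⟩ := key i i a b e e' hh'
    by_cases hk : ((b⁻¹ * a : A) : G) = 1
    · have hab : a = b := (inv_mul_eq_one.1 (Subtype.ext hk : b⁻¹ * a = 1)).symm
      subst hab
      exact Prod.ext rfl (Prod.ext rfl (Subtype.ext (mul_left_cancel hh')))
    · exfalso
      have hwE : (w i : G) ∉ E := by cases i <;> simpa [w]
      refine fixed_coset h hE (hord _ (b⁻¹ * a).2 hk) (hAN (b⁻¹ * a).2) (w i).2 hwE ?_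
      have : (w i : G)⁻¹ * (((b⁻¹ * a : A) : G) * (w i : G) * ((b⁻¹ * a : A) : G)⁻¹) = (f : G)⁻¹ := by
        conv_lhs => arg 1; rw [hf]
        group
      rw [this]
      exact inv_mem f.2
  have := Nat.card_le_card_of_injective g hg
  rw [Nat.card_prod, Nat.card_prod, hS, hA, hE.card] at this
  simp at this

/-- The signalizer of an involution of `E` is trivial. -/
theorem th_eq_bot (hS : Nat.card (S : Subgroup G) = 64) {t : G} (htE : t ∈ E) (ht : orderOf t = 2) :
    th t = ⊥ := by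
  classical
  by_contra hK
  obtain ⟨k, hk, hk1⟩ := (Subgroup.ne_bot_iff_exists_ne_one.1 hK |> fun ⟨⟨k, hk⟩, h1⟩ => ⟨k, hk, fun e => h1 (Subtype.ext e)⟩ :
    ∃ k ∈ th t, k ≠ 1)
  have hk3 : ∀ c ∈ th t, c ≠ 1 → orderOf c = 3 := by
    intro c hc hc1
    have hodd : Odd (orderOf c) := (Sgn.th_odd (t := t)).of_dvd_nat (Subgroup.orderOf_dvd_natCard _ hc)
    have hct : Commute c t := mem_centralizer_singleton_iff.1 (Sgn.th_le_cent hc)
    have := h.coprime_commute hct (by rw [ht]; exact Nat.coprime_two_right.2 hodd)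
    have h1 : orderOf c ≠ 1 := fun e => hc1 (orderOf_eq_one_iff.1 e)
    obtain ⟨m, hm⟩ := hodd
    rw [ht] at this
    omega
  -- the square roots of `t` in `S` invert the signalizer
  have hinv : ∀ s ∈ (S : Subgroup G), s * s = t → ∀ c ∈ th t, s * c * s⁻¹ = c⁻¹ := by
    intro s hs hst
    have hsE : s ∉ E := fun hh => by
      rw [hE.sq s hh] at hst
      rw [← hst, orderOf_one] at ht
      omega
    have hsn : ∀ c ∈ th t, s * c * s⁻¹ ∈ th t := fun c hc => by
      have := Sgn.th_conj_mem (g := s) hc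
      rwa [show s * t * s⁻¹ = t by rw [(hE.central t htE s hs).symm.eq, mul_inv_cancel_right]] at this
    let φ : ↥(th t) →* ↥(th t) :=
      { toFun := fun c => ⟨s * c * s⁻¹, hsn c c.2⟩
        map_one' := Subtype.ext (by simp)
        map_mul' := fun a b => Subtype.ext (by show s * (a * b : G) * s⁻¹ = s * a * s⁻¹ * (s * b * s⁻¹); group) }
    have h2 : Function.Involutive φ := fun c => Subtype.ext (by
      show s * (s * (c : G) * s⁻¹) * s⁻¹ = c
      have hct : Commute (c : G) t := mem_centralizer_singleton_iff.1 (Sgn.th_le_cent c.2)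
      calc s * (s * (c : G) * s⁻¹) * s⁻¹ = s * s * c * (s * s)⁻¹ := by group
        _ = t * c * t⁻¹ := by rw [hst]
        _ = c := by rw [← hct.eq, mul_inv_cancel_right])
    have hfix : MonoidHom.FixedPointFree φ := fun c hc => by
      by_contra hc1
      refine not_commute_three h hE (hk3 c c.2 fun e => hc1 (Subtype.ext e)) hs hsE ?_
      show s * c = c * s
      calc s * (c : G) = (s * c * s⁻¹) * s := by group
        _ = c * s := by rw [show s * (c : G) * s⁻¹ = c from congrArg Subtype.val hc]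
    intro c hc
    exact congrArg Subtype.val (congrFun (hfix.coe_eq_inv_of_involutive h2) ⟨c, hc⟩)
  have hroot : ∀ s ∈ (S : Subgroup G), ∀ s' ∈ (S : Subgroup G), s * s = t → s' * s' = t → s⁻¹ * s' ∈ E := by
    intro s hs s' hs' h1 h1'
    by_contra hh
    refine not_commute_three h hE (hk3 k hk hk1) (mul_mem (inv_mem hs) hs') hh ?_
    show s⁻¹ * s' * k = k * (s⁻¹ * s')
    have e1 := hinv s hs h1 k hk
    have e2 := hinv s' hs' h1' k hk
    have e3 : s⁻¹ * (s' * k * s'⁻¹) * s = k := by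
      rw [e2, ← e1]; group
    calc s⁻¹ * s' * k = s⁻¹ * (s' * k * s'⁻¹) * s * (s⁻¹ * s') := by group
      _ = k * (s⁻¹ * s') := by rw [e3]
  have hsame : ∀ x ∈ (S : Subgroup G), ∀ x' ∈ (S : Subgroup G), x * x = x' * x' → x⁻¹ * x' ∈ E := by
    intro x hx x' hx' hsq
    by_cases h1 : x * x = 1
    · exact mul_mem (inv_mem (hE.invol x hx h1)) (hE.invol x' hx' (hsq ▸ h1))
    obtain ⟨n, hn, hnt⟩ := hE.trans _ (sq_mem h hE hx) t htE h1 (fun e => by rw [e, orderOf_one] at ht; omega)
    have hconj : ∀ y : G, y * y = x * x → n * y * n⁻¹ * (n * y * n⁻¹) = t := fun y hy => by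
      rw [← hnt, ← hy]; group
    have := conj_mem h hE (inv_mem hn) (hroot _ ((mem_normalizer_iff.1 hn x).1 hx) _
      ((mem_normalizer_iff.1 hn x').1 hx') (hconj x rfl) (hconj x' hsq.symm))
    rwa [show n⁻¹ * ((n * x * n⁻¹)⁻¹ * (n * x' * n⁻¹)) * n⁻¹⁻¹ = x⁻¹ * x' by group] at this
  let r : E → (S : Subgroup G) := fun e =>
    if hh : ∃ x : (S : Subgroup G), (x : G) * x = e then hh.choose else 1
  let g : ↥(S : Subgroup G) → E × E := fun x =>
    (⟨_, sq_mem h hE x.2⟩, ⟨(r ⟨_, sq_mem h hE x.2⟩ : G)⁻¹ * x, by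
      have hh : ∃ y : (S : Subgroup G), (y : G) * y = ((⟨_, sq_mem h hE x.2⟩ : E) : G) := ⟨x, rfl⟩
      simp only [r, dif_pos hh]
      exact hsame _ hh.choose.2 _ x.2 hh.choose_spec⟩)
  have hg : Function.Injective g := fun x y hxy => by
    have h1 : (⟨_, sq_mem h hE x.2⟩ : E) = ⟨_, sq_mem h hE y.2⟩ := congrArg Prod.fst hxy
    have h2 := congrArg (fun p : E × E => (p.2 : G)) hxy
    simp only [g] at h2
    rw [h1] at h2
    exact Subtype.ext (mul_left_cancel h2)
  have := Nat.card_le_card_of_injective g hg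
  rw [hS, Nat.card_prod, hE.card] at this
  omega

/-- With trivial signalizer the Sylow 2-subgroup is normal in the centralizer. -/
theorem mem_normalizer_of_commute {t : G} (htE : t ∈ E) (ht : orderOf t = 2) (hK : th t = ⊥) {y : G}
    (hy : Commute y t) : y ∈ normalizer ((S : Subgroup G) : Set G) := by
  classical
  haveI : Fact (Nat.Prime 2) := ⟨Nat.prime_two⟩
  set C := centralizer ({t} : Set G)
  haveI := h.isSolvable_centralizer ht
  have hSC : (S : Subgroup G) ≤ C := fun x hx => cent_mem hE htE hx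
  have hO : Cfsg.pPrimeCore 2 C = ⊥ :=
    (Subgroup.map_eq_bot_iff_of_injective _ C.subtype_injective).1 hK
  set R := Cfsg.pCore 2 C
  have hself : centralizer (R : Set C) ≤ R :=
    Core.centralizer_pCore_le_of_isPSolvable Core.isPSolvable_of_isSolvable hO
  let S' : Sylow 2 C := S.subtype hSC
  have hRS : R ≤ (S' : Subgroup C) := by
    have hn : (S' : Subgroup C) ≤ normalizer (R : Set C) := by
      rw [Subgroup.normalizer_eq_top]; exact le_top
    have := (S'.3 (IsPGroup.to_sup_of_normal_right' S'.2 (Core.pCore_isPGroup 2 C) hn) le_sup_left)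
    exact this ▸ le_sup_right
  have hmemS : ∀ x : C, x ∈ (S' : Subgroup C) ↔ (x : G) ∈ (S : Subgroup G) := fun x => Iff.rfl
  have hcs : ∀ e : C, (e : G) ∈ E → ∀ x ∈ (S' : Subgroup C), Commute e x := fun e he x hx =>
    Subtype.ext (hE.central _ he _ ((hmemS x).1 hx)).eq
  have hER : ∀ e : C, (e : G) ∈ E → e ∈ R := fun e he =>
    hself (mem_centralizer_iff.2 fun r hr => (hcs e he r (hRS hr)).eq.symm)
  have hEn : ∀ (g e : C), (e : G) ∈ E → ((g * e * g⁻¹ : C) : G) ∈ E := by
    intro g e he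
    refine hE.invol _ ((hmemS _).1 (hRS ((inferInstance : R.Normal).conj_mem e (hER e he) g))) ?_
    show (g : G) * e * (g : G)⁻¹ * ((g : G) * e * (g : G)⁻¹) = 1
    rw [show (g : G) * e * (g : G)⁻¹ * ((g : G) * e * (g : G)⁻¹) = g * ((e : G) * e) * (g : G)⁻¹ by group,
      hE.sq _ he]
    group
  -- the elements acting trivially on `E` and on `R / E`
  let P : C → Prop := fun c => (∀ e : C, (e : G) ∈ E → Commute c e) ∧
    ∀ r ∈ R, ((c * r * c⁻¹ * r⁻¹ : C) : G) ∈ E
  have hone : P 1 := ⟨fun e _ => Commute.one_left e, fun r _ => by simp⟩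
  have hmul : ∀ c d, P c → P d → P (c * d) := by
    intro c d hc hd
    refine ⟨fun e he => (hc.1 e he).mul_left (hd.1 e he), fun r hr => ?_⟩
    have e0 := hd.2 r hr
    have e1 : c * (d * r * d⁻¹ * r⁻¹) * c⁻¹ = d * r * d⁻¹ * r⁻¹ := by
      rw [(hc.1 _ e0).eq, mul_inv_cancel_right]
    have e2 : c * d * r * (c * d)⁻¹ * r⁻¹ = (d * r * d⁻¹ * r⁻¹) * (c * r * c⁻¹ * r⁻¹) := by
      conv_rhs => arg 1; rw [← e1]
      group
    rw [e2, Subgroup.coe_mul]
    exact mul_mem e0 (hc.2 r hr)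
  let L : Subgroup C :=
    { carrier := {c | P c}
      one_mem' := hone
      mul_mem' := fun {a b} => hmul a b
      inv_mem' := fun {c} hc => by
        refine ⟨fun e he => (hc.1 e he).inv_left, fun r hr => ?_⟩
        have hr' : c⁻¹ * r * c ∈ R := by
          have := (inferInstance : R.Normal).conj_mem r hr c⁻¹
          rwa [inv_inv] at this
        have := inv_mem (hc.2 _ hr')
        rwa [← Subgroup.coe_inv, show (c * (c⁻¹ * r * c) * c⁻¹ * (c⁻¹ * r * c)⁻¹)⁻¹ = c⁻¹ * r * c⁻¹⁻¹ * r⁻¹ by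
          group] at this }
  haveI hLn : L.Normal := ⟨fun c hc g => by
    refine ⟨fun e he => ?_, fun r hr => ?_⟩
    · have hcm := hc.1 _ (hEn g⁻¹ e he)
      show g * c * g⁻¹ * e = e * (g * c * g⁻¹)
      calc g * c * g⁻¹ * e = g * (c * (g⁻¹ * e * g⁻¹⁻¹)) * g⁻¹ := by group
        _ = g * ((g⁻¹ * e * g⁻¹⁻¹) * c) * g⁻¹ := by rw [hcm.eq]
        _ = e * (g * c * g⁻¹) := by group
    · have hr' : g⁻¹ * r * g ∈ R := by
        have := (inferInstance : R.Normal).conj_mem r hr g⁻¹
        rwa [inv_inv] at this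
      have := hEn g _ (hc.2 _ hr')
      rwa [show g * (c * (g⁻¹ * r * g) * c⁻¹ * (g⁻¹ * r * g)⁻¹) * g⁻¹ = g * c * g⁻¹ * r * (g * c * g⁻¹)⁻¹ * r⁻¹ by
        group] at this⟩
  have hSL : (S' : Subgroup C) ≤ L := fun x hx => ⟨fun e he => (hcs e he x hx).symm, fun r hr => by
    have hx' := (hmemS x).1 hx
    have hr' := (hmemS r).1 (hRS hr)
    -- squares lie in the central subgroup `E`
    have h1 : (x : G) * x ∈ E := sq_mem h hE hx'
    have h2 : (r : G) * r ∈ E := sq_mem h hE hr'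
    have h3 : (x : G)⁻¹ * r * ((x : G)⁻¹ * r) ∈ E := sq_mem h hE (mul_mem (inv_mem hx') hr')
    have hid : ((x * r * x⁻¹ * r⁻¹ : C) : G) = ((x : G) * x) * ((x : G)⁻¹ * r * ((x : G)⁻¹ * r)) * ((r : G) * r)⁻¹ := by
      show (x : G) * r * (x : G)⁻¹ * (r : G)⁻¹ = _
      group
    rw [hid]
    exact mul_mem (mul_mem h1 h3) (inv_mem h2)⟩
  have hL2 : IsPGroup 2 L := by
    refine IsPGroup.iff_orderOf.2 fun c => ?_
    suffices hp : ∀ p, p.Prime → p ∣ orderOf c → p = 2 from
      ⟨_, Nat.eq_prime_pow_of_unique_prime_dvd (orderOf_pos c).ne' (fun {d} hd hdc => hp d hd hdc)⟩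
    intro p hp hpc
    by_contra hp2
    obtain ⟨d, hd⟩ : ∃ d : L, orderOf d = p := ⟨c ^ (orderOf c / p), orderOf_pow_orderOf_div (orderOf_pos c).ne' hpc⟩
    have hdR : (d : C) ∈ centralizer (R : Set C) := by
      refine mem_centralizer_iff.2 fun r hr => ?_
      set e : C := (d : C) * r * (d : C)⁻¹ * r⁻¹ with he
      have heE : (e : G) ∈ E := d.2.2 r hr
      have hde : Commute (d : C) e := d.2.1 e heE
      have hpow : ∀ m : ℕ, (d : C) ^ m * r * ((d : C) ^ m)⁻¹ = e ^ m * r := by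
        intro m
        induction m with
        | zero => simp
        | succ m ih =>
          calc (d : C) ^ (m + 1) * r * ((d : C) ^ (m + 1))⁻¹ =
              (d : C) * ((d : C) ^ m * r * ((d : C) ^ m)⁻¹) * (d : C)⁻¹ := by rw [pow_succ']; group
            _ = (d : C) * (e ^ m * r) * (d : C)⁻¹ := by rw [ih]
            _ = e ^ m * ((d : C) * r * (d : C)⁻¹) := by
              rw [← mul_assoc (d : C), (hde.pow_right m).eq]; group
            _ = e ^ (m + 1) * r := by
              rw [pow_succ, mul_assoc (e ^ m), he]; group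
      have he1 : e ^ p = 1 := by
        have h1 := hpow p
        rw [← Subgroup.coe_pow, ← hd, pow_orderOf_eq_one] at h1
        simp at h1
        rw [hd] at h1
        exact h1
      have he2 : e ^ 2 = 1 := Subtype.ext (by
        rw [Subgroup.coe_pow, pow_two]; exact hE.sq _ heE)
      have he0 : e = 1 := by
        have := (orderOf_dvd_of_pow_eq_one he1)
        rcases (Nat.dvd_prime hp).1 this with h1 | h1
        · exact orderOf_eq_one_iff.1 h1
        · exact absurd ((Nat.prime_dvd_prime_iff_eq hp Nat.prime_two).1 (h1 ▸ orderOf_dvd_of_pow_eq_one he2)) hp2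
      rw [he, mul_inv_eq_one, mul_inv_eq_iff_eq_mul] at he0
      exact he0.symm
    obtain ⟨k, hk⟩ := IsPGroup.iff_orderOf.1 (Core.pCore_isPGroup 2 C) ⟨(d : C), hself hdR⟩
    rw [Subgroup.orderOf_mk, Subgroup.orderOf_coe, hd] at hk
    exact hp2 ((Nat.prime_dvd_prime_iff_eq hp Nat.prime_two).1 (hp.dvd_of_dvd_pow (dvd_of_eq hk)))
  have hRS' : (S' : Subgroup C) = R := le_antisymm (hSL.trans (Core.le_pCore hL2)) hRS
  rw [mem_normalizer_iff]
  intro x
  have hyC : y ∈ C := mem_centralizer_singleton_iff.2 hy.eq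
  constructor
  · intro hx
    have := (inferInstance : R.Normal).conj_mem ⟨x, hSC hx⟩ (hRS' ▸ (hmemS ⟨x, hSC hx⟩).2 hx) ⟨y, hyC⟩
    rw [← hRS'] at this
    exact (hmemS _).1 this
  · intro hx
    have := (inferInstance : R.Normal).conj_mem ⟨_, hSC hx⟩ (hRS' ▸ (hmemS ⟨_, hSC hx⟩).2 hx) ⟨y⁻¹, inv_mem hyC⟩
    rw [← hRS'] at this
    have := (hmemS _).1 this
    simpa [mul_assoc] using this

/-- An element of order six is impossible. -/
theorem no_six (hS : Nat.card (S : Subgroup G) = 64) {g : G} (hg : orderOf g = 6) : False := by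
  classical
  haveI : Fact (Nat.Prime 2) := ⟨Nat.prime_two⟩
  haveI : Fact (Nat.Prime 3) := ⟨Nat.prime_three⟩
  have h3 : orderOf (g ^ 3) = 2 := by rw [orderOf_pow_of_dvd (by norm_num) (hg ▸ by norm_num), hg]
  have h2 : orderOf (g ^ 2) = 3 := by rw [orderOf_pow_of_dvd (by norm_num) (hg ▸ by norm_num), hg]
  obtain ⟨Q, hQ⟩ := (IsPGroup.of_card (p := 2) (n := 1) (by rw [Nat.card_zpowers, h3, pow_one]) :
    IsPGroup 2 (zpowers (g ^ 3))).exists_le_sylow
  obtain ⟨c, hc⟩ := MulAction.exists_smul_eq G Q S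
  set t := c * g ^ 3 * c⁻¹ with htdef
  set y := c * g ^ 2 * c⁻¹ with hydef
  have htS : t ∈ (S : Subgroup G) := by
    rw [← hc]
    exact Subgroup.smul_mem_pointwise_smul (g ^ 3) (MulAut.conj c) _ (hQ (mem_zpowers _))
  have ht : orderOf t = 2 := by
    rw [← h3, htdef, ← MulAut.conj_apply]; exact MulEquiv.orderOf_eq (MulAut.conj c) _
  have hy : orderOf y = 3 := by
    rw [← h2, hydef, ← MulAut.conj_apply]; exact MulEquiv.orderOf_eq (MulAut.conj c) _
  have hty : Commute y t := ((Commute.refl g).pow_pow 2 3).map (MulAut.conj c)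
  have htE : t ∈ E := hE.invol t htS (Invol.inv_mul_self ht)
  have ht1 : t ≠ 1 := fun e => by rw [e, orderOf_one] at ht; omega
  set N := normalizer ((S : Subgroup G) : Set G)
  have hyN : y ∈ N := mem_normalizer_of_commute h hE htE ht (th_eq_bot h hE hS htE ht) hty
  letI act : MulAction ↥N G := MulAction.compHom G ((MulAut.conj : G →* MulAut G).comp N.subtype)
  have horb : MulAction.orbit ↥N t = (E : Set G) \ {1} := by
    ext x
    constructor
    · rintro ⟨⟨n, hn⟩, rfl⟩
      exact ⟨conj_mem h hE hn htE, fun e => ht1 (conj_eq_one_iff.1 e)⟩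
    · rintro ⟨hx, hx1⟩
      obtain ⟨n, hn, hnt⟩ := hE.trans t htE x hx ht1 hx1
      exact ⟨⟨n, hn⟩, hnt⟩
  have hidx := MulAction.index_stabilizer ↥N t
  rw [horb, Set.ncard_sdiff_singleton_of_mem (one_mem E), ← Nat.card_coe_set_eq,
    show Nat.card (E : Set G) = 4 from hE.card] at hidx
  have hstab : 3 ∣ Nat.card (MulAction.stabilizer ↥N t) := by
    have hmem : (⟨y, hyN⟩ : ↥N) ∈ MulAction.stabilizer ↥N t := by
      show y * t * y⁻¹ = t
      rw [hty.eq, mul_inv_cancel_right]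
    have := Subgroup.orderOf_dvd_natCard _ hmem
    rwa [Subgroup.orderOf_mk, hy] at this
  have h9 : 3 ^ 2 ∣ Nat.card ↥N := by
    rw [← (MulAction.stabilizer ↥N t).card_mul_index, hidx, pow_two]
    exact mul_dvd_mul hstab dvd_rfl
  obtain ⟨A, hA⟩ := Sylow.exists_subgroup_card_pow_prime 3 h9
  refine no_nine h hE hS (A := A.map N.subtype) ?_ (map_subtype_le _)
  rw [card_map_of_injective N.subtype_injective, hA]
  norm_num

end Cfsg.Lib.Recog.OrderSix.RankTwo

namespace Cfsg.Lib.Recog.OrderSix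

/-- The simple groups of two-rank at most two with element orders at most six. -/
theorem rank_two {G : Type*} [Group G] [Finite G] [IsSimpleGroup G] (hna : ¬ IsMulCommutative G) (h : OrdSix G)
    (hr : Cfsg.PRankLE 2 2 G) : IsAltFiveSix G := by
  classical
  haveI : Fact (Nat.Prime 2) := ⟨Nat.prime_two⟩
  haveI := Fintype.ofFinite (GaloisField 2 4)
  have hF : Fintype.card (GaloisField 2 4) = 16 := by
    rw [← Nat.card_eq_fintype_card, GaloisField.card 2 4 (by norm_num)]; norm_num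
  have P : Sylow 2 (Cfsg.PSU 3 (GaloisField 2 4) 4) := Classical.arbitrary _
  obtain ⟨S⟩ : Nonempty (Sylow 2 G) := inferInstance
  rcases Cfsg.Agent.S0516.result hna hr S hF P with ⟨n, hn, hS⟩ | hS | hS | ⟨⟨e⟩⟩
  · exact RankTwo.of_dihedral hna h S hn hS
  · exact absurd hS (RankTwo.not_quasiDihedral h S)
  · exact absurd hS (RankTwo.not_wreathed h S)
  · by_cases h6 : ∃ g : G, orderOf g = 6
    · obtain ⟨g, hg⟩ := h6
      obtain ⟨E, hE⟩ := Cfsg.Lib.StrongEmb.RankTwo.exists_three hna S hF P e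
      exact (RankTwo.no_six h hE ((Nat.card_congr e.toEquiv).trans (Cfsg.Agent.S1248.result hF P).1) hg).elim
    · exact RankTwo.of_ordFive hna h fun g hg => h6 ⟨g, hg⟩

end Cfsg.Lib.Recog.OrderSix
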