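import Cfsg.Agent.Lib.Recog.OrderSix.Balance
import Cfsg.Agent.Lib.Recog.OrderSix.BigTwo
import Cfsg.Agent.Lib.StrongEmb.Cover

/-!
# Element orders at most six: the signalizer `O(C(t))` in two-rank above two

As in `StrongEmb.Cover`, with balance from the solvability of the centralizers of involutions.
-/

set_option autoImplicit false
set_option linter.unusedSectionVars false
set_option linter.style.haveILetI false

namespace Cfsg.Lib.Recog.OrderSix.Sgn

open Subgroup Cfsg Cfsg.Lib.Invol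
open Cfsg.Lib
open Cfsg.Lib.StrongEmb.Cover (El th Wof Base exists_base)

universe u

variable {G : Type u} [Group G] [Finite G] (hI : OrdSix G)
include hI

omit hI in
theorem th_le_cent {t : G} : th t ≤ centralizer ({t} : Set G) := map_subtype_le _

omit hI in
theorem th_odd {t : G} : Odd (Nat.card (th t)) := by
  haveI : Fact (Nat.Prime 2) := ⟨Nat.prime_two⟩
  show Odd (Nat.card ↥((pPrimeCore 2 ↥(centralizer ({t} : Set G))).map (centralizer ({t} : Set G)).subtype))
  rw [card_map_of_injective (centralizer ({t} : Set G)).subtype_injective, ← Nat.not_even_iff_odd, even_iff_two_dvd]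
  exact Core.pPrimeCore_not_dvd 2 _

omit hI in
theorem th_conj_mem {t g c : G} (hc : c ∈ th t) : g * c * g⁻¹ ∈ th (g * t * g⁻¹) := by
  set C := centralizer ({t} : Set G)
  set C' := centralizer ({g * t * g⁻¹} : Set G)
  have hmap : ∀ x : C, g * (x : G) * g⁻¹ ∈ C' := fun x => mem_centralizer_singleton_iff.2 (by
    have := mem_centralizer_singleton_iff.1 x.2
    calc g * (x : G) * g⁻¹ * (g * t * g⁻¹) = g * ((x : G) * t) * g⁻¹ := by group
      _ = g * t * g⁻¹ * (g * (x : G) * g⁻¹) := by rw [this]; group)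
  let f : C →* C' := MonoidHom.mk' (fun x => ⟨g * x * g⁻¹, hmap x⟩) fun x y => Subtype.ext (by
    show g * ((x : G) * y) * g⁻¹ = g * x * g⁻¹ * (g * y * g⁻¹)
    group)
  have hf : Function.Surjective f := fun y => by
    refine ⟨⟨g⁻¹ * y * g, mem_centralizer_singleton_iff.2 ?_⟩, Subtype.ext (by show g * (g⁻¹ * (y : G) * g) * g⁻¹ = y; group)⟩
    have := mem_centralizer_singleton_iff.1 y.2
    calc g⁻¹ * (y : G) * g * t = g⁻¹ * ((y : G) * (g * t * g⁻¹)) * g := by group
      _ = t * (g⁻¹ * (y : G) * g) := by rw [this]; group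
  obtain ⟨k, hk, rfl⟩ := hc
  exact ⟨f k, Core.map_pPrimeCore_le f hf (mem_map_of_mem f hk), rfl⟩

omit hI in
theorem th_conj {t g c : G} : g * c * g⁻¹ ∈ th (g * t * g⁻¹) ↔ c ∈ th t := by
  refine ⟨fun h => ?_, th_conj_mem⟩
  have := th_conj_mem (g := g⁻¹) h
  rwa [show g⁻¹ * (g * c * g⁻¹) * g⁻¹⁻¹ = c by group, show g⁻¹ * (g * t * g⁻¹) * g⁻¹⁻¹ = t by group] at this

/-- Along a noncyclic elementary subgroup the signalizers generate the same subgroup. -/
theorem Wof_eq {A B : Subgroup G} (hA : El A) (hBA : B ≤ A) (hB : 4 ≤ Nat.card B) : Wof A = Wof B := by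
  refine le_antisymm (iSup_le fun a => ?_) (iSup_le fun b => le_iSup_of_le ⟨b.1, hBA b.2.1, b.2.2⟩ le_rfl)
  have ha := hA.orderOf_eq a.2.1 a.2.2
  haveI := (hA.mono hBA).isMulCommutative
  have hnc : ¬ IsCyclic B := by
    intro hcyc
    obtain ⟨g, hg⟩ := IsCyclic.exists_generator (α := B)
    have h2 : Nat.card B ≤ 2 := by
      rw [← orderOf_eq_card_of_forall_mem_zpowers hg]
      exact Nat.le_of_dvd two_pos (orderOf_dvd_of_pow_eq_one (Subtype.ext (by
        rw [Subgroup.coe_pow, pow_two]; exact hA _ (hBA g.2))))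
    omega
  have hn : B ≤ normalizer ((th (a : G)) : Set G) := by
    intro b hb
    refine mem_normalizer_fintype fun c hc => ?_
    have := (th_conj (g := b) (t := (a : G))).2 hc
    rwa [(hA.commute (hBA hb) a.2.1).eq, mul_inv_cancel_right] at this
  have hcop : (Nat.card B).Coprime (Nat.card (th (a : G))) := by
    haveI : Fact (Nat.Prime 2) := ⟨Nat.prime_two⟩
    obtain ⟨j, hj⟩ := IsPGroup.iff_card.1 (show IsPGroup 2 B from fun b => ⟨1, Subtype.ext (by
      rw [pow_one, Subgroup.coe_pow, pow_two]; exact hA _ (hBA b.2))⟩)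
    rw [hj]
    exact Nat.Coprime.pow_left j (Nat.coprime_two_left.2 th_odd)
  refine (Coprime.le_iSup_centralizer_of_not_isCyclic hnc hn hcop).trans (iSup_le fun b => ?_)
  refine le_iSup_of_le b fun c hc => ?_
  obtain ⟨hc1, hc2⟩ := Subgroup.mem_inf.1 hc
  exact hI.balance ha ((hA.mono hBA).orderOf_eq b.2.1 b.2.2) (hA.commute a.2.1 (hBA b.2.1)) hc1
    (mem_centralizer_singleton_iff.1 hc2)

/-- The signalizer functor theorem on an elementary subgroup of order at least eight. -/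
theorem Wof_signalizer {A : Subgroup G} (hA : El A) (h8 : 8 ≤ Nat.card A) :
    Odd (Nat.card (Wof A)) ∧ ∀ a ∈ A, a ≠ 1 → Wof A ⊓ centralizer ({a} : Set G) = th a := by
  haveI : Fact (Nat.Prime 2) := ⟨Nat.prime_two⟩
  have ho := fun a (ha : a ∈ A) (h1 : a ≠ 1) => hA.orderOf_eq ha h1
  obtain ⟨h1, h2⟩ := Cfsg.Agent.S0217.result (p := 2) A (fun a ha b hb => (hA.commute ha hb).eq)
    (fun a ha => by rw [pow_two]; exact hA a ha) (by simpa using h8) th
    (fun a _ _ => th_le_cent)
    (fun a ha h => by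
      rw [← even_iff_two_dvd, Nat.not_even_iff_odd]; exact th_odd)
    (fun a ha h b hb x hx => by
      have := (th_conj (g := b) (t := a)).2 hx
      rwa [(hA.commute hb ha).eq, mul_inv_cancel_right] at this)
    (fun a _ _ => Cfsg.Agent.S0205.result th_odd)
    (fun a ha h b hb hb1 x hx => hI.balance (ho a ha h) (ho b hb hb1) (hA.commute ha hb)
      (Subgroup.mem_inf.1 hx).1 (mem_centralizer_singleton_iff.1 (Subgroup.mem_inf.1 hx).2))
  refine ⟨?_, h2⟩
  rw [← Nat.not_even_iff_odd, even_iff_two_dvd]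
  exact h1

theorem Wof_conj {A : Subgroup G} (hA : El A) (g : G) :
    (Wof A).map (MulAut.conj g).toMonoidHom ≤ Wof (A.map (MulAut.conj g).toMonoidHom) := by
  rw [Wof, Subgroup.map_iSup]
  refine iSup_le fun a => le_iSup_of_le ⟨g * a.1 * g⁻¹, ⟨a.1, a.2.1, rfl⟩, fun e => a.2.2 ?_⟩ ?_
  · exact (MulAut.conj g).injective (e.trans (map_one (MulAut.conj g)).symm)
  · rintro _ ⟨c, hc, rfl⟩
    exact th_conj.2 hc


omit hI in
/-- A normal four group of a 2-group of rank above two lies in an elementary subgroup of order eight. -/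
theorem exists_el_over {T F A : Subgroup G} (hT : IsPGroup 2 T) (hFT : F ≤ T) (hF : El F)
    (hF4 : Nat.card F = 4) (hn : T ≤ normalizer (F : Set G)) (hAT : A ≤ T) (hA : El A)
    (h8 : 8 ≤ Nat.card A) : ∃ B : Subgroup G, B ≤ T ∧ El B ∧ 8 ≤ Nat.card B ∧ F ≤ B := by
  haveI : Fact (Nat.Prime 2) := ⟨Nat.prime_two⟩
  haveI : (F.subgroupOf T).Normal := (normal_subgroupOf_iff_le_normalizer hFT).mpr hn
  have hc : Nat.card (F.subgroupOf T) = 2 ^ 2 := by
    rw [Nat.card_congr (subgroupOfEquivOfLe hFT).toEquiv, hF4]; norm_num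
  have h1 := Sig.RankThree.index_centralizer_le hT hc
  set C' := centralizer ((F.subgroupOf T) : Set T)
  have h2 := Sig.RankThree.card_le_card_inf_mul_index (A.subgroupOf T) C'
  rw [Nat.card_congr (subgroupOfEquivOfLe hAT).toEquiv] at h2
  set A₀ := A ⊓ centralizer (F : Set G) with hA₀
  have h3 : Nat.card ↥(A.subgroupOf T ⊓ C') ≤ Nat.card A₀ := by
    refine Nat.card_le_card_of_injective (fun x => (⟨((x : T) : G), Subgroup.mem_inf.2
      ⟨(Subgroup.mem_inf.1 x.2).1, mem_centralizer_iff.2 fun f hf => ?_⟩⟩ : ↥A₀))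
      fun a b e => Subtype.ext (Subtype.ext (congrArg (fun z : ↥A₀ => (z : G)) e))
    exact congrArg Subtype.val (mem_centralizer_iff.1 (Subgroup.mem_inf.1 x.2).2 ⟨f, hFT hf⟩ (by exact hf))
  have h4 : 4 ≤ Nat.card A₀ := by
    have := h8.trans (h2.trans (Nat.mul_le_mul h3 h1))
    omega
  have hB : El (A₀ ⊔ F) := (hA.mono inf_le_left).sup hF fun a ha b hb =>
    (mem_centralizer_iff.1 (Subgroup.mem_inf.1 ha).2 b hb).symm
  refine ⟨A₀ ⊔ F, sup_le (inf_le_left.trans hAT) hFT, hB, ?_, le_sup_right⟩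
  by_cases hFA : F ≤ A₀
  · rw [sup_eq_left.2 hFA]
    have hAC : A ≤ centralizer (F : Set G) := fun a ha => mem_centralizer_iff.2 fun f hf =>
      (hA.commute (Subgroup.mem_inf.1 (hFA hf)).1 ha).eq
    rwa [hA₀, inf_eq_left.2 hAC]
  obtain ⟨f, hf, hfA⟩ := SetLike.not_le_iff_exists.1 hFA
  obtain ⟨-, -, h5⟩ := (hA.mono (inf_le_left : A₀ ≤ A)).card_le_mul (hF f hf)
    (fun a ha => (mem_centralizer_iff.1 (Subgroup.mem_inf.1 ha).2 f hf).symm)
  have h6 := Nat.le_of_dvd Nat.card_pos (card_dvd_of_le (sup_le_sup (le_refl A₀) (zpowers_le.2 hf)))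
  have h7 := h5 hfA
  simp only [← hA₀] at h7
  omega

variable {S : Sylow 2 G} {U : Subgroup G}

theorem Wof_all (hB : Base S U) {E : Subgroup G} (hES : E ≤ S) (hE : El E) (h8 : 8 ≤ Nat.card E) :
    Wof E = Wof U := by
  obtain ⟨E₀, A, h0, h04, h0A, hUA, -, hA, -⟩ := hB.exists_big hES hE h8
  rw [Wof_eq hI hE h0 h04, ← Wof_eq hI hA h0A h04, Wof_eq hI hA hUA hB.card.ge]

/-- Conjugation preserves the generated subgroup when it keeps an elementary group inside `S`. -/
theorem mem_normalizer (hB : Base S U) {E : Subgroup G} (hES : E ≤ S) (hE : El E) (h8 : 8 ≤ Nat.card E)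
    {x : G} (hx : E.map (MulAut.conj x).toMonoidHom ≤ S) : x ∈ normalizer (Wof U : Set G) := by
  have h1 := Wof_conj hI hE x
  rw [Wof_all hI hB hES hE h8, Wof_all hI hB hx (hE.map _)
    (by rw [card_map_of_injective (f := (MulAut.conj x).toMonoidHom) (MulAut.conj x).injective]; exact h8)] at h1
  rw [mem_normalizer_iff_map_conj_eq]
  exact eq_of_le_of_card_ge h1 (card_map_of_injective (f := (MulAut.conj x).toMonoidHom) (MulAut.conj x).injective).ge

theorem sylow_le (hB : Base S U) : (S : Subgroup G) ≤ normalizer (Wof U : Set G) := by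
  intro s hs
  have h1 := Wof_conj hI hB.el s
  have hU : U.map (MulAut.conj s).toMonoidHom = U := Coprime.map_conj_eq_self (hB.norm hs)
  rw [hU] at h1
  rw [mem_normalizer_iff_map_conj_eq]
  exact eq_of_le_of_card_ge h1 (card_map_of_injective (f := (MulAut.conj s).toMonoidHom) (MulAut.conj s).injective).ge

/-- A 2-subgroup of the normaliser is conjugate there into `S`. -/
theorem exists_conj_le (hB : Base S U) {R : Subgroup G} (hR : IsPGroup 2 R)
    (hRM : R ≤ normalizer (Wof U : Set G)) :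
    ∃ m ∈ normalizer (Wof U : Set G), R.map (MulAut.conj m).toMonoidHom ≤ S := by
  haveI : Fact (Nat.Prime 2) := ⟨Nat.prime_two⟩
  set M := normalizer (Wof U : Set G)
  obtain ⟨P, hP⟩ := (hR.comap_subtype (K := M)).exists_le_sylow
  obtain ⟨m, hm⟩ := MulAction.exists_smul_eq M P (S.subtype (sylow_le hI hB))
  refine ⟨m, m.2, ?_⟩
  rintro _ ⟨r, hr, rfl⟩
  have h1 : m * ⟨r, hRM hr⟩ * m⁻¹ ∈ ((S.subtype (sylow_le hI hB) : Sylow 2 M) : Subgroup M) := by
    rw [← hm, Sylow.coe_subgroup_smul]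
    exact Subgroup.smul_mem_pointwise_smul _ _ _ (hP (show (⟨r, hRM hr⟩ : M) ∈ R.subgroupOf M from hr))
  exact h1

/-- A 2-subgroup of the normaliser with an elementary subgroup of order eight has its fusion there. -/
theorem fusion (hB : Base S U) {R : Subgroup G} (hR : IsPGroup 2 R) (hRM : R ≤ normalizer (Wof U : Set G))
    {E : Subgroup G} (hER : E ≤ R) (hE : El E) (h8 : 8 ≤ Nat.card E) {x : G}
    (hx : R.map (MulAut.conj x).toMonoidHom ≤ normalizer (Wof U : Set G)) :
    x ∈ normalizer (Wof U : Set G) := by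
  obtain ⟨m, hm, hmS⟩ := exists_conj_le hI hB hR hRM
  obtain ⟨n, hn, hnS⟩ := exists_conj_le hI hB (hR.map (MulAut.conj x).toMonoidHom) hx
  have h1 := mem_normalizer hI hB ((map_mono hER).trans hmS) (hE.map _)
    (by rw [card_map_of_injective (f := (MulAut.conj m).toMonoidHom) (MulAut.conj m).injective]; exact h8)
    (x := n * x * m⁻¹) (by
      rintro _ ⟨_, ⟨e, he, rfl⟩, rfl⟩
      have := hnS ⟨x * e * x⁻¹, ⟨e, hER he, rfl⟩, rfl⟩
      show n * x * m⁻¹ * (m * e * m⁻¹) * (n * x * m⁻¹)⁻¹ ∈ (S : Subgroup G)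
      rw [show n * x * m⁻¹ * (m * e * m⁻¹) * (n * x * m⁻¹)⁻¹ = n * (x * e * x⁻¹) * n⁻¹ by group]
      exact this)
  have h2 := mul_mem (mul_mem (inv_mem hn) h1) hm
  rwa [show n⁻¹ * (n * x * m⁻¹) * m = x by group] at h2

/-- An involution in an elementary subgroup of order eight of `S` has its signalizer in the generated subgroup. -/
theorem th_le (hB : Base S U) {E : Subgroup G} (hES : E ≤ S) (hE : El E) (h8 : 8 ≤ Nat.card E) {t : G}
    (ht : t ∈ E) (ht1 : t ≠ 1) : th t ≤ Wof U := by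
  rw [← Wof_all hI hB hES hE h8]
  exact le_iSup_of_le ⟨t, ht, ht1⟩ le_rfl

/-- An involution of the normaliser centralising an elementary subgroup of order eight there has its
centraliser and signalizer there. -/
theorem cent_le (hB : Base S U) {t : G} (ht : orderOf t = 2) (htM : t ∈ normalizer (Wof U : Set G))
    {E : Subgroup G} (hEM : E ≤ normalizer (Wof U : Set G) ⊓ centralizer ({t} : Set G)) (hE : El E)
    (h8 : 8 ≤ Nat.card E) :
    th t ≤ Wof U ∧ centralizer ({t} : Set G) ≤ normalizer (Wof U : Set G) := by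
  haveI : Fact (Nat.Prime 2) := ⟨Nat.prime_two⟩
  set M := normalizer (Wof U : Set G)
  set C := centralizer ({t} : Set G) with hC
  obtain ⟨hA, htA, -⟩ := hE.card_le_mul (Invol.inv_mul_self ht)
    (fun a ha => mem_centralizer_singleton_iff.1 (Subgroup.mem_inf.1 (hEM ha)).2)
  set A := E ⊔ zpowers t
  have hAM : A ≤ M ⊓ C := sup_le hEM (zpowers_le.2 ⟨htM, mem_centralizer_singleton_iff.2 rfl⟩)
  have hA2 : IsPGroup 2 A := fun a => ⟨1, Subtype.ext (by rw [pow_one, Subgroup.coe_pow, pow_two]; exact hA _ a.2)⟩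
  have h8A : 8 ≤ Nat.card A := h8.trans (Nat.le_of_dvd Nat.card_pos (card_dvd_of_le le_sup_left))
  have hth : th t ≤ Wof U := by
    obtain ⟨m, hm, hmS⟩ := exists_conj_le hI hB hA2 (hAM.trans inf_le_left)
    have h1 := th_le hI hB hmS (hA.map _)
      (by rw [card_map_of_injective (f := (MulAut.conj m).toMonoidHom) (MulAut.conj m).injective]; exact h8A)
      (t := m * t * m⁻¹) ⟨t, htA, rfl⟩ (fun e => Invol.ne_one ht (by simpa using e))
    intro c hc
    have h2 := h1 (th_conj.2 hc)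
    exact (mem_normalizer_iff.1 hm c).2 h2
  refine ⟨hth, ?_⟩
  obtain ⟨R, hR⟩ := (hA2.comap_subtype (K := C)).exists_le_sylow
  -- a Sylow subgroup of `C(t)` with largest meet with the normaliser
  obtain ⟨T₀, hT₀, hT₀max⟩ := Set.exists_max_image
    {T : Sylow 2 C | A.subgroupOf C ≤ T} (fun T => Nat.card ↥(((T : Subgroup C).map C.subtype) ⊓ M : Subgroup G))
    (Set.toFinite _) ⟨R, hR⟩
  set T := (T₀ : Subgroup C).map C.subtype with hT
  have hTp : IsPGroup 2 T := T₀.2.map _
  have hTM : T ≤ M := by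
    by_contra hne
    have hlt : T ⊓ M < T := lt_of_le_of_ne inf_le_left fun e => hne (e ▸ inf_le_right)
    obtain ⟨x, hx, hx'⟩ := SetLike.exists_of_lt (Cfsg.Lib.FusionSys.lt_inf_normalizer_self hTp hlt)
    obtain ⟨hxT, hxn⟩ := Subgroup.mem_inf.1 hx
    refine hx' (Subgroup.mem_inf.2 ⟨hxT, fusion hI hB (hTp.to_le inf_le_left) inf_le_right ?_ hA h8A ?_⟩)
    · intro a ha
      exact Subgroup.mem_inf.2 ⟨⟨⟨a, (hAM ha).2⟩, hT₀ (show (⟨a, (hAM ha).2⟩ : C) ∈ A.subgroupOf C from ha), rfl⟩,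
        (hAM ha).1⟩
    · rw [Coprime.map_conj_eq_self hxn]; exact inf_le_right
  -- modulo the core
  haveI := hI.isSolvable_centralizer ht
  set K := pPrimeCore 2 ↥C with hKdef
  set π := QuotientGroup.mk' K with hπ
  have hKW : K.map C.subtype ≤ M := hth.trans le_normalizer
  have hinjT : ∀ a b : C, a ∈ (T₀ : Subgroup C) → b ∈ (T₀ : Subgroup C) → π a = π b → a = b := by
    intro a b ha hb hab
    have h1 : a⁻¹ * b ∈ (T₀ : Subgroup C) ⊓ K := ⟨mul_mem ((T₀ : Subgroup C).inv_mem ha) hb, QuotientGroup.eq.1 hab⟩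
    rw [inf_eq_bot_of_coprime (by
      obtain ⟨k, hk⟩ := IsPGroup.iff_card.1 T₀.2
      rw [hk]; exact Nat.Coprime.pow_left k ((Nat.prime_two.coprime_iff_not_dvd).2 (Core.pPrimeCore_not_dvd 2 _))),
      mem_bot, inv_mul_eq_one] at h1
    exact h1
  set RY := Cfsg.pCore 2 (↥C ⧸ K) with hRY
  set Kp := RY.comap π with hKp
  haveI : Kp.Normal := inferInstance
  set P := (T₀ : Subgroup C) ⊓ Kp with hP
  have hlift : ∀ r ∈ RY, ∃ p ∈ P, π p = r := by
    intro r hr
    obtain ⟨τ, hτ, hτr⟩ := Core.pCore_le_sylow (T₀.mapSurjective (QuotientGroup.mk'_surjective K)) hr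
    exact ⟨τ, ⟨hτ, mem_comap.2 (by show π τ ∈ RY; rw [show π τ = r from hτr]; exact hr)⟩, hτr⟩
  have hKpsup : Kp ≤ K ⊔ P := fun x hx => by
    obtain ⟨p, hp, hpx⟩ := hlift (π x) hx
    have h1 : x * p⁻¹ ∈ K := (QuotientGroup.eq_one_iff _).1 (by
      show π (x * p⁻¹) = 1
      rw [map_mul, map_inv, hpx, mul_inv_cancel])
    simpa using mul_mem (mem_sup_left (T := P) h1) (mem_sup_right (S := K) hp)
  have hPcard : Nat.card P = Nat.card RY := Nat.card_congr (Equiv.ofBijective
    (fun p : P => (⟨π p, p.2.2⟩ : RY))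
    ⟨fun a b hab => Subtype.ext (hinjT _ _ a.2.1 b.2.1 (congrArg Subtype.val hab)),
      fun r => by obtain ⟨p, hp, hpr⟩ := hlift r r.2; exact ⟨⟨p, hp⟩, Subtype.ext hpr⟩⟩)
  have hPp : IsPGroup 2 P := T₀.2.to_le inf_le_left
  have hidx : ¬ 2 ∣ (P.subgroupOf Kp).index := by
    have h1 := (P.subgroupOf Kp).card_mul_index
    have h2 : Nat.card Kp = Nat.card K * Nat.card RY := by
      rw [hKp, hπ, Core.card_comap_eq _ (QuotientGroup.mk'_surjective K) RY, QuotientGroup.ker_mk']
    rw [Nat.card_congr (subgroupOfEquivOfLe (show P ≤ Kp from inf_le_right)).toEquiv, hPcard, h2,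
      mul_comm (Nat.card K)] at h1
    rw [Nat.eq_of_mul_eq_mul_left Nat.card_pos h1]
    exact Core.pPrimeCore_not_dvd 2 _
  let P' : Sylow 2 Kp :=
    (hPp.of_equiv (subgroupOfEquivOfLe (show P ≤ Kp from inf_le_right)).symm).toSylow hidx
  have htop := Sylow.normalizer_sup_eq_top P'
  have hPmap : (P' : Subgroup Kp).map Kp.subtype = P := map_subgroupOf_eq_of_le inf_le_right
  rw [hPmap] at htop
  have hCle : (⊤ : Subgroup C) ≤ normalizer (P : Set C) ⊔ (K ⊔ P) := htop ▸ sup_le_sup le_rfl hKpsup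
  have hPT : P.map C.subtype ≤ T := map_mono inf_le_left
  have hnorm : normalizer (P : Set C) ≤ M.subgroupOf C := by
    intro x hx
    rw [mem_subgroupOf]
    have hxP : (P.map C.subtype).map (MulAut.conj (x : G)).toMonoidHom ≤ P.map C.subtype := by
      rintro _ ⟨_, ⟨p, hp, rfl⟩, rfl⟩
      exact ⟨x * p * x⁻¹, (mem_normalizer_iff.1 hx p).1 hp, rfl⟩
    have hsub : ∀ {A' : Subgroup (↥C ⧸ K)}, A' ≤ RY → El A' → El ((P ⊓ A'.comap π).map C.subtype) ∧
        Nat.card A' = Nat.card ↥((P ⊓ A'.comap π).map C.subtype) := by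
      intro A' hA'R hA'
      refine ⟨?_, ?_⟩
      · rintro _ ⟨p, hp, rfl⟩
        rw [← map_mul, hinjT (p * p) 1 (mul_mem hp.1.1 hp.1.1) (one_mem _) (by
          rw [map_mul, map_one]; exact hA' _ hp.2), map_one]
      · rw [card_map_of_injective C.subtype_injective]
        exact (Nat.card_congr (Equiv.ofBijective
          (fun p : ↥(P ⊓ A'.comap π) => (⟨π p, p.2.2⟩ : A'))
          ⟨fun a b hab => Subtype.ext (hinjT _ _ a.2.1.1 b.2.1.1 (congrArg Subtype.val hab)),
            fun r => by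
              obtain ⟨p, hp, hpr⟩ := hlift r (hA'R r.2)
              exact ⟨⟨p, hp, mem_comap.2 (by rw [hpr]; exact r.2)⟩, Subtype.ext hpr⟩⟩)).symm
    have hEY : El (((A.subgroupOf C).map π : Subgroup (↥C ⧸ K))) := by
      rintro _ ⟨a, ha, rfl⟩
      rw [← map_mul, show a * a = 1 from Subtype.ext (hA _ ha), map_one]
    have hEY8 : 8 ≤ Nat.card ↥((A.subgroupOf C).map π) := by
      refine h8A.trans (le_of_eq ?_)
      rw [← Nat.card_congr (subgroupOfEquivOfLe (hAM.trans inf_le_right)).toEquiv]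
      exact Nat.card_congr (Equiv.ofBijective
        (fun a : ↥(A.subgroupOf C) => (⟨π a, mem_map_of_mem π a.2⟩ : ↥((A.subgroupOf C).map π)))
        ⟨fun a b hab => Subtype.ext (hinjT _ _ (hT₀ a.2) (hT₀ b.2) (congrArg Subtype.val hab)),
          fun r => by obtain ⟨a, ha, har⟩ := r.2; exact ⟨⟨a, ha⟩, Subtype.ext har⟩⟩)
    have hzo : orderOf (π ⟨t, mem_centralizer_singleton_iff.2 rfl⟩) = 2 := by
      refine orderOf_eq_two_of (fun e => ?_) (by
        rw [← map_mul, show (⟨t, _⟩ : C) * ⟨t, _⟩ = 1 from Subtype.ext (Invol.inv_mul_self ht), map_one])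
      refine Core.pPrimeCore_not_dvd 2 C ?_
      have h1 : (⟨t, mem_centralizer_singleton_iff.2 rfl⟩ : C) ∈ K := (QuotientGroup.eq_one_iff _).1 e
      have h2 := Subgroup.orderOf_dvd_natCard K h1
      rwa [Subgroup.orderOf_mk, ht] at h2
    rcases ((hI.subgroup C).quotient K).exists_big_two Core.pPrimeCore_quotient_eq_bot hzo (fun q => by
        obtain ⟨y, rfl⟩ := QuotientGroup.mk'_surjective K q
        rw [← map_mul, ← map_mul]
        exact congrArg π (Subtype.ext (mem_centralizer_singleton_iff.1 y.2))) hEY hEY8 with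
      ⟨A', hA'R, hA', hA'8⟩ | ⟨F, hFR, hF, hFn, hF4⟩
    · obtain ⟨h1, h2⟩ := hsub hA'R hA'
      exact fusion hI hB (hPp.map _) (hPT.trans hTM) (map_mono inf_le_left) h1 (h2 ▸ hA'8)
        (hxP.trans (hPT.trans hTM))
    · obtain ⟨h1, h2⟩ := hsub hFR hF
      set F' := (P ⊓ F.comap π).map C.subtype with hF'
      have hF'T : F' ≤ T := (map_mono inf_le_left).trans hPT
      haveI := hFn
      have hconjF : ∀ y : C, y ∈ normalizer (P : Set C) → ∀ f ∈ F', (y : G) * f * (y : G)⁻¹ ∈ F' := by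
        rintro y hy _ ⟨p, hp, rfl⟩
        exact ⟨y * p * y⁻¹, ⟨(mem_normalizer_iff.1 hy p).1 hp.1,
          mem_comap.2 (by rw [map_mul, map_mul, map_inv]; exact hFn.conj_mem _ hp.2 _)⟩, rfl⟩
      have hTn : T ≤ normalizer (F' : Set G) := by
        rintro _ ⟨y, hy, rfl⟩
        refine mem_normalizer_fintype (hconjF y (mem_normalizer_fintype fun p hp => ⟨?_, ?_⟩))
        · exact mul_mem (mul_mem hy hp.1) ((T₀ : Subgroup C).inv_mem hy)
        · exact (inferInstance : Kp.Normal).conj_mem p hp.2 y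
      obtain ⟨B, hBT, hBel, hB8, hFB⟩ := exists_el_over hTp hF'T h1 (h2.symm.trans hF4) hTn
        (fun a ha => ⟨⟨a, (hAM ha).2⟩, hT₀ (show (⟨a, (hAM ha).2⟩ : C) ∈ A.subgroupOf C from ha), rfl⟩) hA h8A
      obtain ⟨m, hm, hmS⟩ := exists_conj_le hI hB (hTp.to_le hBT) (hBT.trans hTM)
      have hWB : Wof B = Wof U := by
        have e1 := Wof_all hI hB hmS (hBel.map _)
          (by rw [card_map_of_injective (f := (MulAut.conj m).toMonoidHom) (MulAut.conj m).injective]; exact hB8)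
        have e2 := Wof_conj hI hBel m
        rw [e1] at e2
        have e4 := Wof_conj hI (hBel.map (MulAut.conj m).toMonoidHom) m⁻¹
        rw [e1, Subgroup.map_map] at e4
        have e5 : B.map ((MulAut.conj m⁻¹).toMonoidHom.comp (MulAut.conj m).toMonoidHom) = B := by
          convert Subgroup.map_id B using 2
          ext y; simp [mul_assoc]
        rw [e5] at e4
        refine le_antisymm (fun w hw => ?_) (fun w hw => e4 ⟨m * w * m⁻¹, (mem_normalizer_iff.1 hm w).1 hw, ?_⟩)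
        · exact (mem_normalizer_iff.1 hm w).2 (e2 ⟨w, hw, rfl⟩)
        · show m⁻¹ * (m * w * m⁻¹) * m⁻¹⁻¹ = w
          group
      have hWF : Wof F' = Wof U := by rw [← Wof_eq hI hBel hFB (h2.symm.trans hF4).ge, hWB]
      have e3 := Wof_conj hI h1 (x : G)
      have hmapF : F'.map (MulAut.conj (x : G)).toMonoidHom = F' := by
        refine eq_of_le_of_card_ge ?_ (card_map_of_injective (f := (MulAut.conj (x : G)).toMonoidHom)
          (MulAut.conj (x : G)).injective).ge
        rintro _ ⟨f, hf, rfl⟩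
        exact hconjF x hx f hf
      rw [hmapF, hWF] at e3
      rw [mem_normalizer_iff_map_conj_eq]
      exact eq_of_le_of_card_ge e3 (card_map_of_injective (f := (MulAut.conj (x : G)).toMonoidHom)
        (MulAut.conj (x : G)).injective).ge
  have hKM : K ⊔ P ≤ M.subgroupOf C := sup_le
    (fun k hk => mem_subgroupOf.2 (hKW (mem_map_of_mem _ hk)))
    (fun p hp => mem_subgroupOf.2 (hTM (hPT (mem_map_of_mem _ hp))))
  exact fun x hx => mem_subgroupOf.1 ((hCle.trans (sup_le hnorm hKM)) (mem_top (⟨x, hx⟩ : C)))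

variable [IsSimpleGroup G]

/-- The centraliser of every involution of the normaliser lies there. -/
theorem exists_el (hB : Base S U) (hna : ¬ IsMulCommutative G) (hr : ¬ Cfsg.PRankLE 2 2 (S : Subgroup G)) {t : G}
    (ht : orderOf t = 2) (htM : t ∈ normalizer (Wof U : Set G)) :
    ∃ E : Subgroup G, E ≤ normalizer (Wof U : Set G) ⊓ centralizer ({t} : Set G) ∧ El E ∧ 8 ≤ Nat.card E := by
  haveI : Fact (Nat.Prime 2) := ⟨Nat.prime_two⟩
  set M := normalizer (Wof U : Set G)
  by_contra hno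
  push Not at hno
  -- normalise the Sylow subgroup of the centraliser in `M`
  obtain ⟨R⟩ : Nonempty (Sylow 2 ↥(M ⊓ centralizer ({t} : Set G))) := inferInstance
  obtain ⟨m, hm, hmS⟩ := exists_conj_le hI hB (R.2.map (M ⊓ centralizer ({t} : Set G)).subtype)
    ((map_subtype_le _).trans inf_le_left)
  set c := (MulAut.conj m).toMonoidHom
  have hcinj : Function.Injective c := (MulAut.conj m).injective
  set v := m * t * m⁻¹ with hv
  set Cv := centralizer ({v} : Set G) with hCv
  have hv2 : orderOf v = 2 := by rw [hv, orderOf_conj_eq, ht]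
  have htC : t ∈ M ⊓ centralizer ({t} : Set G) := ⟨htM, mem_centralizer_singleton_iff.2 rfl⟩
  have hcen : ∀ a : G, Commute a t ↔ Commute (c a) v := fun a =>
    ⟨fun h => h.map c, fun h => Commute.of_map (f := c) hcinj h⟩
  have hmapM : ∀ a : G, a ∈ M ↔ c a ∈ M := fun a => by
    constructor
    · exact fun h => mul_mem (mul_mem hm h) (inv_mem hm)
    · intro h
      have := mul_mem (mul_mem (inv_mem hm) h) hm
      rwa [show m⁻¹ * c a * m = a by show m⁻¹ * (m * a * m⁻¹) * m = a; group] at this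
  have hno' : ∀ E : Subgroup G, E ≤ M ⊓ Cv → El E → Nat.card E < 8 := fun E hE hEl => by
    have := hno (E.map (MulAut.conj m⁻¹).toMonoidHom) ?_ (hEl.map _)
    · rwa [card_map_of_injective (f := (MulAut.conj m⁻¹).toMonoidHom) (MulAut.conj m⁻¹).injective] at this
    rintro _ ⟨e, he, rfl⟩
    have e1 : c ((MulAut.conj m⁻¹).toMonoidHom e) = e := by
      show m * (m⁻¹ * e * m⁻¹⁻¹) * m⁻¹ = e
      group
    refine ⟨(hmapM _).2 (by rw [e1]; exact (hE he).1), mem_centralizer_singleton_iff.2 ((hcen _).2 ?_).eq⟩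
    rw [e1]; exact mem_centralizer_singleton_iff.1 (hE he).2
  have hRS : ((R : Subgroup ↥(M ⊓ centralizer ({t} : Set G))).map (M ⊓ centralizer ({t} : Set G)).subtype).map c ≤
      (S : Subgroup G) ⊓ Cv := fun y hy => ⟨hmS hy, by
    obtain ⟨_, ⟨r, -, rfl⟩, rfl⟩ := hy
    exact mem_centralizer_singleton_iff.2 ((hcen _).1 (mem_centralizer_singleton_iff.1 r.2.2)).eq⟩
  have hvS : v ∈ (S : Subgroup G) := by
    refine hmS ⟨t, ⟨⟨t, htC⟩, ?_, rfl⟩, rfl⟩
    have : zpowers (⟨t, htC⟩ : ↥(M ⊓ centralizer ({t} : Set G))) ≤ R := by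
      haveI : (zpowers (⟨t, htC⟩ : ↥(M ⊓ centralizer ({t} : Set G)))).Normal := ⟨by
        rintro _ ⟨k, rfl⟩ g
        refine ⟨k, ?_⟩
        have hg : g * ⟨t, htC⟩ * g⁻¹ = ⟨t, htC⟩ := Subtype.ext (by
          show (g : G) * t * (g : G)⁻¹ = t
          rw [mem_centralizer_singleton_iff.1 g.2.2, mul_inv_cancel_right])
        show _ = g * _ * g⁻¹
        rw [← conj_zpow, hg]⟩
      exact IsPGroup.le_sylow_of_normal (IsPGroup.of_card (n := 1)
        (by rw [Nat.card_zpowers, Subgroup.orderOf_mk, ht, pow_one])) R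
    exact this (mem_zpowers _)
  set T₀ := (S : Subgroup G) ⊓ Cv with hT₀
  have hT₀M : T₀ ≤ M ⊓ Cv := inf_le_inf (sylow_le hI hB) le_rfl
  have hT₀card : ∀ Q : Subgroup G, IsPGroup 2 Q → Q ≤ M ⊓ Cv → Nat.card Q ≤ Nat.card T₀ := fun Q hQ hQle => by
    refine le_trans ?_ (Nat.le_of_dvd Nat.card_pos (card_dvd_of_le hRS))
    rw [card_map_of_injective hcinj, card_map_of_injective (subtype_injective _), R.card_eq_multiplicity]
    have hQ' : (Q.map (MulAut.conj m⁻¹).toMonoidHom) ≤ M ⊓ centralizer ({t} : Set G) := by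
      rintro _ ⟨q, hq, rfl⟩
      have e1 : c ((MulAut.conj m⁻¹).toMonoidHom q) = q := by
        show m * (m⁻¹ * q * m⁻¹⁻¹) * m⁻¹ = q
        group
      refine ⟨(hmapM _).2 (by rw [e1]; exact (hQle hq).1), mem_centralizer_singleton_iff.2 ((hcen _).2 ?_).eq⟩
      rw [e1]; exact mem_centralizer_singleton_iff.1 (hQle hq).2
    obtain ⟨j, hj⟩ := IsPGroup.iff_card.1 (hQ.map (MulAut.conj m⁻¹).toMonoidHom)
    rw [← card_map_of_injective (K := Q) (f := (MulAut.conj m⁻¹).toMonoidHom) (MulAut.conj m⁻¹).injective, hj]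
    refine Nat.pow_le_pow_right two_pos ((Nat.prime_two.pow_dvd_iff_le_factorization Nat.card_pos.ne').1 ?_)
    exact hj ▸ card_dvd_of_le hQ'
  -- a larger 2-subgroup of the centraliser
  obtain ⟨g, E, hES, hE, hE8, hgE⟩ := hB.exists_covered hna hr hv2
  have hEv : E.map (MulAut.conj g⁻¹).toMonoidHom ≤ Cv := by
    rintro _ ⟨e, he, rfl⟩
    have := (hE.commute he hgE).map (MulAut.conj g⁻¹).toMonoidHom
    refine mem_centralizer_singleton_iff.2 ?_
    simpa [mul_assoc] using this.eq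
  obtain ⟨T, hT⟩ := ((S.2.to_le (inf_le_left : T₀ ≤ (S : Subgroup G))).comap_subtype (K := Cv)).exists_le_sylow
  set T' := (T : Subgroup Cv).map Cv.subtype with hT'
  have hT'p : IsPGroup 2 T' := T.2.map _
  have hT₀T : T₀ ≤ T' := fun y hy => ⟨⟨y, hy.2⟩, hT (show (⟨y, hy.2⟩ : Cv) ∈ T₀.subgroupOf Cv from hy), rfl⟩
  have hlt : T₀ < T' := by
    refine lt_of_le_of_ne hT₀T fun e => ?_
    obtain ⟨P, hP⟩ := ((show IsPGroup 2 (E.map (MulAut.conj g⁻¹).toMonoidHom) from
      fun a => ⟨1, Subtype.ext (by rw [pow_one, Subgroup.coe_pow, pow_two]; exact hE.map _ _ a.2)⟩).comap_subtype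
        (K := Cv)).exists_le_sylow
    obtain ⟨d, hd⟩ := MulAction.exists_smul_eq Cv P T
    have hle : (E.map (MulAut.conj g⁻¹).toMonoidHom).map (MulAut.conj (d : G)).toMonoidHom ≤ T₀ := by
      rw [e]
      rintro _ ⟨y, hy, rfl⟩
      refine ⟨d * ⟨y, hEv hy⟩ * d⁻¹, ?_, rfl⟩
      rw [← hd, Sylow.coe_subgroup_smul]
      exact Subgroup.smul_mem_pointwise_smul _ _ _
        (hP (show (⟨y, hEv hy⟩ : Cv) ∈ (E.map (MulAut.conj g⁻¹).toMonoidHom).subgroupOf Cv from hy))
    have := hno' _ (hle.trans hT₀M) (El.map (show El (E.map (MulAut.conj g⁻¹).toMonoidHom) from hE.map _) _)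
    rw [card_map_of_injective (f := (MulAut.conj (d : G)).toMonoidHom) (MulAut.conj (d : G)).injective,
      card_map_of_injective (f := (MulAut.conj g⁻¹).toMonoidHom) (MulAut.conj g⁻¹).injective] at this
    omega
  obtain ⟨x, hx, hx'⟩ := SetLike.exists_of_lt (Cfsg.Lib.FusionSys.lt_inf_normalizer_self hT'p hlt)
  obtain ⟨hxT, hxn⟩ := Subgroup.mem_inf.1 hx
  have hxv : Commute x v := by
    obtain ⟨y, -, rfl⟩ := hxT
    exact mem_centralizer_singleton_iff.1 y.2
  have hxM : x ∉ M := fun hxM => by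
    have h1 : T₀ < T' ⊓ M := lt_of_le_of_ne (le_inf hT₀T (hT₀M.trans inf_le_left))
      fun e => hx' (e ▸ Subgroup.mem_inf.2 ⟨hxT, hxM⟩)
    have h2 := hT₀card (T' ⊓ M) (hT'p.to_le inf_le_left) (le_inf inf_le_right (inf_le_left.trans (map_subtype_le _)))
    exact h1.ne (eq_of_le_of_card_ge h1.le h2)
  -- the structure of `S ∩ C(v)`
  obtain ⟨-, E₁, hE₁S, hE₁, hE₁8⟩ := exists_base S hr
  obtain ⟨-, A, -, -, -, hUA, hAS, hA, hA8⟩ := hB.exists_big hE₁S hE₁ hE₁8
  have hAM : A ≤ M := hAS.trans (sylow_le hI hB)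
  haveI hUn : (U.subgroupOf S).Normal := (normal_subgroupOf_iff_le_normalizer hB.le).mpr hB.norm
  obtain ⟨z, hzU, hzc, hz⟩ : ∃ z : (S : Subgroup G), z ∈ U.subgroupOf S ∧
      z ∈ center (S : Subgroup G) ∧ orderOf z = 2 := by
    refine PGroup.exists_mem_center_orderOf_eq S.2 (N := U.subgroupOf S) fun e => ?_
    have := Nat.card_congr (subgroupOfEquivOfLe hB.le).toEquiv
    rw [e, Subgroup.card_bot, hB.card] at this
    omega
  have hzG : orderOf (z : G) = 2 := by rw [Subgroup.orderOf_coe, hz]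
  have hzs : ∀ s ∈ (S : Subgroup G), Commute (z : G) s := fun s hs =>
    (congrArg Subtype.val (mem_center_iff.1 hzc ⟨s, hs⟩)).symm
  have hzC : centralizer ({(z : G)} : Set G) ≤ M := by
    refine (cent_le hI hB hzG (sylow_le hI hB z.2) (E := A) (fun a ha => ⟨hAM ha, ?_⟩) hA hA8).2
    exact mem_centralizer_singleton_iff.2 (hzs a (hAS ha)).symm.eq
  have hvU : v ∉ centralizer (U : Set G) := by
    intro hvc
    by_cases hvU : v ∈ U
    · exact absurd (hno' A (le_inf hAM fun a ha => mem_centralizer_singleton_iff.2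
        (hA.commute ha (hUA hvU)).eq) hA) (by omega)
    obtain ⟨h1, h2, h3⟩ := hB.el.card_le_mul (Invol.inv_mul_self hv2) fun a ha => mem_centralizer_iff.1 hvc a ha
    have h4 := h3 hvU
    rw [hB.card] at h4
    exact absurd (hno' _ (le_inf ((sup_le hB.le (zpowers_le.2 hvS)).trans (sylow_le hI hB))
      fun a ha => mem_centralizer_singleton_iff.2 (h1.commute ha h2).eq) h1) (by omega)
  -- squares and involutions
  have hR : ∀ y ∈ T₀, y ∈ centralizer (U : Set G) ∨ y * v ∈ centralizer (U : Set G) := by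
    intro y hy
    have hidx : ((centralizer (U : Set G)).subgroupOf (S : Subgroup G)).index ≤ 2 := by
      have hc : Nat.card (U.subgroupOf (S : Subgroup G)) = 2 ^ 2 := by
        rw [Nat.card_congr (subgroupOfEquivOfLe hB.le).toEquiv, hB.card]; norm_num
      refine le_trans (Nat.le_of_dvd (Nat.pos_of_ne_zero index_ne_zero_of_finite) (index_dvd_of_le ?_))
        (Sig.RankThree.index_centralizer_le S.2 hc)
      intro x hx
      refine mem_subgroupOf.2 (mem_centralizer_iff.2 fun u hu => ?_)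
      exact congrArg Subtype.val (mem_centralizer_iff.1 hx ⟨u, hB.le hu⟩ (by exact hu))
    by_cases hyc : y ∈ centralizer (U : Set G)
    · exact Or.inl hyc
    refine Or.inr ?_
    have h2 : ((centralizer (U : Set G)).subgroupOf (S : Subgroup G)).index = 2 := by
      have h1 : ((centralizer (U : Set G)).subgroupOf (S : Subgroup G)).index ≠ 1 := fun e => hvU (by
        have := index_eq_one.1 e ▸ mem_top (⟨v, hvS⟩ : (S : Subgroup G))
        exact this)
      have h3 : ((centralizer (U : Set G)).subgroupOf (S : Subgroup G)).index ≠ 0 := index_ne_zero_of_finite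
      omega
    have := (mul_mem_iff_of_index_two h2 (a := ⟨y, hy.1⟩) (b := ⟨v, hvS⟩)).2
      ⟨fun e => absurd (mem_subgroupOf.1 e) hyc, fun e => absurd (mem_subgroupOf.1 e) hvU⟩
    exact this
  have hinv : ∀ r ∈ T₀, r ∈ centralizer (U : Set G) → r * r = 1 → r = 1 ∨ r = (z : G) := by
    intro r hr hrc hr2
    by_contra hne
    push Not at hne
    have hz1 : (z : G) ≠ 1 := Invol.ne_one hzG
    have hZ : El (zpowers (z : G)) := by
      rintro _ ⟨k, rfl⟩
      show (z : G) ^ k * (z : G) ^ k = 1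
      rw [← (Commute.refl (z : G)).mul_zpow, Invol.inv_mul_self hzG, one_zpow]
    obtain ⟨h1, h1m, h1c⟩ := hZ.card_le_mul hr2 fun a ha => by
      obtain ⟨k, rfl⟩ := ha
      exact ((hzs r hr.1).zpow_left k).eq
    have hrz : r ∉ zpowers (z : G) := by
      intro hmem
      rw [mem_zpowers_iff] at hmem
      obtain ⟨k, rfl⟩ := hmem
      rcases Int.even_or_odd k with ⟨i, rfl⟩ | ⟨i, rfl⟩
      · exact hne.1 (by rw [zpow_add, ← (Commute.refl (z : G)).mul_zpow, Invol.inv_mul_self hzG, one_zpow])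
      · exact hne.2 (by rw [zpow_add, zpow_one, two_mul, zpow_add, ← (Commute.refl (z : G)).mul_zpow,
          Invol.inv_mul_self hzG, one_zpow, one_mul])
    have h4 : 4 ≤ Nat.card ↥(zpowers (z : G) ⊔ zpowers r) := by
      have := h1c hrz
      rw [Nat.card_zpowers, hzG] at this
      exact this
    have hle : zpowers (z : G) ⊔ zpowers r ≤ centralizer (U : Set G) :=
      sup_le (zpowers_le.2 (mem_centralizer_iff.2 fun u hu => (hzs u (hB.le hu)).symm.eq)) (zpowers_le.2 hrc)
    have hleS : zpowers (z : G) ⊔ zpowers r ≤ T₀ :=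
      sup_le (zpowers_le.2 ⟨z.2, mem_centralizer_singleton_iff.2 (hzs v hvS).eq⟩) (zpowers_le.2 hr)
    obtain ⟨h5, -, h5c⟩ := h1.card_le_mul (Invol.inv_mul_self hv2)
      fun a ha => mem_centralizer_singleton_iff.1 (hleS ha).2
    have := h5c fun e => hvU (hle e)
    exact absurd (hno' _ (sup_le (hleS.trans hT₀M) (zpowers_le.2 ⟨sylow_le hI hB hvS,
      mem_centralizer_singleton_iff.2 rfl⟩)) h5) (by omega)
  have hsq : ∀ y ∈ T₀, y * y ∈ centralizer (U : Set G) := by
    intro y hy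
    rcases hR y hy with h | h
    · exact mul_mem h h
    · have hc : Commute y v := mem_centralizer_singleton_iff.1 hy.2
      have := mul_mem h h
      rwa [hc.symm.mul_mul_mul_comm, Invol.inv_mul_self hv2, mul_one] at this
  have hzT : (z : G) ∈ T₀ := ⟨z.2, mem_centralizer_singleton_iff.2 (hzs v hvS).eq⟩
  have hvT : v ∈ T₀ := ⟨hvS, mem_centralizer_singleton_iff.2 rfl⟩
  set z' := x * (z : G) * x⁻¹ with hz'
  have hz'T : z' ∈ T₀ := (mem_normalizer_iff.1 hxn (z : G)).1 hzT
  have hz'2 : z' * z' = 1 := Invol.inv_mul_self (by rw [hz', orderOf_conj_eq, hzG])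
  have hz'eq : z' = (z : G) * v := by
    have hz'1 : z' ≠ 1 := fun e => Invol.ne_one hzG (by simpa [hz'] using e)
    have hz'z : z' ≠ (z : G) := fun e => hxM (hzC (mem_centralizer_singleton_iff.2 (by
      calc x * (z : G) = z' * x := by rw [hz']; group
        _ = (z : G) * x := by rw [e])))
    have hz'v : z' ≠ v := fun e => by
      apply hvU
      have : (z : G) = v := by
        calc (z : G) = x⁻¹ * z' * x := by rw [hz']; group
          _ = x⁻¹ * (v * x) := by rw [e, mul_assoc]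
          _ = v := by rw [← hxv.eq, inv_mul_cancel_left]
      rw [← this]
      exact mem_centralizer_iff.2 fun u hu => (hzs u (hB.le hu)).symm.eq
    rcases hR z' hz'T with h | h
    · rcases hinv z' hz'T h hz'2 with e | e
      · exact absurd e hz'1
      · exact absurd e hz'z
    · have hc : Commute z' v := mem_centralizer_singleton_iff.1 hz'T.2
      rcases hinv _ (mul_mem hz'T hvT) h
        (by rw [hc.symm.mul_mul_mul_comm, hz'2, Invol.inv_mul_self hv2, one_mul]) with e | e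
      · exact absurd (by rw [eq_inv_of_mul_eq_one_left e, Invol.inv_eq_self hv2]) hz'v
      · rw [← e, mul_assoc, Invol.inv_mul_self hv2, mul_one]
  have hexp : ∀ y ∈ T₀, y ∈ centralizer (U : Set G) → y * y = 1 := by
    intro y hy hyc
    obtain ⟨k, hk⟩ := IsPGroup.iff_orderOf.1 (S.2.to_le (inf_le_left : T₀ ≤ (S : Subgroup G))) ⟨y, hy⟩
    rw [Subgroup.orderOf_mk] at hk
    by_contra hy2
    obtain ⟨j, rfl⟩ : ∃ j, k = j + 2 := by
      refine ⟨k - 2, ?_⟩
      by_contra hk2
      refine hy2 ?_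
      rw [← pow_two, ← orderOf_dvd_iff_pow_eq_one, hk, show (2 : ℕ) = 2 ^ 1 from rfl, ← pow_mul]
      exact pow_dvd_pow 2 (by omega)
    set q := y ^ 2 ^ j
    have hq4 : orderOf q = 4 := by
      rw [orderOf_pow_of_dvd (pow_ne_zero _ two_ne_zero) (hk ▸ pow_dvd_pow 2 (by omega)), hk, pow_add,
        Nat.mul_div_cancel_left _ (pow_pos two_pos j)]
      norm_num
    have hqT : q ∈ T₀ := pow_mem hy _
    have hqq : q * q = (z : G) := by
      refine (hinv _ (mul_mem hqT hqT) (mul_mem (pow_mem hyc _) (pow_mem hyc _)) ?_).resolve_left fun e => ?_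
      · rw [← pow_two, ← pow_two, ← pow_mul, show 2 * 2 = orderOf q by rw [hq4], pow_orderOf_eq_one]
      · have := orderOf_dvd_of_pow_eq_one (show q ^ 2 = 1 by rw [pow_two]; exact e)
        rw [hq4] at this; omega
    have h1 := hsq _ ((mem_normalizer_iff.1 hxn q).1 hqT)
    rw [show x * q * x⁻¹ * (x * q * x⁻¹) = x * (q * q) * x⁻¹ by group, hqq, ← hz', hz'eq] at h1
    exact hvU (((centralizer (U : Set G)).mul_mem_cancel_left
      (mem_centralizer_iff.2 fun u hu => (hzs u (hB.le hu)).symm.eq)).1 h1)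
  -- so `C_S(v)` has order four
  have hT₀4 : ∀ y ∈ T₀, y = 1 ∨ y = (z : G) ∨ y = v ∨ y = (z : G) * v := by
    intro y hy
    rcases hR y hy with h | h
    · rcases hinv y hy h (hexp y hy h) with e | e
      exacts [Or.inl e, Or.inr (Or.inl e)]
    · rcases hinv _ (mul_mem hy hvT) h (hexp _ (mul_mem hy hvT) h) with e | e
      · exact Or.inr (Or.inr (Or.inl (by rw [eq_inv_of_mul_eq_one_left e, Invol.inv_eq_self hv2])))
      · exact Or.inr (Or.inr (Or.inr (by rw [← e, mul_assoc, Invol.inv_mul_self hv2, mul_one])))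
  have hcard4 : Nat.card ↥(centralizer ({(⟨v, hvS⟩ : (S : Subgroup G))} : Set (S : Subgroup G))) = 4 := by
    have hmem : ∀ y : (S : Subgroup G), y ∈ centralizer ({(⟨v, hvS⟩ : (S : Subgroup G))} : Set (S : Subgroup G)) ↔
        (y : G) ∈ T₀ := fun y => by
      rw [mem_centralizer_singleton_iff, hT₀, Subgroup.mem_inf, hCv, mem_centralizer_singleton_iff,
        Subtype.ext_iff]
      simp
    have h1 : Nat.card ↥(centralizer ({(⟨v, hvS⟩ : (S : Subgroup G))} : Set (S : Subgroup G))) ≤ 4 := by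
      classical
      refine le_trans (Nat.card_le_card_of_injective (fun y => (⟨((y.1 : (S : Subgroup G)) : G), by
        rcases hT₀4 _ ((hmem y.1).1 y.2) with e | e | e | e <;> simp [e]⟩ :
        ({1, (z : G), v, (z : G) * v} : Finset G))) fun a b e => Subtype.ext (Subtype.ext
          (congrArg (fun w : ({1, (z : G), v, (z : G) * v} : Finset G) => (w : G)) e))) ?_
      rw [Nat.card_eq_fintype_card, Fintype.card_coe]
      exact Finset.card_le_four
    have hzv : El (zpowers (z : G)) := by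
      rintro _ ⟨k, rfl⟩
      show (z : G) ^ k * (z : G) ^ k = 1
      rw [← (Commute.refl (z : G)).mul_zpow, Invol.inv_mul_self hzG, one_zpow]
    obtain ⟨-, -, h4⟩ := hzv.card_le_mul (Invol.inv_mul_self hv2) fun a ha => by
      obtain ⟨k, rfl⟩ := ha
      exact ((hzs v hvS).zpow_left k).eq
    have h5 := h4 fun e => hvU ((zpowers_le.2 (mem_centralizer_iff.2 fun u hu => (hzs u (hB.le hu)).symm.eq)) e)
    rw [Nat.card_zpowers, hzG] at h5
    refine le_antisymm h1 (h5.trans ?_)
    refine Nat.card_le_card_of_injective (fun a => ⟨⟨(a : G), sup_le (zpowers_le.2 z.2) (zpowers_le.2 hvS) a.2⟩,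
      (hmem _).2 (sup_le (zpowers_le.2 hzT) (zpowers_le.2 hvT) a.2)⟩) fun a b e => Subtype.ext
        (congrArg (fun w : ↥(centralizer ({(⟨v, hvS⟩ : (S : Subgroup G))} : Set (S : Subgroup G))) =>
          ((w.1 : (S : Subgroup G)) : G)) e)
  exact hr (Cfsg.Lib.StrongEmb.rankLE_two_of_card_four S.2 (by rw [Subgroup.orderOf_mk, hv2]) hcard4)


end Cfsg.Lib.Recog.OrderSix.Sgn
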