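import Mathlib

/-!
# The dicyclic group of order twelve and `SL(2,3)` by generators and relations

Each is recognised by a normal form: the group of order twelve by `a ^ i` and `x * a ^ i`, that of order
twenty-four by `x ^ i * w ^ j * y ^ m`, on which left multiplication by the generators is given by the same
tables.
-/

set_option autoImplicit false
set_option linter.style.haveILetI false

namespace Cfsg.Lib.Recog.OrderSix

variable {H : Type*} [Group H]

/-! ### Order twelve -/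

/-- A group of order twelve generated like the dicyclic group. -/
theorem quaternion_three_equiv (hH : Nat.card H = 12) {a x : H} (ha : orderOf a = 6) (hx2 : x * x = a ^ 3)
    (hxa : x * a * x⁻¹ = a⁻¹) (hxn : x ∉ Subgroup.zpowers a) : Nonempty (H ≃* QuaternionGroup 3) := by
  classical
  haveI : Finite H := Nat.finite_of_card_ne_zero (by omega)
  let p : ZMod (2 * 3) → H := fun i => a ^ i.val
  have hp : ∀ i j : ZMod (2 * 3), p (i + j) = p i * p j := fun i j => by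
    show a ^ (i + j).val = a ^ i.val * a ^ j.val
    rw [← pow_add, ZMod.val_add]
    have h6 := pow_mod_orderOf a (i.val + j.val)
    rw [ha] at h6
    exact h6
  have hp0 : p 0 = 1 := pow_zero a
  have hpn : ∀ i : ZMod (2 * 3), p (-i) = (p i)⁻¹ := fun i => by
    refine eq_inv_of_mul_eq_one_left ?_
    rw [← hp, neg_add_cancel, hp0]
  have hps : ∀ i j : ZMod (2 * 3), p (i - j) = p i * (p j)⁻¹ := fun i j => by
    rw [sub_eq_add_neg, hp, hpn]
  have hxp : ∀ i : ZMod (2 * 3), p i * x = x * (p i)⁻¹ := fun i => by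
    have h1 : x * p i * x⁻¹ = (p i)⁻¹ := by
      show x * a ^ i.val * x⁻¹ = (a ^ i.val)⁻¹
      rw [← conj_pow, hxa, inv_pow]
    calc p i * x = (x * p i * x⁻¹)⁻¹ * x := by rw [h1, inv_inv]
      _ = x * (p i)⁻¹ := by group
  let φ : QuaternionGroup 3 → H := fun g => match g with
    | .a i => p i
    | .xa i => x * p i
  have hmul : ∀ g g', φ (g * g') = φ g * φ g' := by
    rintro (i | i) (j | j)
    · rw [QuaternionGroup.a_mul_a]; exact hp i j
    · rw [QuaternionGroup.a_mul_xa]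
      show x * p (j - i) = p i * (x * p j)
      rw [← mul_assoc, hxp, mul_assoc, sub_eq_add_neg, add_comm, hp, hpn]
    · rw [QuaternionGroup.xa_mul_a]
      show x * p (i + j) = x * p i * p j
      rw [hp, mul_assoc]
    · rw [QuaternionGroup.xa_mul_xa]
      show p ((3 : ℕ) + j - i) = x * p i * (x * p j)
      have h3 : p ((3 : ℕ) : ZMod (2 * 3)) = x * x := by
        rw [hx2]
        rfl
      calc p ((3 : ℕ) + j - i) = p ((3 : ℕ) + (-i + j)) := by congr 1; ring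
        _ = x * x * ((p i)⁻¹ * p j) := by rw [hp, h3, hp, hpn]
        _ = x * (x * (p i)⁻¹) * p j := by group
        _ = x * (p i * x) * p j := by rw [hxp]
        _ = _ := by group
  let ψ : QuaternionGroup 3 →* H := MonoidHom.mk' φ hmul
  have hinj : Function.Injective ψ := by
    refine (injective_iff_map_eq_one ψ).2 ?_
    rintro (i | i) h
    · have h1 : a ^ i.val = 1 := h
      have h2 := Nat.eq_zero_of_dvd_of_lt (orderOf_dvd_iff_pow_eq_one.2 h1) (ha ▸ ZMod.val_lt i)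
      rw [QuaternionGroup.one_def]
      exact congrArg QuaternionGroup.a ((ZMod.val_eq_zero i).1 h2)
    · exfalso
      have h1 : x * a ^ i.val = 1 := h
      exact hxn (by rw [eq_inv_of_mul_eq_one_left h1]; exact inv_mem (pow_mem (Subgroup.mem_zpowers a) _))
  exact ⟨(MulEquiv.ofBijective ψ (hinj.bijective_of_nat_card_le
    (by rw [hH, Nat.card_eq_fintype_card, QuaternionGroup.card]))).symm⟩

/-! ### Order twenty-four -/

/-- The relations. -/
structure Rel24 (x w y : H) : Prop where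
  x4 : x ^ 4 = 1
  w2 : w * w = x * x
  wx : w * x * w⁻¹ = x⁻¹
  y3 : y ^ 3 = 1
  yx : y * x * y⁻¹ = w
  yw : y * w * y⁻¹ = x * w

/-- The normal form. -/
def nf24 (x w y : H) (q : Fin 4 × Fin 2 × Fin 3) : H := x ^ (q.1 : ℕ) * w ^ (q.2.1 : ℕ) * y ^ (q.2.2 : ℕ)

/-- Left multiplication by `x`. -/
def tx (q : Fin 4 × Fin 2 × Fin 3) : Fin 4 × Fin 2 × Fin 3 := (q.1 + 1, q.2.1, q.2.2)

/-- Left multiplication by `w`. -/
def tw (q : Fin 4 × Fin 2 × Fin 3) : Fin 4 × Fin 2 × Fin 3 :=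
  if q.2.1 = 0 then (-q.1, 1, q.2.2) else (-q.1 + 2, 0, q.2.2)

/-- Conjugation by `y` on the eight elements `x ^ i * w ^ j`. -/
def ty8 : Fin 4 × Fin 2 → Fin 4 × Fin 2
  | (0, 0) => (0, 0)
  | (1, 0) => (0, 1)
  | (2, 0) => (2, 0)
  | (3, 0) => (2, 1)
  | (0, 1) => (1, 1)
  | (1, 1) => (1, 0)
  | (2, 1) => (3, 1)
  | (3, 1) => (3, 0)

/-- Left multiplication by `y`. -/
def ty (q : Fin 4 × Fin 2 × Fin 3) : Fin 4 × Fin 2 × Fin 3 :=
  ((ty8 (q.1, q.2.1)).1, (ty8 (q.1, q.2.1)).2, q.2.2 + 1)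

variable {x w y : H}

theorem Rel24.mul_x (h : Rel24 x w y) (q : Fin 4 × Fin 2 × Fin 3) : x * nf24 x w y q = nf24 x w y (tx q) := by
  show x * (x ^ (q.1 : ℕ) * w ^ (q.2.1 : ℕ) * y ^ (q.2.2 : ℕ)) =
    x ^ ((q.1 + 1 : Fin 4) : ℕ) * w ^ (q.2.1 : ℕ) * y ^ (q.2.2 : ℕ)
  rw [Fin.val_add, ← pow_eq_pow_mod _ h.x4, pow_add, ← mul_assoc, ← mul_assoc]
  congr 2
  rw [show ((1 : Fin 4) : ℕ) = 1 from rfl, pow_one, ← pow_succ', pow_succ]

theorem Rel24.w_conj (h : Rel24 x w y) (i : ℕ) : w * x ^ i = (x ^ i)⁻¹ * w := by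
  have h1 : w * x ^ i * w⁻¹ = (x ^ i)⁻¹ := by rw [← conj_pow, h.wx, inv_pow]
  calc w * x ^ i = w * x ^ i * w⁻¹ * w := by group
    _ = (x ^ i)⁻¹ * w := by rw [h1]

theorem Rel24.inv_pow_x (h : Rel24 x w y) (i : Fin 4) : (x ^ (i : ℕ))⁻¹ = x ^ ((-i : Fin 4) : ℕ) := by
  refine inv_eq_of_mul_eq_one_right ?_
  rw [← pow_add, pow_eq_pow_mod _ h.x4, ← Fin.val_add, add_neg_cancel]
  simp

theorem Rel24.mul_w (h : Rel24 x w y) (q : Fin 4 × Fin 2 × Fin 3) : w * nf24 x w y q = nf24 x w y (tw q) := by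
  obtain ⟨i, j, m⟩ := q
  have h0 : w * nf24 x w y (i, j, m) = x ^ ((-i : Fin 4) : ℕ) * (w * w ^ (j : ℕ)) * y ^ (m : ℕ) := by
    show w * (x ^ (i : ℕ) * w ^ (j : ℕ) * y ^ (m : ℕ)) = _
    rw [← mul_assoc, ← mul_assoc, h.w_conj, h.inv_pow_x]
    group
  rw [h0]
  fin_cases j
  · show x ^ ((-i : Fin 4) : ℕ) * (w * w ^ 0) * y ^ (m : ℕ) = x ^ ((-i : Fin 4) : ℕ) * w ^ 1 * y ^ (m : ℕ)
    rw [pow_zero, mul_one, pow_one]
  · show x ^ ((-i : Fin 4) : ℕ) * (w * w ^ 1) * y ^ (m : ℕ) = x ^ ((-i + 2 : Fin 4) : ℕ) * w ^ 0 * y ^ (m : ℕ)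
    rw [pow_one, h.w2, pow_zero, mul_one, Fin.val_add, ← pow_eq_pow_mod _ h.x4, pow_add,
      show ((2 : Fin 4) : ℕ) = 2 from rfl, pow_two]

theorem Rel24.y_conj (h : Rel24 x w y) (i : Fin 4) (j : Fin 2) :
    y * (x ^ (i : ℕ) * w ^ (j : ℕ)) * y⁻¹ = x ^ ((ty8 (i, j)).1 : ℕ) * w ^ ((ty8 (i, j)).2 : ℕ) := by
  have e0 : y * (x ^ (i : ℕ) * w ^ (j : ℕ)) * y⁻¹ = w ^ (i : ℕ) * (x * w) ^ (j : ℕ) := by
    rw [show w ^ (i : ℕ) = y * x ^ (i : ℕ) * y⁻¹ by rw [← conj_pow, h.yx],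
      show (x * w) ^ (j : ℕ) = y * w ^ (j : ℕ) * y⁻¹ by rw [← conj_pow, h.yw]]
    group
  have hw1 : w * x = x ^ 3 * w := by
    have := h.w_conj 1
    rw [pow_one] at this
    rw [this]
    congr 1
    refine inv_eq_of_mul_eq_one_right ?_
    rw [← pow_succ', h.x4]
  have hw3 : w ^ 2 = x ^ 2 := by rw [pow_two, pow_two, h.w2]
  have hx5 : x ^ 2 * x ^ 3 = x := by rw [← pow_add, pow_succ, h.x4, one_mul]
  rw [e0]
  fin_cases i <;> fin_cases j
  · simp [ty8]
  · simp [ty8]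
  · simp [ty8]
  · show w ^ 1 * (x * w) ^ 1 = x ^ 1 * w ^ 0
    rw [pow_one, pow_one, ← mul_assoc, hw1, mul_assoc, ← pow_two, hw3, ← pow_add, pow_zero, mul_one, pow_one]
    exact by rw [pow_succ, h.x4, one_mul]
  · show w ^ 2 * (x * w) ^ 0 = x ^ 2 * w ^ 0
    rw [hw3, pow_zero, pow_zero]
  · show w ^ 2 * (x * w) ^ 1 = x ^ 3 * w ^ 1
    rw [hw3, pow_one, pow_one, ← mul_assoc, ← pow_succ]
  · show w ^ 3 * (x * w) ^ 0 = x ^ 2 * w ^ 1
    rw [pow_succ, hw3, pow_zero, mul_one, pow_one]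
  · show w ^ 3 * (x * w) ^ 1 = x ^ 3 * w ^ 0
    rw [pow_succ, hw3, pow_one, pow_zero, mul_one, mul_assoc, ← mul_assoc w, hw1, mul_assoc (x ^ 3), ← pow_two,
      hw3, ← mul_assoc, hx5, ← pow_succ']

theorem Rel24.mul_y (h : Rel24 x w y) (q : Fin 4 × Fin 2 × Fin 3) : y * nf24 x w y q = nf24 x w y (ty q) := by
  obtain ⟨i, j, m⟩ := q
  show y * (x ^ (i : ℕ) * w ^ (j : ℕ) * y ^ (m : ℕ)) =
    x ^ ((ty8 (i, j)).1 : ℕ) * w ^ ((ty8 (i, j)).2 : ℕ) * y ^ ((m + 1 : Fin 3) : ℕ)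
  rw [← h.y_conj i j, Fin.val_add, ← pow_eq_pow_mod _ h.y3, show ((1 : Fin 3) : ℕ) = 1 from rfl, pow_succ']
  group

/-- Groups with the relations and injective normal forms are isomorphic. -/
theorem rel24_equiv [Finite H] {K : Type*} [Group K] [Finite K] {x w y : H} {x' w' y' : K} (h : Rel24 x w y)
    (h' : Rel24 x' w' y') (hi : Function.Injective (nf24 x w y)) (hi' : Function.Injective (nf24 x' w' y'))
    (hc : Nat.card H = 24) (hc' : Nat.card K = 24) : Nonempty (H ≃* K) := by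
  have hq : Nat.card (Fin 4 × Fin 2 × Fin 3) = 24 := by simp [Nat.card_eq_fintype_card]
  let e := Equiv.ofBijective _ (hi.bijective_of_nat_card_le (by rw [hc, hq]))
  let e' := Equiv.ofBijective _ (hi'.bijective_of_nat_card_le (by rw [hc', hq]))
  let φ : H → K := fun g => e' (e.symm g)
  have hφ : ∀ q, φ (nf24 x w y q) = nf24 x' w' y' q := fun q => by
    show e' (e.symm (e q)) = _
    rw [e.symm_apply_apply]; rfl
  have hsurj : ∀ g, ∃ q, nf24 x w y q = g := fun g => ⟨e.symm g, e.apply_symm_apply g⟩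
  have hone : φ 1 = 1 := by
    have h0 : nf24 x w y (0, 0, 0) = 1 := by simp [nf24]
    rw [← h0, hφ]
    simp [nf24]
  have hgen : ∀ (g : H) (g' : K) (t : Fin 4 × Fin 2 × Fin 3 → Fin 4 × Fin 2 × Fin 3),
      (∀ q, g * nf24 x w y q = nf24 x w y (t q)) → (∀ q, g' * nf24 x' w' y' q = nf24 x' w' y' (t q)) →
      ∀ r, φ (g * r) = φ g * φ r := by
    intro g g' t hg hg' r
    obtain ⟨q, rfl⟩ := hsurj r
    have hgv : ∀ q, φ (g * nf24 x w y q) = g' * φ (nf24 x w y q) := fun q => by rw [hg, hφ, hφ, hg']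
    obtain ⟨q0, hq0⟩ := hsurj 1
    have h1 := hgv q0
    rw [hq0, mul_one, hone, mul_one] at h1
    rw [hgv, h1]
  let S : Submonoid H :=
    { carrier := {g | ∀ r, φ (g * r) = φ g * φ r}
      one_mem' := fun r => by rw [one_mul, hone, one_mul]
      mul_mem' := fun {a b} ha hb r => by rw [mul_assoc, ha, hb, ← mul_assoc, ← ha] }
  have hxS : x ∈ S := hgen x x' tx h.mul_x h'.mul_x
  have hwS : w ∈ S := hgen w w' tw h.mul_w h'.mul_w
  have hyS : y ∈ S := hgen y y' ty h.mul_y h'.mul_y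
  have hall : ∀ g, g ∈ S := fun g => by
    obtain ⟨q, rfl⟩ := hsurj g
    exact mul_mem (mul_mem (pow_mem hxS _) (pow_mem hwS _)) (pow_mem hyS _)
  exact ⟨MulEquiv.ofBijective (MonoidHom.mk' φ fun a b => hall a b) (e'.bijective.comp e.symm.bijective)⟩

/-- A quaternion element of `SL(2,3)`. -/
def slX : Matrix.SpecialLinearGroup (Fin 2) (ZMod 3) := ⟨!![0, 2; 1, 0], by decide +kernel⟩

/-- Its conjugate. -/
def slW : Matrix.SpecialLinearGroup (Fin 2) (ZMod 3) := ⟨!![1, 1; 1, 2], by decide +kernel⟩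

/-- An element of order three of `SL(2,3)`. -/
def slY : Matrix.SpecialLinearGroup (Fin 2) (ZMod 3) := ⟨!![1, 1; 0, 1], by decide +kernel⟩

theorem sl_rel : Rel24 slX slW slY := by
  constructor <;> (apply Subtype.ext; decide +kernel)

theorem sl_inj : Function.Injective (nf24 slX slW slY) := by
  have key : Function.Injective fun q => (nf24 slX slW slY q).1 := by decide +kernel
  exact fun a b hab => key (congrArg Subtype.val hab)

theorem sl_card : Nat.card (Matrix.SpecialLinearGroup (Fin 2) (ZMod 3)) = 24 := by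
  have key : Fintype.card {M : Matrix (Fin 2) (Fin 2) (ZMod 3) // M.det = 1} = 24 := by decide +kernel
  rw [← key, ← Nat.card_eq_fintype_card]
  rfl

/-- A group of order twenty-four with the relations is `SL(2,3)`. -/
theorem sl_two_three_equiv [Finite H] {x w y : H} (h : Rel24 x w y) (hc : Nat.card H = 24)
    (hi : Function.Injective (nf24 x w y)) :
    Nonempty (H ≃* Matrix.SpecialLinearGroup (Fin 2) (ZMod 3)) := by
  exact rel24_equiv h sl_rel hi sl_inj hc sl_card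

end Cfsg.Lib.Recog.OrderSix
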